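import Cfsg.Agent.MQ.Ev.Api
import Cfsg.Agent.MQ.WT.Chk
import Cfsg.Agent.LV.Cl.Conj_m3
import Cfsg.Agent.LV.W.C7
import Cfsg.Agent.MQ.HC.Mk
import Cfsg.Agent.MQ.Dg.Cong
import Cfsg.Agent.MQ.Mx.Irr
import Cfsg.Agent.Lib.ListFast
import Cfsg.Agent.FastGrp
import Cfsg.Agent.Prune
set_option linter.all false
prune_inst 0x7ffcbcf8afa8bddfdfff7e3fffdfddfc31804fffa6dff973ffe16bbf0b9f07210b8563a56de090fede57c29410a87843fb7eefffe86bdc7ffffd5ff41ffbee0fb5e63508519c8cb40fbc0fff03f177886f3ffffffffffffffffffffffffffffffffdfbfeffff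
open scoped Cfsg.Agent.FastGrp

-- part: MO/X/Lus
section
/-!
# MO/X: Lusztig's families on a twisted Weyl group and the boxes of the level `RC` (helper75)

* `Lc` : a classical block (functions `UD.Z`); `Le` : an exceptional block (a table `U.Tb`);
* `Lus tabs R y` : in all good coordinates the family `y` is the product of the families of the blocks, up to signs;
* `AllC tabs P m` : `Core` for all `R` with `P R`; `IrK`, `IrT` : connected types; `FinC`, `FinW` : the results;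
* boxes `BoxCA`, `BoxCB`, `BoxE1`, `BoxPr` (give `FinC`), `BoxW1`, `BoxWP` (give `FinW`), `BoxFK`, `BoxFam`, `BoxInj`, `BoxTA`, `BoxTI`;
* `Ec f Φ`, `JL tabs D` : the Lusztig series of a label, the statement J for a datum.
-/

set_option autoImplicit false
set_option linter.unusedSectionVars false

namespace Cfsg.Agent.MO.Rc

open CoxeterSystem Cfsg.Agent.Tits.Core Cfsg.Agent.Tits.Exchange Cfsg.Agent.MO.Crd Matrix
open Cfsg.Agent.LV.Cl (sgn)
open Cfsg.Agent.LV.W (Fit ga)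
open Cfsg.Agent.MO.J (Kn Ok)

/-- a sign -/
def Sn (ε : ℂ) : Prop := ε = 1 ∨ ε = -1

/-- **a classical block** -/
def Lc {R : RC} {ψ : MulAut R.W} {K : Set R.I} {κ : Kn} {n : ℕ} (E : Em R.cs ψ K κ n) (M : ℕ) {Λ : Type}
    (Y : Λ → R.W → ℂ) : Prop :=
  ∃ lab : Λ → UD.Lb, Set.BijOn lab Set.univ (UD.LB κ (sgn E.τ) M n) ∧
    ∀ i, ∀ z ∈ WJ R.cs K, Y i z = UD.Z κ M Finset.univ (lab i) (E.g z)

/-- a table -/
abbrev XT : Type := U.Tb

/-- **an exceptional block** -/
structure Le (tabs : List XT) (R : RC) (K : Set R.I) {Λ : Type} [Fintype Λ] (Y : Λ → R.W → ℂ) : Prop where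
  fam : FamK R R.ψ K Y
  ex : ∃ T ∈ tabs, ∃ em, Fit R.cs R.h R.ψ T.L.nd.toTy em K 1
  val : ∀ T ∈ tabs, ∀ em, Fit R.cs R.h R.ψ T.L.nd.toTy em K 1 → ∃ m : Λ → R.W → ℤ, T.Is R.cs em 1 m ∧
    ∀ i, ∃ ε, Sn ε ∧ ∀ u ∈ WJ R.cs K, Y i u = ε * m i u

/-- the family in the coordinates `C` -/
def Md (tabs : List XT) {R : RC} (C : Bk R) (M : C.B → ℕ) {ι : Type} (y : ι → R.W → ℂ) : Prop :=
  ∃ (Λ : C.B → Type) (_ : ∀ b, Fintype (Λ b)) (Y : ∀ b, Λ b → R.W → ℂ) (e : ι ≃ ∀ b, Λ b),
    (∀ b hb, Lc (C.E b hb) (M b) (Y b)) ∧ (∀ b, C.cl b = false → Le tabs R (C.K b) (Y b)) ∧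
    ∀ i, ∃ ε, Sn ε ∧ ∀ w, y i w = ε * ∏ b, Y b (e i b) (C.N b w)

/-- the family in all coordinates with the property `P` -/
def LusP (tabs : List XT) (P : ∀ R : RC, Bk R → Prop) (R : RC) {ι : Type} (y : ι → R.W → ℂ) : Prop :=
  ∀ (C : Bk R) (M : C.B → ℕ), P R C → (∀ b, C.cl b = true → Ok (C.κ b) (M b) (C.n b)) → Md tabs C M y

/-- all blocks are classical -/
def mC (R : RC) (C : Bk R) : Prop := ∀ b, C.cl b = true

/-- all blocks have the type `A` -/
def mA (R : RC) (C : Bk R) : Prop := ∀ b, C.cl b = true ∧ (C.κ b = .A ∨ C.κ b = .U)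

/-- at most one exceptional block, the other blocks have the type `A` -/
def mE (R : RC) (C : Bk R) : Prop := C.Good ∧ ∀ b, C.cl b = true → C.κ b = .A ∨ C.κ b = .U

/-- **Lusztig's family** -/
structure Lus (tabs : List XT) (R : RC) {ι : Type} (y : ι → R.W → ℂ) : Prop where
  ex : ∃ C : Bk R, C.Good ∧ (∀ b, Cn R.M (C.K b)) ∧ ∀ b, C.cl b = true → Big (C.κ b) (C.n b)
  md : LusP tabs (fun _ C => C.Good) R y

/-- generalised Harish-Chandra theory for the types `P`, from the model in the coordinates `m` -/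
def AllC (tabs : List XT) (P : RC → Prop) (m : ∀ R : RC, Bk R → Prop) : Prop :=
  ∀ (R' R : RC) (E : Emb R' R) (v : Ev R) (Γ : Subgroup (Au R)) (ι' ι : Type) [Fintype ι'] [Fintype ι]
    (y' : ι' → R'.W → ℂ) (y : ι → R.W → ℂ), P R → E.Mx v → LusP tabs m R' y' → LusP tabs m R y → Fam R' y' → Fam R y →
    Hy E Γ y' y → Core E Γ y' y

/-- **the result of the level `RC`** -/
def Fin0 (tabs : List XT)
    (Q : ∀ {R' R : RC} (_ : Emb R' R) (_ : Subgroup (Au R)) {ι' ι : Type} [Fintype ι'] [Fintype ι]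
      (_ : ι' → R'.W → ℂ) (_ : ι → R.W → ℂ), Prop) : Prop :=
  ∀ (R' R : RC) (E : Emb R' R) (v : Ev R) (Γ : Subgroup (Au R)) (ι' ι : Type) [Fintype ι'] [Fintype ι]
    (y' : ι' → R'.W → ℂ) (y : ι → R.W → ℂ), E.Mx v → Lus tabs R' y' → Lus tabs R y → Hy E Γ y' y → Q E Γ y' y

/-- the input of `DHC` -/
def FinC (tabs : List XT) : Prop := Fin0 tabs fun E Γ _ _ _ _ y' y => Core E Γ y' y

/-- the input of `Eta` -/
def FinW (tabs : List XT) : Prop := Fin0 tabs fun E Γ _ _ _ _ y' _ => ∀ i', WR E Γ (y' i')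

/-- connected, classical, of the kind `κ` and the rank `n` -/
def IrK (κ : Kn) (n : ℕ) (R : RC) : Prop := Cn R.M Set.univ ∧ Big κ n ∧ Nonempty (Em R.cs R.ψ Set.univ κ n)

/-- connected, of the type of the table -/
def IrT (T : XT) (R : RC) : Prop := ∃ em, Fit R.cs R.h R.ψ T.L.nd.toTy em Set.univ 1

/-- **box CA** : types `A`, `²A` -/
def BoxCA (tabs : List XT) : Prop := ∀ κ n, κ = .A ∨ κ = .U → AllC tabs (IrK κ n) mA

/-- **box CB** : types `B`, `D`, `²D` -/
def BoxCB (tabs : List XT) : Prop := ∀ κ n, κ = .B ∨ κ = .D → AllC tabs (IrK κ n) mC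

/-- **box E1**, one statement for each table -/
def BoxE1 (tabs : List XT) : Prop := ∀ T ∈ tabs, AllC tabs (IrT T) mE

/-- **box Pr** : products and restriction of scalars -/
def BoxPr (tabs : List XT) : Prop := BoxCA tabs → BoxCB tabs → BoxE1 tabs → FinC tabs

/-- **box W1** : the symmetry group of a connected diagram has cyclic Sylow subgroups -/
def BoxW1 : Prop := ∀ (R' R : RC) (E : Emb R' R) (Γ : Subgroup (Au R)) (f : R'.W → ℂ), Cn R.M Set.univ → WR E Γ f

/-- **box WP** -/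
def BoxWP (tabs : List XT) : Prop := BoxW1 → FinW tabs

/-- **box FK** : one classical block -/
def BoxFK : Prop := ∀ (R : RC) (ψ : MulAut R.W) (K : Set R.I) (κ : Kn) (n : ℕ) (E : Em R.cs ψ K κ n) (M : ℕ) (Λ : Type) [Fintype Λ]
  (Y : Λ → R.W → ℂ), (∀ g ∈ WJ R.cs K, ψ g ∈ WJ R.cs K) → Ok κ M n → Lc E M Y →
    FamK R ψ K Y ∧ ∀ i k (c : ℂ), (∀ u ∈ WJ R.cs K, Y i u = c * Y k u) → i = k

/-- **box Fam** -/
def BoxFam (tabs : List XT) : Prop := ∀ (R : RC) (C : Bk R) (M : C.B → ℕ) (ι : Type) [Fintype ι] (y : ι → R.W → ℂ),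
  (∀ b, C.cl b = false → C.f b = 1) → (∀ b, C.cl b = true → Ok (C.κ b) (M b) (C.n b)) → Md tabs C M y → Fam R y

/-- all blocks are classical -/
def TyC (R : RC) : Prop := ∃ C, mC R C

/-- all blocks have the type `A` -/
def TyA (R : RC) : Prop := ∃ C, mA R C

/-- **box Inj** : no twins in classical types -/
def BoxInj (tabs : List XT) : Prop := ∀ (R : RC) (ι : Type) (y : ι → R.W → ℂ), Lus tabs R y → TyC R →
  ∀ i k, y i = y k ∨ y i = -y k → i = k

/-- **box TA** : the proper Levi subcosets at a maximal eigenspace have the type `A` -/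
def BoxTA (tabs : List XT) : Prop := ∀ T ∈ tabs, ∀ (R' R : RC) (E : Emb R' R) (v : Ev R), IrT T R → E.Mx v →
  E.j.range ≠ ⊤ → TyA R'

/-- a subdiagram of type `G₂` -/
def HasG (R : RC) : Prop := ∃ i j, R.M i j = 6

/-- a subdiagram of type `F₄` -/
def HasF (R : RC) : Prop := ∃ i j k l, R.M i j = 3 ∧ R.M j k = 4 ∧ R.M k l = 3

/-- a subdiagram of type `E₆` -/
def HasE (R : RC) : Prop := ∃ em : ℕ → R.I, ∀ i < 6, ∀ j < 6, R.A (em i) (em j) = ga (aE 6) i j

/-- the twist exchanges long and short roots -/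
def HasS (R : RC) : Prop := ∃ i j, R.A (R.τ i) (R.τ j) ≠ R.A i j

/-- the information on twins -/
def TwI (R : RC) {ι : Type} (y : ι → R.W → ℂ) : Prop :=
  ∀ i k, i ≠ k → y i = y k ∨ y i = -y k → (HasS R ∧ ∀ l, y l = y i ∨ y l = -y i → l = i ∨ l = k) ∨
    ∃ (u : R.W) (d : ℕ) (ζ : ℂ), y i u ≠ 0 ∧ IsPrimitiveRoot ζ d ∧ Sp.Es (rd R u * md R 1) ζ ≠ ⊥ ∧
      (6 ≤ d.totient ∧ HasE R ∨ d = 12 ∧ HasF R ∨ d = 6 ∧ HasG R)

/-- **box TI** -/
def BoxTI (tabs : List XT) : Prop := ∀ (R : RC) (ι : Type) (y : ι → R.W → ℂ), Lus tabs R y → TwI R y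

/-! ### the statement J -/

open Cfsg.Agent.DL Cfsg.Agent.DL.PP Cfsg.Agent.KZ.Lie

variable {p : ℕ} [Fact p.Prime] {k : Type} [Field k] [CharP k p] {Y : Type} [Group Y] {N : Type} [Fintype N]
  [DecidableEq N] {ρ : Y →* GL N k} {F : MulAut Y} {G : Subgroup Y} [IsAlgClosed k] [Fintype ↥(GF F G)]

/-- the Lusztig series of the label -/
def Ec {D : Datum p ρ F G} (f : Fr D) {c : Lbl D} (Φ : LF D c) : Type :=
  {χ : ↥(GF F G) → ℂ // IsIrrCharacter _ χ ∧ Φ.yv f χ ≠ 0}

/-- **J** for the datum `D` -/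
def JL (tabs : List XT) (D : Datum p ρ F G) : Prop :=
  ∀ (f : Fr D) (c : Lbl D) (Φ : LF D c), Lus tabs Φ.toRC fun χ : Ec f Φ => Φ.yv f χ.1

example := And.intro @Sn.eq_def @Sn.eq_1
example := And.intro @Lc.eq_def @Lc.eq_1
example := And.intro @Md.eq_def @Md.eq_1
example := And.intro @LusP.eq_def @LusP.eq_1
example := And.intro @mC.eq_def @mC.eq_1
example := And.intro @mA.eq_def @mA.eq_1
example := And.intro @mE.eq_def @mE.eq_1
example := And.intro @AllC.eq_def @AllC.eq_1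
example := And.intro @Fin0.eq_def @Fin0.eq_1
example := And.intro @FinC.eq_def @FinC.eq_1
example := And.intro @FinW.eq_def @FinW.eq_1
example := And.intro @IrK.eq_def @IrK.eq_1
example := And.intro @IrT.eq_def @IrT.eq_1
example := And.intro @BoxCA.eq_def @BoxCA.eq_1
example := And.intro @BoxCB.eq_def @BoxCB.eq_1
example := And.intro @BoxE1.eq_def @BoxE1.eq_1
example := And.intro @BoxPr.eq_def @BoxPr.eq_1
example := And.intro @BoxW1.eq_def @BoxW1.eq_1
example := And.intro @BoxWP.eq_def @BoxWP.eq_1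
example := And.intro @BoxFK.eq_def @BoxFK.eq_1
example := And.intro @BoxFam.eq_def @BoxFam.eq_1
example := And.intro @TyC.eq_def @TyC.eq_1
example := And.intro @TyA.eq_def @TyA.eq_1
example := And.intro @BoxInj.eq_def @BoxInj.eq_1
example := And.intro @BoxTA.eq_def @BoxTA.eq_1
example := And.intro @HasG.eq_def @HasG.eq_1
example := And.intro @HasF.eq_def @HasF.eq_1
example := And.intro @HasE.eq_def @HasE.eq_1
example := And.intro @HasS.eq_def @HasS.eq_1
example := And.intro @TwI.eq_def @TwI.eq_1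
example := And.intro @BoxTI.eq_def @BoxTI.eq_1
example := And.intro @Ec.eq_def @Ec.eq_1
example := And.intro @JL.eq_def @JL.eq_1

end Cfsg.Agent.MO.Rc
end

-- part: MO/U/Td
section
/-! # MO / U : the tori of the nodes, generated data (helper48) -/

set_option autoImplicit false
set_option maxRecDepth 100000

namespace Cfsg.Agent.MO.U

open Cfsg.Agent.LV.W

def A1_d : Td where
  cy := [[-1, 1], [1, 1]]
  am := [1, 1]
  ex := List.map (fun n => (List.range 2).map fun j => n / 16 ^ j % 16) [0x1, 0x10]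
  sg := (List.range 2).map fun k => if 0x2 / 2 ^ k % 2 = 0 then 1 else -1
  wt := [1]
  x0 := 2

theorem A1_dOK : A1_d.ok 2 = true := by decide +kernel

def A2_d : Td where
  cy := [[-1, 1], [1, 1], [1, 1, 1]]
  am := [2, 1, 1]
  ex := List.map (fun n => (List.range 3).map fun j => n / 16 ^ j % 16) [0x2, 0x11, 0x100]
  sg := (List.range 3).map fun k => if 0x2 / 2 ^ k % 2 = 0 then 1 else -1
  wt := [1, 1]
  x0 := 2

theorem A2_dOK : A2_d.ok 3 = true := by decide +kernel

def A2_10_d : Td where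
  cy := [[-1, 1], [1, 1], [1, -1, 1]]
  am := [1, 2, 1]
  ex := List.map (fun n => (List.range 3).map fun j => n / 16 ^ j % 16) [0x11, 0x100, 0x20]
  sg := (List.range 3).map fun k => if 0x6 / 2 ^ k % 2 = 0 then 1 else -1
  wt := [1, 1]
  x0 := 2

theorem A2_10_dOK : A2_10_d.ok 3 = true := by decide +kernel

def B2_d : Td where
  cy := [[-1, 1], [1, 1], [1, 0, 1]]
  am := [2, 2, 1]
  ex := List.map (fun n => (List.range 3).map fun j => n / 16 ^ j % 16) [0x2, 0x11, 0x11, 0x100, 0x20]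
  sg := (List.range 5).map fun k => if 0x6 / 2 ^ k % 2 = 0 then 1 else -1
  wt := [1, 1]
  x0 := 2

theorem B2_dOK : B2_d.ok 5 = true := by decide +kernel

def B2_10_d : Td where
  cy := [[-1, 0, 2], [1, 2, 2], [1, -2, 2]]
  am := [1, 1, 1]
  ex := List.map (fun n => (List.range 3).map fun j => n / 16 ^ j % 16) [0x1, 0x100, 0x10]
  sg := (List.range 3).map fun k => if 0x6 / 2 ^ k % 2 = 0 then 1 else -1
  wt := [1, 2]
  x0 := 1

theorem B2_10_dOK : B2_10_d.ok 3 = true := by decide +kernel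

def G2_d : Td where
  cy := [[-1, 1], [1, 1], [1, 1, 1], [1, -1, 1]]
  am := [2, 2, 1, 1]
  ex := List.map (fun n => (List.range 4).map fun j => n / 16 ^ j % 16) [0x2, 0x11, 0x11, 0x1000, 0x100, 0x20]
  sg := (List.range 6).map fun k => if 0x6 / 2 ^ k % 2 = 0 then 1 else -1
  wt := [1, 1]
  x0 := 2

theorem G2_dOK : G2_d.ok 6 = true := by decide +kernel

def G2_10_d : Td where
  cy := [[-1, 0, 3], [1, 0, 3], [1, 3, 3], [1, -3, 3]]
  am := [1, 1, 1, 1]
  ex := List.map (fun n => (List.range 4).map fun j => n / 16 ^ j % 16) [0x1, 0x1000, 0x10, 0x100]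
  sg := (List.range 4).map fun k => if 0xe / 2 ^ k % 2 = 0 then 1 else -1
  wt := [3, 1]
  x0 := 1

theorem G2_10_dOK : G2_10_d.ok 4 = true := by decide +kernel

def F4_d : Td where
  cy := [[-1, 1], [1, 1], [1, 1, 1], [1, 0, 1], [1, -1, 1], [1, 0, 0, 0, 1], [1, 0, -1, 0, 1]]
  am := [4, 4, 2, 2, 2, 1, 1]
  ex := List.map (fun n => (List.range 7).map fun j => n / 16 ^ j % 16) [0x4, 0x13, 0x13, 0x102, 0x1002, 0x22, 0x22, 0x102, 0x10011, 0x1011, 0x111, 
    0x10011, 0x1011, 0x31, 0x31, 0x111, 0x1000000, 0x20000, 0x100000, 0x10020, 0x2000, 0x1020, 0x200, 0x10020, 0x40]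
  sg := (List.range 25).map fun k => if 0xff06 / 2 ^ k % 2 = 0 then 1 else -1
  wt := [1, 1, 1, 1]
  x0 := 2

theorem F4_dOK : F4_d.ok 25 = true := by decide +kernel

def F4_3210_d : Td where
  cy := [[-1, 0, 2], [1, 0, 2], [1, 2, 2], [1, -2, 2], [1, 0, -2, 0, 4], [1, 2, 2, 4, 4], [1, -2, 2, -4, 4]]
  am := [2, 2, 2, 2, 1, 1, 1]
  ex := List.map (fun n => (List.range 7).map fun j => n / 16 ^ j % 16) [0x2, 0x11, 0x1001, 0x101, 0x1000000, 0x10000, 0x1100, 0x100000, 0x20, 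
    0x2000, 0x200]
  sg := (List.range 11).map fun k => if 0xe / 2 ^ k % 2 = 0 then 1 else -1
  wt := [2, 2, 1, 1]
  x0 := 1

theorem F4_3210_dOK : F4_3210_d.ok 11 = true := by decide +kernel

def D4_2130_d : Td where
  cy := [[-1, 1], [1, 1], [1, 1, 1], [1, -1, 1], [1, 0, -1, 0, 1]]
  am := [2, 2, 2, 2, 1]
  ex := List.map (fun n => (List.range 5).map fun j => n / 16 ^ j % 16) [0x102, 0x1011, 0x111, 0x10000, 0x2000, 0x1020, 0x200]
  sg := (List.range 7).map fun k => if 0x6 / 2 ^ k % 2 = 0 then 1 else -1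
  wt := [1, 1, 1, 1]
  x0 := 2

theorem D4_2130_dOK : D4_2130_d.ok 7 = true := by decide +kernel

def E6_d : Td where
  cy := [[-1, 1], [1, 1], [1, 1, 1], [1, 0, 1], [1, 1, 1, 1, 1], [1, -1, 1], [1, 0, 0, 0, 1], [1, 0, 0, 1, 0, 0, 1], [1, 0, -1, 0, 1]]
  am := [6, 4, 3, 2, 1, 2, 1, 1, 1]
  ex := List.map (fun n => (List.range 9).map fun j => n / 16 ^ j % 16) [0x6, 0x15, 0x104, 0x24, 0x1013, 0x113, 0x33, 0x10002, 0x100022, 0x2002, 
    0x1022, 0x122, 0x202, 0x42, 0x100111, 0x1000011, 0x101011, 0x10011, 0x1031, 0x211, 0x100000100, 0x10000000, 0x200100, 0x100120, 0x300]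
  sg := (List.range 25).map fun k => if 0xfc072 / 2 ^ k % 2 = 0 then 1 else -1
  wt := [1, 1, 1, 1, 1, 1]
  x0 := 2

theorem E6_dOK : E6_d.ok 25 = true := by decide +kernel

def E6_514320_d : Td where
  cy := [[-1, 1], [1, 1], [1, 1, 1], [1, 0, 1], [1, -1, 1], [1, 0, 0, 0, 1], [1, -1, 1, -1, 1], [1, 0, -1, 0, 1], [1, 0, 0, -1, 0, 0, 1]]
  am := [4, 6, 2, 2, 3, 1, 1, 1, 1]
  ex := List.map (fun n => (List.range 9).map fun j => n / 16 ^ j % 16) [0x24, 0x1013, 0x33, 0x10102, 0x10022, 0x1022, 0x42, 0x122, 0x1000011, 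
    0x20011, 0x10111, 0x10031, 0x100011, 0x1111, 0x1031, 0x51, 0x100000000, 0x10010000, 0x1000020, 0x30000, 0x20020, 0x10200, 0x10040, 0x2020, 0x60]
  sg := (List.range 25).map fun k => if 0xff06 / 2 ^ k % 2 = 0 then 1 else -1
  wt := [1, 1, 1, 1, 1, 1]
  x0 := 2

theorem E6_514320_dOK : E6_514320_d.ok 25 = true := by decide +kernel

def E7_d : Td where
  cy := [[-1, 1], [1, 1], [1, 1, 1], [1, 0, 1], [1, 1, 1, 1, 1], [1, -1, 1], [1, 1, 1, 1, 1, 1, 1], [1, 0, 0, 0, 1], [1, 0, 0, 1, 0, 0, 1], [1, -1, 1, -1, 1], [1, 0, -1, 0, 1], [1, -1, 1, -1, 1, -1, 1], [1, 0, 0, -1, 0, 0, 1]]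
  am := [7, 7, 3, 2, 1, 3, 1, 1, 1, 1, 1, 1, 1]
  ex := List.map (fun n => (List.range 13).map fun j => n / 16 ^ j % 16) [0x7, 0x16, 0x105, 0x25, 0x1014, 0x114, 0x34, 0x34, 0x10003, 0x100023, 
    0x2003, 0x1023, 0x1023, 0x123, 0x203, 0x43, 0x43, 0x100112, 0x100112, 0x10000012, 0x101012, 0x10012, 0x100032, 0x2012, 0x1032, 0x1112, 0x1032, 
    0x212, 0x132, 0x52, 0x1000000021, 0x10001001, 0x200021, 0x1000001, 0x10000000101, 0x100000001, 0x200101, 0x100121, 0x100121, 0x10000021, 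
    0x101021, 0x10101, 0x100041, 0x2021, 0x1121, 0x1041, 0x301, 0x61, 0x1000000000010, 0x100000000010, 0x10000100010, 0x1000100010, 0x1000000030, 
    0x10001010, 0x300010, 0x200030, 0x100210, 0x100050, 0x2030, 0x70]
  sg := (List.range 60).map fun k => if 0xfff00003ffe00f2 / 2 ^ k % 2 = 0 then 1 else -1
  wt := [1, 1, 1, 1, 1, 1, 1]
  x0 := 2

theorem E7_dOK : E7_d.ok 60 = true := by decide +kernel

def E8_d : Td where
  cy := [[-1, 1], [1, 1], [1, 1, 1], [1, 0, 1], [1, 1, 1, 1, 1], [1, -1, 1], [1, 1, 1, 1, 1, 1, 1], [1, 0, 0, 0, 1], [1, 0, 0, 1, 0, 0, 1], [1, -1, 1, -1, 1], [1, 0, -1, 0, 1], [1, -1, 1, -1, 1, -1, 1], [1, -1, 0, 1, -1, 1, 0, -1, 1], [1, 0, 0, -1, 0, 0, 1], [1, 0, -1, 0, 1, 0, -1, 0, 1], [1, 0, 0, 0, -1, 0, 0, 0, 1], [1, 1, 0, -1, -1, -1, 0, 1, 1]]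
  am := [8, 8, 4, 4, 2, 4, 1, 2, 1, 2, 2, 1, 1, 1, 1, 1, 1]
  ex := List.map (fun n => (List.range 17).map fun j => n / 16 ^ j % 16) [0x8, 0x17, 0x106, 0x26, 0x1015, 0x115, 0x35, 0x10004, 0x100024, 0x2004, 
    0x1024, 0x124, 0x204, 0x44, 0x44, 0x100113, 0x10000013, 0x101013, 0x10013, 0x100033, 0x2013, 0x1033, 0x1113, 0x1033, 0x213, 0x133, 0x53, 
    0x1000002, 0x1000000022, 0x10001002, 0x200022, 0x10000000102, 0x100000002, 0x200102, 0x100122, 0x100122, 0x10000022, 0x101022, 0x10022, 0x10102, 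
    0x100122, 0x100042, 0x2102, 0x2022, 0x1122, 0x2022, 0x1042, 0x302, 0x222, 0x142, 0x62, 0x10000001011, 0x1000001011, 0x10100011, 0x10001011, 
    0x10000000000011, 0x100000000011, 0x10000100011, 0x1000100011, 0x10001011, 0x1000011, 0x1000000031, 0x300011, 0x200031, 0x10000000111, 
    0x100000011, 0x200111, 0x100131, 0x100211, 0x10000111, 0x10000031, 0x101111, 0x101031, 0x11011, 0x10111, 0x100051, 0x3011, 0x2031, 0x1131, 
    0x1051, 0x311, 0x71, 0x10000000000000000, 0x1000000000000000, 0x100000000000000, 0x1000000000000, 0x20000000000, 0x100000000020, 0x10000002000, 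
    0x10000000100000, 0x2000000000, 0x1000100020, 0x10000200000, 0x20000000, 0x100000100, 0x10000000000020, 0x10000100020, 0x10001020, 0x1000000040, 
    0x400000, 0x300020, 0x200040, 0x10000000200, 0x200200, 0x100220, 0x102020, 0x20000, 0x100060, 0x4000, 0x2040, 0x400, 0x80]
  sg := (List.range 112).map fun k => if 0x3fffffff8000007ff8072 / 2 ^ k % 2 = 0 then 1 else -1
  wt := [1, 1, 1, 1, 1, 1, 1, 1]
  x0 := 2

theorem E8_dOK : E8_d.ok 112 = true := by decide +kernel

end Cfsg.Agent.MO.U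
end

-- part: MO/U/Tb3
section
/-! # MO / U : the tables, generated data (helper48); `X_kl` are the further candidates, which do not occur -/

set_option autoImplicit false
set_option maxRecDepth 100000

namespace Cfsg.Agent.MO.U

open Cfsg.Agent.LV.W Cfsg.Agent.LV.Enum

noncomputable def A1_tb : Tb where
  L := A1_L
  d := A1_d
  sl := [1, 1]
  N := 1
  V := [[1], [0, 1]]
  mu := [1, 1]
  ws := []
  cl := []
  tst := fun _ => false
  bx := 0

def A1_kl : List (List ℤ) := []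

theorem A1_cls : all2 (clsOK A1) A1_tb.ws A1_tb.cl = true := by decide +kernel

noncomputable def A2_tb : Tb where
  L := A2_L
  d := A2_d
  sl := [2, 1, 1]
  N := 1
  V := [[1], [0, 0, 1], [0, 1]]
  mu := [1, 1, 1]
  ws := []
  cl := []
  tst := fun _ => false
  bx := 0

def A2_kl : List (List ℤ) := []

theorem A2_cls : all2 (clsOK A2) A2_tb.ws A2_tb.cl = true := by decide +kernel

noncomputable def A2_10_tb : Tb where
  L := A2_10_L
  d := A2_10_d
  sl := [1, 2, 1]
  N := 1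
  V := [[1], [0, 0, -1], [0, 1]]
  mu := [1, 1, 1]
  ws := []
  cl := []
  tst := fun _ => false
  bx := 0

def A2_10_kl : List (List ℤ) := []

theorem A2_10_cls : all2 (clsOK A2_10) A2_10_tb.ws A2_10_tb.cl = true := by decide +kernel

noncomputable def B2_tb : Tb where
  L := B2_L
  d := B2_d
  sl := [2, 2, 1]
  N := 2
  V := [[2], [0, 1, -1, 0, 1], [0, 1, 1, 0, 1], [0, -1, 1, 0, 1], [0, -1, -1, 0, 1], [0, 0, 0, 2]]
  mu := [1, 1, 1, 1, 1, 1]
  ws := [[], [1], [0], [1, 0]]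
  cl := [256, 257, 258, 259]
  tst := fun l => l == [1, 1, -1, -1]
  bx := 0

def B2_kl : List (List ℤ) := [[0, 0, 2], [0, 2], [0, 0, 0, 0, 2]]

theorem B2_cls : all2 (clsOK B2) B2_tb.ws B2_tb.cl = true := by decide +kernel

noncomputable def B2_10_tb : Tb where
  L := B2_10_L
  d := B2_10_d
  sl := [1, 1, 1]
  N := 1
  V := [[1], [0, 0, -1], [0, 1]]
  mu := [1, 2, 1]
  ws := []
  cl := []
  tst := fun _ => false
  bx := 0

def B2_10_kl : List (List ℤ) := []

theorem B2_10_cls : all2 (clsOK B2_10) B2_10_tb.ws B2_10_tb.cl = true := by decide +kernel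

noncomputable def G2_tb : Tb where
  L := G2_L
  d := G2_d
  sl := [2, 2, 1, 1]
  N := 6
  V := [[6], [0, -2, -2, 0, 2], [0, 2, 2, 0, 1, -3], [0, 0, 0, 0, 3, -3], [0, 2, 2, 0, 1, 3], [0, 0, 0, 0, 3, 3], [0, 4, -2, 0, 2], [0, -2, 4, 0, 2],
    [0, 0, 0, 6]]
  mu := [1, 2, 1, 1, 1, 1, 1, 1, 1]
  ws := [[], [1], [0], [1, 0]]
  cl := [256, 257, 258, 259]
  tst := fun l => l == [1, 1, -1, -1]
  bx := 0

def G2_kl : List (List ℤ) := [[0, 2, 2, 0, 4], [0, 6], [0, 0, 6]]

theorem G2_cls : all2 (clsOK G2) G2_tb.ws G2_tb.cl = true := by decide +kernel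

end Cfsg.Agent.MO.U
end

-- part: MO/U/Tb4
section
/-! # MO / U : the tables, generated data (helper48); `X_kl` are the further candidates, which do not occur -/

set_option autoImplicit false
set_option maxRecDepth 100000

namespace Cfsg.Agent.MO.U

open Cfsg.Agent.LV.W Cfsg.Agent.LV.Enum

noncomputable def F4_tb : Tb where
  L := F4_L
  d := F4_d
  sl := [4, 4, 2, 2, 2, 1, 1]
  N := 24
  V := List.map (unz 4) [0x306, 0x61402eb850000, 0x614030b850000, 0x614030b750000, 0x61402eb750000, 0x3060000000000000000000, 0x3060000000000000000,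
    0x306000000000000000, 0x10500000000f4f40000000000000, 0x1691063c60000105861698ed00000031e30, 0x1891063c60000105861898f100000031e30,
    0xc40b4b4000000000c40000000c4c40, 0x430c4c400000f48400c40000000c4c40, 0x4140000000206f40000000000000, 0xb4c614e980000062062497100000029d30,
    0x175c40c4c4000000000c40000000b4b40, 0x188169680000018500b40000000b4b40, 0xc4c614e98000006205a496d00000029d30,
    0x185c40c4c4000000000c40000000b4b40, 0x2d31849698000006205a53c400000092d30, 0x2d31853928000006206253b4000000a7250,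
    0x188189680000000185b40000000b4c40, 0x188169880000000016985000000c4b40, 0x188189680000000175b40000000b4c40,
    0x3131853928000006205a53c4000000a7250, 0x3131849698000006206253b400000092d30, 0x188169880000000016975000000c4b40, 0x306000000000000000000,
    0x30600000000000000000, 0x3060000000000000000000000, 0x61400030b75000000, 0x61400030b85000000, 0x6140002eb85000000, 0x6140002eb75000000, 0x306000]
  mu := [1, 1, 1, 1, 1, 1, 1, 1, 2, 1, 1, 2, 1, 1, 1, 1, 1, 1, 1, 1, 1, 1, 1, 1, 1, 1, 1, 1, 1, 1, 1, 1, 1, 1, 1]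
  ws := [[], [1], [2], [1, 2], [1, 2, 1, 2]]
  cl := [256, 258, 78337, 4356, 261]
  tst := fun l => decide (dot [1, -2, 2, 2, -3] l < 0) || decide (dot [1, 2, -2, 2, -3] l < 0)
  bx := 0

def F4_kl : List (List ℤ) := List.map (unz 4) [0x30600000, 0x3060000, 0x30600000000, 0x30b88189880000018500b40000000c4c40,
    0xc2800000000005d6eb75000000000, 0x41400000003d2060000000000000, 0xc286170a000001850000000000000, 0x818000000020b050000000000000,
    0xc285d6ea000001850000000000000, 0xc2805d40000002eb750, 0x2eb88189880000018500b40000000c4c40, 0xc280000000000616eb85000000000,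
    0x306000000000000000000000, 0x21030b750000082f30000000000000, 0xc28616ea000001850000000000000, 0xc280000005d430a000000001850,
    0xc28000005d40030a0000018500, 0x30600000000000000000000, 0x2102eb850000082f30000000000000, 0xc285d70a000001850000000000000,
    0xba8000006140030a0000017500, 0x3060, 0x306000000000, 0x30600000000000, 0x30600, 0xba800000061430a000000001750, 0x306000000, 0x3060000000,
    0x306000000000000]

theorem F4_cls : all2 (clsOK F4) F4_tb.ws F4_tb.cl = true := by decide +kernel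

noncomputable def F4_3210_tb : Tb where
  L := F4_3210_L
  d := F4_3210_d
  sl := [2, 2, 2, 2, 1, 1, 1]
  N := 12
  V := [[12], [0, 0, 0, 0, 0, 0, 0, -12], [0, 0, 12], [0, 0, 0, 0, 4, -4, 0, 0, 0, 0, -8], [0, 0, 0, 0, 3, 0, -3, 0, 0, -6],
    [0, 0, 0, 0, 1, 2, -3, 0, 0, -6, 4], [0, 0, 0, 0, 3, 0, -3, 0, 0, 6], [0, 0, 0, 0, 1, 2, -3, 0, 0, 6, 4], [0, 0, 0, 0, 4, -4, 0, 0, 0, 0, 4],
    [0, 0, 0, 0, 2, 4, -6, 0, 0, 0, -4], [0, 0, 0, 0, 6, 0, 6], [0, 0, 0, 0, 3, 6, 3, 0, 0, 6], [0, 0, 0, 0, 3, 6, 3, 0, 0, -6], [0, 12],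
    [0, 0, 0, 0, 0, 0, 0, 0, -12], [0, 0, 0, 12]]
  mu := [1, 2, 1, 1, 2, 1, 2, 1, 2, 1, 1, 1, 1, 1, 2, 1]
  ws := [[2, 1, 2, 3, 2, 1, 0, 2, 1, 2, 3, 2, 1, 0, 2, 1, 2, 3], [1, 0, 3, 2, 1, 0, 2, 1]]
  cl := [266, 262]
  tst := fun l => decide ((nth 0 l 0 - nth 0 l 1) % 4 = 2)
  bx := 10

def F4_3210_kl : List (List ℤ) := [[0, 0, 0, 0, 2, -2, 0, 0, 0, 0, -4], [0, 0, 0, 0, 6, 0, -6, 0, 0, -12], [0, 0, 0, 0, 0, 0, 0, 0, 0, 12],
    [0, 0, 0, 0, 6, 0, -6, 0, 0, 12], [0, 0, 0, 0, 0, 6, -6], [0, 0, 0, 0, 6, 6]]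

theorem F4_3210_cls : all2 (clsOK F4_3210) F4_3210_tb.ws F4_3210_tb.cl = true := by decide +kernel

noncomputable def D4_2130_tb : Tb where
  L := D4_2130_L
  d := D4_2130_d
  sl := [4, 4, 3, 3, 1]
  N := 2
  V := [[2], [0, 2], [0, 0, 0, 0, 1, -1, -1], [0, 0, 0, 0, 1, 1, 1], [0, 0, 0, 0, 1, 1, -1], [0, 0, 0, 0, 1, -1, 1], [0, 0, 2], [0, 0, 0, 2]]
  mu := [1, 1, 1, 1, 1, 1, 1, 1]
  ws := []
  cl := []
  tst := fun _ => false
  bx := 0

def D4_2130_kl : List (List ℤ) := [[0, 0, 0, 0, 0, 0, 2]]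

theorem D4_2130_cls : all2 (clsOK D4_2130) D4_2130_tb.ws D4_2130_tb.cl = true := by decide +kernel

end Cfsg.Agent.MO.U
end

-- part: MO/U/Tb6
section
/-! # MO / U : the tables, generated data (helper48); `X_kl` are the further candidates, which do not occur -/

set_option autoImplicit false
set_option maxRecDepth 100000

namespace Cfsg.Agent.MO.U

open Cfsg.Agent.LV.W Cfsg.Agent.LV.Enum

noncomputable def E6_tb : Tb where
  L := E6_L
  d := E6_d
  sl := [8, 6, 4, 2, 1, 3, 1, 1, 1]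
  N := 6
  V := List.map (unz 4) [0xc4, 0xc400, 0xc4000000000, 0x18c00000031d300000, 0x18c00000031e300000, 0x18c00000029e300000, 0x18c00000029d300000,
    0xc40000000000000000000, 0xc40000000000000000, 0xc4000000000000, 0xc40000000000000000000000, 0x32008600000000010c0000320000,
    0x10c022000c6000001100000430000, 0x10c022000a6000001100000430000, 0x18c0029800000530000000000, 0x18c0031800000530000000000,
    0xc802180000000004300000840000, 0x84008600000000010c0000320000, 0xc400000000000000000000000, 0xc4000000000000000000, 0xc40000000000000,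
    0xc400000000000000000000, 0x18c0000029e30000000, 0x18c0000031e30000000, 0x18c0000031d30000000, 0x18c0000029d30000000, 0xc400000000000, 0xc4000,
    0xc40]
  mu := [1, 1, 1, 1, 1, 1, 1, 1, 1, 1, 1, 2, 1, 1, 1, 1, 1, 1, 1, 1, 1, 1, 1, 1, 1, 1, 1, 1, 1]
  ws := []
  cl := []
  tst := fun _ => false
  bx := 0

def E6_kl : List (List ℤ) := List.map (unz 4) [0xc400000, 0xc40000000]

theorem E6_cls : all2 (clsOK E6) E6_tb.ws E6_tb.cl = true := by decide +kernel

noncomputable def E6_514320_tb : Tb where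
  L := E6_514320_L
  d := E6_514320_d
  sl := [6, 8, 3, 2, 4, 1, 1, 1, 1]
  N := 6
  V := List.map (unz 4) [0xc4, 0xc40000, 0xc4000000, 0x18c00002980000000005300, 0x18c00002980000000006300, 0x18c00003180000000006300,
    0x18c00003180000000005300, 0xb400000000000000000000000, 0xc4000000000000000, 0xc40000000, 0xc400000000000000000, 0x10c0000000032c803200000000,
    0x8a980000000438601100000000, 0x8b180000000438601100000000, 0x18e98000000000006300000000, 0x18f18000000000006300000000,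
    0x43000000000ca1003200000000, 0x4300000000084c803200000000, 0xc4000000000000000000, 0xc40000000000000000, 0xc4000000000,
    0xb4000000000000000000000000, 0x18c000031800000000000630, 0x18c000031800000000000530, 0x18c000029800000000000630, 0x18c000029800000000000530,
    0xc40000000000, 0xc400000, 0xc4000]
  mu := [1, 1, 1, 1, 1, 1, 1, 1, 1, 1, 1, 2, 1, 1, 1, 1, 1, 1, 1, 1, 1, 1, 1, 1, 1, 1, 1, 1, 1]
  ws := []
  cl := []
  tst := fun _ => false
  bx := 0

def E6_514320_kl : List (List ℤ) := List.map (unz 4) [0xc400, 0xc40]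

theorem E6_514320_cls : all2 (clsOK E6_514320) E6_514320_tb.ws E6_514320_tb.cl = true := by decide +kernel

end Cfsg.Agent.MO.U
end

-- part: MO/U/Tb7
section
/-! # MO / U : the tables, generated data (helper48); `X_kl` are the further candidates, which do not occur -/

set_option autoImplicit false
set_option maxRecDepth 100000

namespace Cfsg.Agent.MO.U

open Cfsg.Agent.LV.W Cfsg.Agent.LV.Enum

noncomputable def E7_tb : Tb where
  L := E7_L
  d := E7_d
  sl := [9, 9, 4, 2, 1, 4, 1, 1, 1, 1, 1, 1, 1]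
  N := 6
  V := List.map (unz 4) [0xc4, 0xc400, 0xc40000000000, 0xc4000000000, 0x18c00298006300000000, 0x18c00298005300000000, 0x18c00318006300000000,
    0x18c00318005300000000, 0x18c003180000000000000000005300000, 0x18c002980000000000000000005300000, 0x18c003180000000000000000006300000,
    0x18c002980000000000000000006300000, 0xc4000000000000000000000000000000000, 0xc4000000000000000000000000000000000000000,
    0xc4000000000000000000000000000000, 0xc400000000000000000000000000, 0xc40000000000000000000000000000000000000,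
    0x2180640000000000000000000000000190004300000000000000, 0x110043a600000000000000000000000010c002200000000000000,
    0x110043c600000000000000000000000010c002200000000000000, 0x18c0031800000000000000000000000000005300000000000000,
    0x18c0029800000000000000000000000000005300000000000000, 0x8601900000000000000000000000000420004300000000000000,
    0x8601080000000000000000000000000190004300000000000000, 0x18c00000000002980000063000000000000000000000000000000000000,
    0x18c00000000002980000053000000000000000000000000000000000000, 0x18c00000000003180000063000000000000000000000000000000000000,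
    0x18c00000000003180000053000000000000000000000000000000000000, 0xc40000000000000000000000000000000000000000000000000000,
    0x18c000318000000000000000000000000000006300000000000000000000, 0x18c000298000000000000000000000000000006300000000000000000000,
    0x18c000298000000000000000000000000000005300000000000000000000, 0x18c000318000000000000000000000000000005300000000000000000000,
    0xc400000000000000000000000000000000000000000, 0xc40000000000000000000000, 0x31e30000000000000000000000000000000000000000000000000000000000,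
    0x29e30000000000000000000000000000000000000000000000000000000000, 0x18c0000029800000000000000000000000000063000000000000000000000,
    0x18c0000029800000000000000000000000000053000000000000000000000, 0x18c0000031800000000000000000000000000063000000000000000000000,
    0x18c0000031800000000000000000000000000053000000000000000000000, 0xc400000000000000000000000000000000000000, 0xc4000000000000000000000000000,
    0xc400000000000000000000000000000000000000000000000000000, 0x18c0000000000298000000630000000000000000000000000000000000,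
    0x18c0000000000298000000530000000000000000000000000000000000, 0x18c0000000000318000000630000000000000000000000000000000000,
    0x18c0000000000318000000530000000000000000000000000000000000, 0x21806400000000000000000000000001900000430000000000000,
    0x1105386000000000000000000000000010c0000220000000000000, 0x1106386000000000000000000000000010c0000220000000000000,
    0x18c31800000000000000000000000000000000530000000000000, 0x18c29800000000000000000000000000000000530000000000000,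
    0x86019000000000000000000000000004200000430000000000000, 0x86010800000000000000000000000001900000430000000000000,
    0xc400000000000000000000000000000000, 0xc40000000000000000000000000000000000000000, 0xc40000000000000000000000000000000,
    0xc400000000000000000000000, 0xc400000000000000000000000000000000000, 0x18c00318000000000000000000530000, 0x18c00298000000000000000000530000,
    0x18c00318000000000000000000630000, 0x18c00298000000000000000000630000, 0x18c298000000630000000, 0x18c298000000530000000,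
    0x18c318000000630000000, 0x18c318000000530000000, 0xc4000000, 0xc400000000000, 0xc4000, 0xc40]
  mu := [1, 1, 1, 1, 1, 1, 1, 1, 1, 1, 1, 1, 1, 1, 1, 1, 1, 2, 1, 1, 1, 1, 1, 1, 1, 1, 1, 1, 1, 1, 1, 1, 1, 1, 1, 2, 2, 1, 1, 1, 1, 1, 1, 1, 1, 1, 1,
    1, 2, 1, 1, 1, 1, 1, 1, 1, 1, 1, 1, 1, 1, 1, 1, 1, 1, 1, 1, 1, 1, 1, 1, 1]
  ws := []
  cl := []
  tst := fun _ => false
  bx := 0

def E7_kl : List (List ℤ) := List.map (unz 4) [0xc400000000, 0xc40000000000000000000000000, 0xc4000000000000000000000000000000000000,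
    0xc40000000000000000000000000000000000, 0xc4000000000000000000000000, 0xc40000000]

theorem E7_cls : all2 (clsOK E7) E7_tb.ws E7_tb.cl = true := by decide +kernel

end Cfsg.Agent.MO.U
end

-- part: MO/U/Tb8
section
/-! # MO / U : the tables, generated data (helper48); `X_kl` are the further candidates, which do not occur -/

set_option autoImplicit false
set_option maxRecDepth 100000

namespace Cfsg.Agent.MO.U

open Cfsg.Agent.LV.W Cfsg.Agent.LV.Enum

noncomputable def E8_tb : Tb where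
  L := E8_L
  d := E8_d
  sl := [8, 8, 4, 4, 2, 4, 1, 2, 1, 2, 2, 1, 1, 1, 1, 1, 1]
  N := 120
  V := List.map (unz 4) [0xf08, 0xf0800, 0xf08000000, 0x1e1c3bb800000007870000, 0x1e1c3bb800000007770000, 0x1e1c3c3800000007870000,
    0x1e1c3c3800000007770000, 0x1e1c0003bb8000000078700000000, 0x1e1c0003bb8000000077700000000, 0x1e1c0003c38000000078700000000,
    0x1e1c0003c38000000077700000000, 0xf08000000000000000000000000000000000000, 0xf0800000000000000000000000000000000000000,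
    0x1e1c00000000003c3800787000000000000000000000000, 0x1e1c00000000003bb800777000000000000000000000000,
    0x1e1c00000000003bb800787000000000000000000000000, 0x1e1c00000000003c3800777000000000000000000000000,
    0xa0e0000000013dc0000000000000000027b800000000000000000005070000000000, 0x14300777000000a0e00000000000000000141c00000000000000000002860000000000,
    0x14300787000000a0e00000000000000000141c00000000000000000002860000000000,
    0x141c0000000027b800000000000000000504000000000000000000005070000000000, 0x141c0000000028200000000000000000027b800000000000000000005070000000000,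
    0x1e1c03c380000000000000000000000000000000000000000000007770000000000, 0x1e1c03bb80000000000000000000000000000000000000000000007770000000000,
    0x9ee0000141c000000000000000000000000000000000283800004f700000000000000000000,
    0x141c000028600000000eee0000000000000000000000001430000050700000000000000000000,
    0x141c000028600000000f0e0000000000000000000000001430000050700000000000000000000,
    0x1e1c00000003c3800000000000000000000000077700000000000000000000000000, 0x1e1c00000003bb800000000000000000000000077700000000000000000000000000,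
    0x13dc0000283800000000000000000000000000000000050700000a0800000000000000000000,
    0x14100000141c000000000000000000000000000000000283800004f700000000000000000000, 0xf080000000000000000000000000000000000,
    0xf080000000000000000000000000000000000000000000000000000000000000000000000000000000000000000,
    0x1e1c00000000000000000003c3800000787000000000000000000000000000000000000000000000000,
    0x1e1c00000000000000000003bb800000777000000000000000000000000000000000000000000000000,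
    0x1e1c00000000000000000003bb800000787000000000000000000000000000000000000000000000000,
    0x1e1c00000000000000000003c3800000777000000000000000000000000000000000000000000000000,
    0x1e1c00000000003c38000000000000000077700000000000000000000000000000000000000000000,
    0x1e1c00000000003bb8000000000000000078700000000000000000000000000000000000000000000,
    0x1e1c00000000003c38000000000000000078700000000000000000000000000000000000000000000,
    0x1e1c00000000003bb8000000000000000077700000000000000000000000000000000000000000000,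
    0x3c3f8700000000000000000000000000000000000000000000000000000000000000000000000000000000000000000000,
    0x3c3f7700000000000000000000000000000000000000000000000000000000000000000000000000000000000000000000,
    0x1e1c000000003c38000000000000000000000000000078700000000000000000000000000000000000000000,
    0x1e1c000000003bb8000000000000000000000000000077700000000000000000000000000000000000000000,
    0x1e1c000000003bb8000000000000000000000000000078700000000000000000000000000000000000000000,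
    0x1e1c000000003c38000000000000000000000000000077700000000000000000000000000000000000000000,
    0x1e1c00003bb80000000000000000000000000000000000000000000787000000000000000000000000000000000000000000000,
    0x1e1c00003c380000000000000000000000000000000000000000000787000000000000000000000000000000000000000000000,
    0x1e1c00003c380000000000000000000000000000000000000000000777000000000000000000000000000000000000000000000,
    0x1e1c00003bb80000000000000000000000000000000000000000000777000000000000000000000000000000000000000000000,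
    0xf08000000000000000000000000000000000000000000000000000000000000000000000000000000000000000000000000000000,
    0xf080000000000000000000000000000000000000000000000000000000000000000000000000000000000000000000000000000000000000,
    0xf0800000000000000000000000000000000000000000000000000000000000000000000000000000000000,
    0x1e1c000000000000000003c38000000787000000000000000000000000000000000000000000000000000000000000000000000000000000,
    0x1e1c000000000000000003bb8000000787000000000000000000000000000000000000000000000000000000000000000000000000000000,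
    0x1e1c000000000000000003bb8000000777000000000000000000000000000000000000000000000000000000000000000000000000000000,
    0x1e1c000000000000000003c38000000777000000000000000000000000000000000000000000000000000000000000000000000000000000,
    0xf080000000000000000000000000000000000000000000000000000000000000000000000000000000000000000000000000,
    0x2f6000000c1800000000000000000000000000000030600000000000000000000000000000000000000bd800000000000000002f6000000000000,
    0x27600a18286009d82860000000000000009d800000000000002860000009d800000002760000000000000000000009d8000000000000000000286000000000000,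
    0x276009d828600a182860000000000000009d800000000000002860000009d800000002860000000000000000000009d8000000000000000000286000000000000,
    0x286009d827600a182860000000000000009d800000000000002760000009d80000000286000000000000000000000a18000000000000000000286000000000000,
    0x28600a18276009d82860000000000000009d800000000000002760000009d80000000276000000000000000000000a18000000000000000000286000000000000,
    0x4d4021027600a408803ca00000000000143000079400000000276c400000a40000ed8002860000000000000000000009a860c0000000001e500000084000000000000,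
    0x514021028600a408803ca00000000000143000079400000000286c400000a40000f1800286000000000000000000000a2860c0000000001e500000084000000000000,
    0xed83c600ed800000000000000003c60000000000000000f180000000000000000000000000000000000000000003c60000000000000000000,
    0x13500a1827600c9829003ca0000000000013b000079400000000276f1800003260000f18002760000000000000000000009a80000000000079400000286000000000000,
    0x14500a1828600c9829003ca0000000000013b000079400000000286f1800003260000ed800276000000000000000000000a280000000000079400000286000000000000,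
    0x76c1e30078c00000000000000001db000000000000000078c0001ddc00000000000000000000000000000000000003b60000000000000000000,
    0x76c1e30078c00000000000000001db000000000000000078c0001e1c00000000000000000000000000000000000003b60000000000000000000,
    0x78c1e30076c00000000000000001db000000000077700000f180000000000000000000000000000000000000000003b60000000000000000000,
    0x1430040c141c0286084000000000000000a180000000000000276c18000028600000000a18000000000000000000002860bd80000000000000000206000000000000,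
    0x13b0050c143004ec143000000000000000507000000000000009ee0000013b000000005070000000000000000000009d8000000000000000000286000000000000,
    0x13b0040c13dc0286084000000000000000a180000000000000286c18000028600000000a18000000000000000000002760bd80000000000000000206000000000000,
    0x1430050c13b004ec14300000000000000050700000000000000a0e0000013b00000000507000000000000000000000a18000000000000000000286000000000000,
    0x143004ec13b0050c14300000000000000050700000000000000a0e0000013b000000004f7000000000000000000000a18000000000000000000286000000000000,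
    0x13b004ec1430050c143000000000000000507000000000000009ee0000013b000000004f70000000000000000000009d8000000000000000000286000000000000,
    0x13b0050709ee0143050c0000000000000013b0000000000000050c0000013b0000000050c0000000000000000000013b00000000000000000004f7000000000000,
    0x143005070a0e0143050c0000000000000013b000000000000004ec0000013b0000000050c0000000000000000000014300000000000000000004f7000000000000,
    0x28600a1827600a2851403b6000000000000a180003b60000000009d80000026a000000013b0000000000000000000004f7000000000000f1800000276000000000000,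
    0xed80000003ca1e500ea800000000000000005a70000000000ed800003ca0001e3000000000000000000000000078c000000000001d50000000000000000000,
    0x27b8050c13b0051428a01e300000000000050c0001e30000000004ec00000135000000009d800000000000000000000286000000000000ed800000276000000000000,
    0x27600a1828600a2851403b6000000000000a180003b6000000000a180000026a000000013b000000000000000000000507000000000000f1800000276000000000000,
    0xf180000003ca1e500ea800000000000000005a70000000000ed800003ca0001db000000000000000000000000076c000000000001d50000000000000000000,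
    0x2838050c1430051428a01e300000000000050c0001e300000000050c00000135000000009d800000000000000000000276000000000000ed800000276000000000000,
    0x3b60000000f2879402d3800000000000000007540000000003b600000f2800076c0000000000000000000000001e30000000000005a70000000000000000000,
    0x3c60000000f2879402d3800000000000000007540000000003b600000f2800078c0000000000000000000000001db0000000000005a70000000000000000000,
    0x60c0001e30620076c00000000000000001db000000000048700000f1800000000000000000000000000000003060000000000ed800000306000000000000,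
    0xbd8000003060000000000000000000000000000000c180000000000000000000000000000000000000302000000000000000002f6000000000000,
    0xf08000000000000000000000000000000000000000000000000000000000000000000000000,
    0x1e1c0000000000000000003bb80000007770000000000000000000000000000000000000000000000000000000000000000000000000000000,
    0x1e1c0000000000000000003c380000007870000000000000000000000000000000000000000000000000000000000000000000000000000000,
    0x1e1c0000000000000000003bb80000007870000000000000000000000000000000000000000000000000000000000000000000000000000000,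
    0x1e1c0000000000000000003c380000007770000000000000000000000000000000000000000000000000000000000000000000000000000000,
    0xf08000000000000000000000000000000000000000000000000000000000000000000000000000000000000000000000000000,
    0xf0800000000000000000000000000000000000000000000000000000000000000000000000000000000000000000000000000000000000000,
    0xf08000000000000000000000000000000000000000000000000000000000000000000000000000000000000,
    0xf0800000000000000000000000000000000000000000000000000000000000000000000000000000000000000000000000000000000,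
    0x1e1c00000003c3800000000000000000000000000000787000000000000000000000000000000000000000000,
    0x1e1c00000003bb800000000000000000000000000000777000000000000000000000000000000000000000000,
    0x1e1c00000003bb800000000000000000000000000000787000000000000000000000000000000000000000000,
    0x1e1c00000003c3800000000000000000000000000000777000000000000000000000000000000000000000000,
    0x1e1c00000003bb800000000000000000000000000000000000000000007870000000000000000000000000000000000000000000000,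
    0x1e1c00000003c3800000000000000000000000000000000000000000007870000000000000000000000000000000000000000000000,
    0x1e1c00000003c3800000000000000000000000000000000000000000007770000000000000000000000000000000000000000000000,
    0x1e1c00000003bb800000000000000000000000000000000000000000007770000000000000000000000000000000000000000000000,
    0x3c3f870000000000000000000000000000000000000000000000000000000000000000000000000000000000000000000000,
    0x3c3f770000000000000000000000000000000000000000000000000000000000000000000000000000000000000000000000,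
    0x1e1c0000000003c3800000000000000077700000000000000000000000000000000000000000000000,
    0x1e1c0000000003bb800000000000000078700000000000000000000000000000000000000000000000,
    0x1e1c0000000003c3800000000000000078700000000000000000000000000000000000000000000000,
    0x1e1c0000000003bb800000000000000077700000000000000000000000000000000000000000000000,
    0x1e1c00000000000000000003c38000007770000000000000000000000000000000000000000000000000,
    0x1e1c00000000000000000003bb8000007770000000000000000000000000000000000000000000000000,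
    0x1e1c00000000000000000003c38000007870000000000000000000000000000000000000000000000000,
    0x1e1c00000000000000000003bb8000007870000000000000000000000000000000000000000000000000,
    0xf0800000000000000000000000000000000000000000000000000000000000000000000000000000000000000000,
    0x9ee0141c000000000000000000000000000000000000283800004f7000000000000000000000,
    0x141c028600000000000eee00000000000000000000000014300000507000000000000000000000,
    0x141c028600000000000f0e00000000000000000000000014300000507000000000000000000000,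
    0x13dc0283800000000000000000000000000000000000050700000a08000000000000000000000,
    0x14100141c000000000000000000000000000000000000283800004f7000000000000000000000,
    0x1e1c00000000003c38000000000000000000000000777000000000000000000000000000,
    0x1e1c00000000003bb8000000000000000000000000777000000000000000000000000000, 0xf0800000000000000000000000000000000000,
    0xa0e000000000000013dc000000000000000027b80000000000000000000050700000000000,
    0x1430000007870000000a0e0000000000000000141c0000000000000000000028600000000000,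
    0x1430000007770000000a0e0000000000000000141c0000000000000000000028600000000000,
    0x141c000000000000027b8000000000000000050400000000000000000000050700000000000,
    0x141c00000000000002820000000000000000027b80000000000000000000050700000000000,
    0x1e1c000003bb8000000000000000000000000000000000000000000000077700000000000,
    0x1e1c000003c38000000000000000000000000000000000000000000000077700000000000, 0x1e1c0000000000003c38007870000000000000000000000000,
    0x1e1c0000000000003bb8007770000000000000000000000000, 0x1e1c0000000000003bb8007870000000000000000000000000,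
    0x1e1c0000000000003c38007770000000000000000000000000, 0xf08000000000000000000000000000000000000000, 0xf080000000000000000000000000000000000000,
    0x1e1c0003bb80000000787000000000, 0x1e1c0003bb80000000777000000000, 0x1e1c0003c380000000787000000000, 0x1e1c0003c380000000777000000000,
    0x1e1c3bb8000000078700000, 0x1e1c3bb8000000077700000, 0x1e1c3c38000000078700000, 0x1e1c3c38000000077700000, 0xf080000000, 0xf08000, 0xf080]
  mu := [1, 1, 1, 1, 1, 1, 1, 1, 1, 1, 1, 1, 1, 1, 1, 1, 1, 2, 1, 1, 1, 1, 1, 1, 2, 1, 1, 1, 1, 1, 1, 1, 1, 1, 1, 1, 1, 1, 1, 1, 1, 2, 2, 1, 1, 1, 1,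
    1, 1, 1, 1, 1, 1, 1, 1, 1, 1, 1, 1, 4, 2, 2, 2, 2, 1, 1, 2, 1, 1, 1, 1, 1, 1, 1, 1, 1, 1, 1, 1, 1, 1, 1, 1, 1, 1, 1, 1, 1, 1, 1, 1, 1, 1, 1, 1,
    1, 1, 1, 1, 1, 1, 1, 1, 1, 1, 1, 1, 2, 2, 1, 1, 1, 1, 1, 1, 1, 1, 1, 2, 1, 1, 1, 1, 1, 1, 1, 2, 1, 1, 1, 1, 1, 1, 1, 1, 1, 1, 1, 1, 1, 1, 1, 1,
    1, 1, 1, 1, 1, 1, 1]
  ws := [[0, 1, 2, 3, 4, 5, 6, 7]]
  cl := [18527862882496374610]
  tst := fun l => decide (1 < (nth 0 l 0).natAbs)
  bx := 0

def E8_kl : List (List ℤ) := List.map (unz 4) [0xf080000, 0xf0800000000000000000, 0xf08000000000000000000000000,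
    0xf08000000000000000000000000000000000000000000000000000000000000, 0xf080000000000000000000000000000000000000000000000000000000,
    0xf0800000000000000000000000000000000000000000000, 0xf0800000000000000000000000000000000000000000000000000000000000000000000000,
    0xf08000000000000000000000000000000000000000000000000000000000000000000000000000000000000000000,
    0x5f7000000c0e000000000000000000000000000000181c00000000000000000000000000000000000002fb800000000000000005f7000000000000,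
    0x13dc000283800000000000000000000000000000000000000000000000507000000000000000000000000000000000000000000000000000000,
    0x28380004f7000000000000000000000000000000000000000000000000a08000000000000000000000000000000000000000000000000000000,
    0xf080000000000000000000000000000000000000000000000000000000000000000000000000,
    0xf080000000000000000000000000000000000000000000000000000000000000000000000000000000000000000000,
    0xf0800000000000000000000000000000000000000000000000, 0xf0800000000000000000000000000000000000000000000000000000000,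
    0xf08000000000000000000000000000000000000000000000000000000000000000000, 0xf080000000000000000000000000, 0xf08000000000000000000, 0xf0800000]

theorem E8_cls : all2 (clsOK E8) E8_tb.ws E8_tb.cl = true := by decide +kernel

end Cfsg.Agent.MO.U
end

-- part: MO/U/Cl2A
section
/-!
# MO / U : two commuting blocks, the group theory (helper7)

* `Blk A U J J'` : `U` is the union of the orthogonal sets `J`, `J'`;
* `Blk.fit`, `Blk.sum_rf`, `Two.mass`, `Two.cover`, `Two.par` : cosets, reflections, sums, classes, Parseval;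
* `res`, `Two.tori` : the tori.
-/

set_option autoImplicit false
set_option linter.unusedSectionVars false

namespace Cfsg.Agent.MO.U.C2

open CoxeterSystem Cfsg.Agent.Tits.Exchange Cfsg.Agent.Tits.Core Cfsg.Agent.Tits.Roots
  Cfsg.Agent.ChevalleyStructure.CoxeterGeom Cfsg.Agent.LV.T Cfsg.Agent.LV.W Cfsg.Agent.LV.Enum Finset Matrix

/-- two orthogonal sets of nodes -/
structure Blk {I : Type} (A : I → I → ℤ) (U J J' : Set I) : Prop where
  mem : ∀ i, i ∈ U ↔ i ∈ J ∨ i ∈ J'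
  zero : ∀ i ∈ J, ∀ j ∈ J', A i j = 0 ∧ A j i = 0

variable {I W : Type} [Fintype I] [DecidableEq I] [Group W] [Fintype W] {M : CoxeterMatrix I}
  {cs : CoxeterSystem M W} {A : I → I → ℤ} {h : IsCartan M A} {ψ : MulAut W} {em em' : ℕ → I} {U J J' : Set I} {w : W}
  {nd nd' : Nd} {d d' : Td}

namespace Blk

theorem symm (B : Blk A U J J') : Blk A U J' J :=
  ⟨fun i => (B.mem i).trans or_comm, fun i hi j hj => (B.zero j hj i hi).symm⟩

theorem sub (B : Blk A U J J') : J ⊆ U := fun i hi => (B.mem i).2 (Or.inl hi)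

theorem le (B : Blk A U J J') {x : W} (hx : x ∈ WJ cs J) : x ∈ WJ cs U := WJ_mono cs B.sub hx

theorem comm_s (B : Blk A U J J') (h : IsCartan M A) {i j : I} (hi : i ∈ J) (hj : j ∈ J') :
    cs.simple i * cs.simple j = cs.simple j * cs.simple i := by
  obtain ⟨h1, h2⟩ := B.zero i hi j hj
  by_cases e : i = j
  · rw [e]
  · refine Cfsg.Agent.Tits.Generic.braid_two cs ?_
    have := h.rel i j e
    omega

theorem comm (B : Blk A U J J') (h : IsCartan M A) {x x' : W} (hx : x ∈ WJ cs J) (hx' : x' ∈ WJ cs J') :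
    x * x' = x' * x := by
  refine WJ_ind (P := fun x => x * x' = x' * x) (by simp) (fun i hi u _ ih => ?_) hx
  have h1 : cs.simple i * x' = x' * cs.simple i :=
    WJ_ind (P := fun z => cs.simple i * z = z * cs.simple i) (by simp)
      (fun j hj z _ hz => by rw [← mul_assoc, B.comm_s h hi hj, mul_assoc, hz, mul_assoc]) hx'
  rw [mul_assoc, ih, ← mul_assoc, h1, mul_assoc]

theorem lc (B : Blk A U J J') (h : IsCartan M A) {x x' : W} (hx : x ∈ WJ cs J) (hx' : x' ∈ WJ cs J') (u : W) :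
    x * (x' * u) = x' * (x * u) := by rw [← mul_assoc, B.comm h hx hx', mul_assoc]

theorem min (B : Blk A U J J') (h : IsCartan M A) {x' : W} (hx' : x' ∈ WJ cs J') : LV.T.Min cs J x' :=
  min_iff.2 fun i hi => (vv_pos cs h (fun _ => i) x' 0).1 (by
    refine WJ_ind (P := fun u => 0 < vv cs h (fun _ => i) u 0) (by rw [vv_one]; exact one_pos) (fun j hj u _ ih => ?_) hx'
    rwa [vv_simple, (B.zero i hi j hj).2, zero_mul, sub_zero])

theorem eq_one (B : Blk A U J J') (h : IsCartan M A) {x : W} (hx : x ∈ WJ cs J) (hx' : x ∈ WJ cs J') : x = 1 := by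
  have h1 := B.min h hx' _ (inv_mem hx)
  rw [inv_mul_cancel, cs.length_one] at h1
  exact cs.length_eq_zero_iff.1 (by omega)

theorem uniq (B : Blk A U J J') (h : IsCartan M A) {x y x' y' : W} (hx : x ∈ WJ cs J) (hy : y ∈ WJ cs J)
    (hx' : x' ∈ WJ cs J') (hy' : y' ∈ WJ cs J') (e : x * x' = y * y') : x = y ∧ x' = y' := by
  have h1 : y⁻¹ * x = y' * x'⁻¹ := by rw [inv_mul_eq_iff_eq_mul, ← mul_assoc, ← e, mul_inv_cancel_right]
  have h2 := B.eq_one h (mul_mem (inv_mem hy) hx) (h1 ▸ mul_mem hy' (inv_mem hx'))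
  exact ⟨(inv_mul_eq_one.1 h2).symm, (mul_inv_eq_one.1 (h1 ▸ h2)).symm⟩

theorem dec (B : Blk A U J J') (h : IsCartan M A) {v : W} (hv : v ∈ WJ cs U) :
    ∃ x ∈ WJ cs J, ∃ x' ∈ WJ cs J', v = x * x' := by
  refine WJ_ind (P := fun v => ∃ x ∈ WJ cs J, ∃ x' ∈ WJ cs J', v = x * x') ⟨1, one_mem _, 1, one_mem _, by simp⟩ ?_ hv
  rintro i hi _ - ⟨x, hx, x', hx', rfl⟩
  rcases (B.mem i).1 hi with h1 | h1
  · exact ⟨_, mul_mem (simple_mem_WJ cs h1) hx, x', hx', (mul_assoc _ _ _).symm⟩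
  · exact ⟨x, hx, _, mul_mem (simple_mem_WJ cs h1) hx', (B.lc h hx (simple_mem_WJ cs h1) x').symm⟩

/-- the first block fits at every element of the coset of the second block -/
theorem fit (B : Blk A U J J') (F : Fit cs h ψ nd.toTy em J w) (G : nd.Good) (hm : LV.T.Min cs U w) {x' : W}
    (hx' : x' ∈ WJ cs J') : Fit cs h ψ nd.toTy em J (x' * w) where
  car := F.car
  mem := F.mem
  aut := F.aut
  min x hx := by
    rw [← mul_assoc, hm _ (mul_mem (B.le hx) (B.symm.le hx')), hm _ (B.symm.le hx'), B.min h hx' x hx, add_assoc]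
  tw i hi := by rw [mul_assoc, F.tw i hi, B.lc h (simple_mem_WJ cs (F.em_mem (Ty.σ_lt G.ok hi))) hx']

theorem conj (B : Blk A U J J') (h : IsCartan M A) {i : I} (hi : i ∈ U) {t : W} (ht : t ∈ WJ cs J) :
    cs.simple i * t * (cs.simple i)⁻¹ ∈ WJ cs J := by
  rcases (B.mem i).1 hi with h1 | h1
  · exact mul_mem (mul_mem (simple_mem_WJ cs h1) ht) (inv_mem (simple_mem_WJ cs h1))
  · rwa [← B.comm h ht (simple_mem_WJ cs h1), mul_inv_cancel_right]

/-- the reflections -/
theorem sum_rf (B : Blk A U J J') (h : IsCartan M A) (f : W → ℂ) :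
    ∑ s ∈ rf cs U, f s = ∑ s ∈ rf cs J, f s + ∑ s ∈ rf cs J', f s := by
  classical
  have key : ∀ ω : List I, (∀ i ∈ ω, i ∈ U) → ∀ t ∈ cs.leftInvSeq ω, t ∈ WJ cs J ∨ t ∈ WJ cs J' := by
    intro ω hω
    induction ω with
    | nil => intro t ht; simp at ht
    | cons i ω ih =>
      have h3 : cs.leftInvSeq (i :: ω) = cs.simple i :: List.map (MulAut.conj (cs.simple i)) (cs.leftInvSeq ω) := rfl
      have hi := hω i List.mem_cons_self
      intro t ht
      rw [h3, List.mem_cons, List.mem_map] at ht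
      rcases ht with rfl | ⟨t, ht, rfl⟩
      · exact ((B.mem i).1 hi).imp (simple_mem_WJ cs) (simple_mem_WJ cs)
      · exact (ih (fun j hj => hω j (List.mem_cons_of_mem _ hj)) t ht).imp (B.conj h hi) (B.symm.conj h hi)
  rw [← sum_union (disjoint_left.2 fun t h1 h2 => by
    have h3 := (mem_rf.1 h1).1.odd_length
    rw [B.eq_one h (mem_rf.1 h1).2 (mem_rf.1 h2).2, cs.length_one] at h3
    exact absurd h3 (by decide))]
  refine sum_congr (Finset.ext fun t => ?_) fun _ _ => rfl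
  obtain ⟨ω, h1, -, h3⟩ := exists_reduced_of_mem_WJ cs (isLongest_wJ cs U).1
  rw [mem_union, mem_rf, mem_rf, mem_rf, ← and_or_left]
  exact and_congr_right fun h4 => ⟨fun h5 => key ω h1 t ((mem_leftInvSeq_iff h1 h3).2 (mem_rf.2 ⟨h4, h5⟩)),
    fun h5 => h5.elim B.le B.symm.le⟩

theorem sum_prod (B : Blk A U J J') (h : IsCartan M A) [Fintype (WJ cs U)] [Fintype (WJ cs J)] [Fintype (WJ cs J')]
    (f : W → ℂ) : ∑ v : WJ cs U, f v = ∑ x' : WJ cs J', ∑ x : WJ cs J, f (x * x') := by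
  rw [← Fintype.sum_prod_type']
  refine (Fintype.sum_bijective (fun p : WJ cs J' × WJ cs J => (⟨p.2 * p.1, mul_mem (B.le p.2.2) (B.symm.le p.1.2)⟩ :
    WJ cs U)) ⟨fun p q e => ?_, fun v => ?_⟩ _ _ fun _ => rfl).symm
  · have h1 := B.uniq h p.2.2 q.2.2 p.1.2 q.1.2 (congrArg Subtype.val e)
    exact Prod.ext (Subtype.ext h1.2) (Subtype.ext h1.1)
  · obtain ⟨x, hx, x', hx', e⟩ := B.dec h v.2
    exact ⟨(⟨x', hx'⟩, ⟨x, hx⟩), Subtype.ext e.symm⟩

end Blk

/-- two blocks which fit -/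
structure Two (cs : CoxeterSystem M W) (h : IsCartan M A) (ψ : MulAut W) (nd nd' : Nd) (em em' : ℕ → I) (U J J' : Set I)
    (w : W) : Prop where
  B : Blk A U J J'
  F : Fit cs h ψ nd.toTy em J w
  F' : Fit cs h ψ nd'.toTy em' J' w
  G : nd.Good
  G' : nd'.Good
  min : LV.T.Min cs U w

variable (cs nd nd' em em' w) in
/-- the representatives -/
abbrev el2 (k l : ℕ) : W := el cs nd em (el cs nd' em' w l) k

namespace Two

variable (S : Two cs h ψ nd nd' em em' U J J' w)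
include S

theorem symm : Two cs h ψ nd' nd em' em U J' J w := ⟨S.B.symm, S.F', S.F, S.G', S.G, S.min⟩

theorem fit (l : ℕ) : Fit cs h ψ nd.toTy em J (el cs nd' em' w l) := S.B.fit S.F S.G S.min (S.F'.wd_mem _)

theorem el_comm (k l : ℕ) : el2 cs em em' w nd nd' k l = el2 cs em' em w nd' nd l k :=
  S.B.lc h (S.F.wd_mem _) (S.F'.wd_mem _) w

theorem el_mem (k l : ℕ) : ∃ x ∈ WJ cs U, el2 cs em em' w nd nd' k l = x * w :=
  ⟨_, mul_mem (S.B.le (S.F.wd_mem _)) (S.B.symm.le (S.F'.wd_mem _)), (mul_assoc _ _ _).symm⟩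

theorem cover {v : W} (hv : v ∈ WJ cs U) : ∃ k < nd.K, ∃ l < nd'.K, ∀ y, _root_.Cfsg.Agent.LV.W.Inv cs ψ U y →
    y (v * w) = y (el2 cs em em' w nd nd' k l) := by
  obtain ⟨x, hx, x', hx', rfl⟩ := S.B.dec h hv
  obtain ⟨k, hk, e⟩ := (S.B.fit S.F S.G S.min hx').cover S.G hx
  obtain ⟨l, hl, e'⟩ := (S.symm.fit k).cover S.G' hx'
  refine ⟨k, hk, l, hl, fun y hy => ?_⟩
  rw [mul_assoc, e y (hy.mono S.B.sub), S.el_comm, el2, ← e' y (hy.mono S.B.symm.sub), el, el, S.B.lc h (S.F.wd_mem _) hx']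

/-- the mass formula -/
theorem mass [Fintype (WJ cs U)] {y : W → ℂ} (hy : _root_.Cfsg.Agent.LV.W.Inv cs ψ U y) :
    (∑ v : WJ cs U, y (v * w)) * (nd.ν 0 * nd'.ν 0) = Nat.card (WJ cs U) *
      ∑ k ∈ range nd.K, ∑ l ∈ range nd'.K, nd.n k * nd'.n l * y (el2 cs em em' w nd nd' k l) := by
  classical
  have h0 := S.B.sum_prod (cs := cs) h fun _ => 1
  simp only [sum_const, card_univ, nsmul_eq_mul, mul_one, ← Nat.card_eq_fintype_card] at h0
  have h1 : (nd.ν 0 : ℂ) ≠ 0 := Int.cast_ne_zero.2 (S.G.orth S.G.spec.2.1).1.ne'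
  have h2 : (nd'.ν 0 : ℂ) ≠ 0 := Int.cast_ne_zero.2 (S.G'.orth S.G'.spec.2.1).1.ne'
  have h3 : ∀ x' : WJ cs J', ∑ x : WJ cs J, y (x * x' * w) =
      Nat.card (WJ cs J) * ((∑ k ∈ range nd.K, nd.n k * y (x' * el cs nd em w k)) / nd.ν 0) := fun x' => by
    simp only [mul_assoc]
    rw [(S.B.fit S.F S.G S.min x'.2).mass S.G (hy.mono S.B.sub)]
    simp only [el, S.B.lc h (S.F.wd_mem _) x'.2]
  have h4 : ∀ k, ∑ x' : WJ cs J', nd.n k * y (x' * el cs nd em w k) = Nat.card (WJ cs J') *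
      ((∑ l ∈ range nd'.K, nd.n k * nd'.n l * y (el2 cs em em' w nd nd' k l)) / nd'.ν 0) := fun k => by
    rw [← mul_sum, (S.symm.fit k).mass S.G' (hy.mono S.B.symm.sub), mul_left_comm, ← mul_div_assoc, mul_sum]
    simp only [S.el_comm, mul_assoc]
  rw [S.B.sum_prod h fun v => y (v * w), sum_congr rfl fun x' _ => h3 x', ← mul_sum, ← sum_div, sum_comm,
    sum_congr rfl fun k _ => h4 k, ← mul_sum, ← sum_div, h0]
  field_simp

theorem dist (D : Dist nd) (D' : Dist nd') {k k' l l' : ℕ} (hk : k < nd.K) (hk' : k' < nd.K) (hl : l < nd'.K)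
    (hl' : l' < nd'.K) {v : W} (hv : v ∈ WJ cs U)
    (e : el2 cs em em' w nd nd' k l * ψ v = v * el2 cs em em' w nd nd' k' l') : k = k' ∧ l = l' := by
  obtain ⟨x, hx, x', hx', rfl⟩ := S.B.dec h hv
  have h1 := S.F.tw_mem S.G hx
  have h2 := S.F'.tw_mem S.G' hx'
  have h3 := S.B.uniq h (mul_mem (S.F.wd_mem (nd.e k)) h1) (mul_mem hx (S.F.wd_mem (nd.e k')))
    (mul_mem (S.F'.wd_mem (nd'.e l)) h2) (mul_mem hx' (S.F'.wd_mem (nd'.e l'))) (by
      refine mul_right_cancel (b := w) ?_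
      rw [mul_assoc x, mul_assoc x, S.B.lc h (S.F.wd_mem _) hx', mul_assoc x', mul_assoc (wd _ _ _ _) _ w, ← mul_assoc x,
        mul_assoc (wd _ _ _ _), S.B.lc h h1 (S.F'.wd_mem _)]
      refine Eq.trans ?_ e
      simp only [el, map_mul, mul_assoc, inv_mul_cancel_left, inv_mul_cancel, mul_one])
  refine ⟨D S.F k hk k' hk' x hx ?_, D' S.F' l hl l' hl' x' hx' ?_⟩
  · rw [el, el, ← mul_assoc, ← h3.1]; group
  · rw [el, el, ← mul_assoc, ← h3.2]; group

/-- **Parseval** at the representatives -/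
theorem par (D : Dist nd) (D' : Dist nd') {ι : Type} [Fintype ι] {y : ι → W → ℤ}
    (inv : ∀ i, ∀ g ∈ WJ cs U, ∀ u, y i (g * u) = y i (u * ψ g)) (P : Par cs ψ U w y) {k k' l l' : ℕ} (hk : k < nd.K)
    (hk' : k' < nd.K) (hl : l < nd'.K) (hl' : l' < nd'.K) :
    (∑ i, y i (el2 cs em em' w nd nd' k l) * y i (el2 cs em em' w nd nd' k' l')) * (nd.n k * nd'.n l) =
      if k = k' ∧ l = l' then nd.ν 0 * nd'.ν 0 else 0 := by
  classical
  obtain ⟨x', hx', e'⟩ := S.el_mem k' l'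
  have h1 : ∀ k < nd.K, ∀ l < nd'.K, ¬ (k = k' ∧ l = l') →
      ∑ i, y i (el2 cs em em' w nd nd' k l) * y i (el2 cs em em' w nd nd' k' l') = 0 := fun k hk l hl hne => by
    obtain ⟨x, hx, e⟩ := S.el_mem k l
    have h2 := P x hx x' hx'
    rw [← e, ← e'] at h2
    rw [h2, Nat.cast_eq_zero, Nat.card_eq_zero]
    exact Or.inl ⟨fun v => hne ((S.dist D D' hk' hk hl' hl v.1.2 v.2).imp Eq.symm Eq.symm)⟩
  split_ifs with hne
  swap
  · rw [h1 k hk l hl hne, zero_mul]
  obtain ⟨rfl, rfl⟩ := hne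
  have h2 := S.mass (y := fun u => ((∑ i, y i u * y i (el2 cs em em' w nd nd' k l) : ℤ) : ℂ)) fun g hg u => by
    simp only [inv _ g hg u]
  rw [sum_eq_single_of_mem k (mem_range.2 hk) fun a ha e => sum_eq_zero fun b hb => by
      rw [h1 a (mem_range.1 ha) b (mem_range.1 hb) fun h => e h.1, Int.cast_zero, mul_zero],
    sum_eq_single_of_mem l (mem_range.2 hl) fun b hb e => by
      rw [h1 k hk b (mem_range.1 hb) fun h => e h.2, Int.cast_zero, mul_zero]] at h2
  have h3 : ∑ v : WJ cs U, ((∑ i, y i (v * w) * y i (el2 cs em em' w nd nd' k l) : ℤ) : ℂ) = Nat.card (WJ cs U) := by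
    have h4 : ∀ v : WJ cs U, ((∑ i, y i (v * w) * y i (el2 cs em em' w nd nd' k l) : ℤ) : ℂ) =
        ∑ g : WJ cs U, if x' * w * ψ g = g * (v * w) then 1 else 0 := fun v => by
      rw [e', P v v.2 x' hx', Nat.card_eq_fintype_card, Fintype.card_subtype, sum_boole, Int.cast_natCast]
    have h5 : ∀ g : WJ cs U, w * ψ g * w⁻¹ ∈ WJ cs U := fun g => by
      obtain ⟨a, ha, b, hb, e⟩ := S.B.dec h g.2
      have := mul_mem (S.B.le (S.F.tw_mem S.G ha)) (S.B.symm.le (S.F'.tw_mem S.G' hb))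
      rwa [e, map_mul, show w * (ψ a * ψ b) * w⁻¹ = w * ψ a * w⁻¹ * (w * ψ b * w⁻¹) by group]
    rw [sum_congr rfl fun v _ => h4 v, sum_comm, Nat.card_eq_fintype_card, ← card_univ, card_eq_sum_ones, Nat.cast_sum]
    refine sum_congr rfl fun g _ => ?_
    rw [sum_eq_single (g⁻¹ * ⟨x', hx'⟩ * ⟨_, h5 g⟩), if_pos (by simp only [mul_assoc, _root_.MulMemClass.mk_mul_mk, _root_.Subgroup.coe_mul, _root_.InvMemClass.coe_inv, _root_.inv_mul_cancel, _root_.mul_one, _root_.mul_inv_cancel_left]), Nat.cast_one]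
    · refine fun v _ hv => if_neg fun e => hv (Subtype.ext ?_)
      have : (v : W) = (g : W)⁻¹ * (x' * w * ψ g) * w⁻¹ := by rw [e]; group
      simpa only [mul_assoc, _root_.MulMemClass.mk_mul_mk, _root_.Subgroup.coe_mul, _root_.InvMemClass.coe_inv] using this
    · simp only [_root_.Finset.mem_univ, _root_.not_true_eq_false, _root_.Subgroup.coe_mul, _root_.InvMemClass.coe_inv, _root_.ite_eq_right_iff, _root_.one_ne_zero, _root_.imp_false, _root_.IsEmpty.forall_iff]
  rw [h3, mul_right_inj' (Nat.cast_ne_zero.2 Nat.card_pos.ne')] at h2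
  rw [mul_comm]
  exact_mod_cast h2.symm

end Two

/-! ### tori -/

/-- the restriction to the first block -/
def res (t : Tor cs A ψ U w) (B : Blk A U J J') (h : IsCartan M A) {x' : W} (hx' : x' ∈ WJ cs J') :
    Tor cs A ψ J (x' * w) where
  p := t.p
  hp := t.hp
  R := t.R
  τ := t.τ
  B := t.B
  a := t.a
  b := t.b
  ex := t.ex
  one := t.one
  mul := t.mul
  tw := t.tw
  rf i hi := t.rf i (B.sub hi)
  car i hi j hj := t.car i (B.sub hi) j (B.sub hj)
  fb i hi j hj e := by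
    rw [B.lc h (simple_mem_WJ cs hj) hx', mul_assoc, mul_right_inj] at e
    obtain ⟨h1, h2⟩ := t.fb i (B.sub hi) j (B.sub hj) e
    have h3 : t.τ x' *ᵥ t.b j = t.b j := by
      refine WJ_ind (P := fun x => t.τ x *ᵥ t.b j = t.b j) (by rw [t.one, one_mulVec]) (fun m hm u _ ih => ?_) hx'
      rw [t.mul, ← mulVec_mulVec, ih, t.rf m (B.symm.sub hm), sub_mulVec, one_mulVec, vecMulVec_mulVec,
        t.car m (B.symm.sub hm) j (B.sub hj), (B.zero j hj m hm).1]
      simp
    exact ⟨by rw [t.mul, Matrix.mul_assoc, ← mulVec_mulVec, h1, mulVec_smul, h3], h2⟩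

/-- **the orders of the tori** -/
theorem Two.tori (S : Two cs h ψ nd nd' em em' U J J' w) (hT : TI nd d) (hT' : TI nd' d') (hr : 0 < nd.r) (hr' : 0 < nd'.r)
    (hw : nth 0 d.wt 0 = nth 0 d'.wt 0) (t : Tor cs A ψ U w) (hx : t.ex (em 0) = t.ex (em' 0)) :
    ∃ e : ℕ, d.x0 ≤ t.p ^ e ∧ d'.x0 ≤ t.p ^ e ∧ ∀ k < nd.K, ∀ l < nd'.K, ∀ x : ℤ,
      t.T (el2 cs em em' w nd nd' k l) x * (d.tt 0 (x * t.p ^ e) * d'.tt 0 (x * t.p ^ e)) =
        t.T w x * (d.tt k (x * t.p ^ e) * d'.tt l (x * t.p ^ e)) := by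
  obtain ⟨e, h1, h2, h3⟩ := hT' (res t S.B.symm h (one_mem _)) (S.B.symm.fit S.F' S.G' S.min (one_mem _))
  have key : ∀ l, d.x0 ≤ t.p ^ e ∧ ∀ k < nd.K, ∀ x : ℤ, t.T (el2 cs em em' w nd nd' k l) x * d.tt 0 (x * t.p ^ e) =
      t.T (el cs nd' em' w l) x * d.tt k (x * t.p ^ e) := fun l => by
    obtain ⟨e', h4, h5, h6⟩ := hT (res t S.B h (S.F'.wd_mem (nd'.e l))) (S.fit l)
    have h7 : t.p ^ t.ex (em 0) = _ * t.p ^ e' := h5 0 hr
    have h8 : t.p ^ t.ex (em' 0) = _ * t.p ^ e := h2 0 hr'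
    rw [hx, hw] at h7
    have h9 : t.p ^ e' = t.p ^ e :=
      mul_left_cancel₀ (left_ne_zero_of_mul (h7 ▸ pow_ne_zero _ t.hp.ne_zero)) (h7.symm.trans h8)
    obtain rfl := Nat.pow_right_injective t.hp.two_le h9
    exact ⟨h4, h6⟩
  refine ⟨e, (key 0).1, h1, fun k hk l hl x => ?_⟩
  have h4 : t.T (el cs nd' em' (1 * w) l) x * d'.tt 0 (x * t.p ^ e) = t.T (1 * w) x * d'.tt l (x * t.p ^ e) := h3 l hl x
  rw [one_mul] at h4
  linear_combination d'.tt 0 (x * t.p ^ e) * (key l).2 k hk x + d.tt k (x * t.p ^ e) * h4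

end Cfsg.Agent.MO.U.C2
end

-- part: MO/U/Cl2B
section
/-!
# MO / U : two commuting blocks, double coordinates (helper7)

* `c2` : the double coordinates; `Two.lev`, `Two.pc`, `Two.inL` : levels, Parseval, lattice;
* `Two.deg` : the degree of a product.
-/

set_option autoImplicit false
set_option linter.unusedSectionVars false

namespace Cfsg.Agent.MO.U.C2

open CoxeterSystem Cfsg.Agent.Tits.Exchange Cfsg.Agent.Tits.Core Cfsg.Agent.Tits.Roots
  Cfsg.Agent.ChevalleyStructure.CoxeterGeom Cfsg.Agent.LV.T Cfsg.Agent.LV.W Cfsg.Agent.LV.Enum Finset Matrix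

/-- Parseval for the values gives Parseval for the coordinates -/
theorem pars {nd : Nd} (G : nd.Good) {ι : Type} [Fintype ι] {f g : ι → ℕ → ℚ} {s C : ℚ}
    (H : ∀ k < nd.K, ∀ k' < nd.K, (∑ i, f i k * g i k') * (s * nd.n k) = if k = k' then C else 0) {φ φ' : ℕ}
    (hφ : φ < nd.K) (hφ' : φ' < nd.K) :
    (∑ i, nd.co (f i) φ * nd.co (g i) φ') * (nd.ν φ * s) = if φ = φ' then C else 0 := by
  have h1 : (nd.ν φ : ℚ) ≠ 0 := Int.cast_ne_zero.2 (G.orth hφ).1.ne'
  have h2 : (nd.ν φ' : ℚ) ≠ 0 := Int.cast_ne_zero.2 (G.orth hφ').1.ne'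
  have h3 : ∀ i, nd.co (f i) φ * nd.co (g i) φ' * (nd.ν φ * s) = ∑ k ∈ range nd.K, ∑ k' ∈ range nd.K,
      f i k * g i k' * (s * nd.n k) * (nd.X φ k * (nd.n k' * nd.X φ' k') / nd.ν φ') := fun i => by
    rw [Nd.co, Nd.co, show ∀ a b : ℚ, a / nd.ν φ * (b / nd.ν φ') * (nd.ν φ * s) = a * b * (s / nd.ν φ') from
      fun a b => by field_simp, sum_mul_sum, sum_mul]
    refine sum_congr rfl fun k _ => ?_
    rw [sum_mul]
    exact sum_congr rfl fun k' _ => by push_cast; ring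
  have h4 : ∀ k ∈ range nd.K, ∑ i, ∑ k' ∈ range nd.K, f i k * g i k' * (s * nd.n k) *
      (nd.X φ k * (nd.n k' * nd.X φ' k') / nd.ν φ') = C / nd.ν φ' * (nd.n k * nd.X φ' k * nd.X φ k : ℤ) := fun k hk => by
    rw [sum_comm, sum_congr rfl fun k' hk' => by rw [← sum_mul, ← sum_mul, H k (mem_range.1 hk) k' (mem_range.1 hk')]]
    simp only [ite_mul, zero_mul, sum_ite_eq, if_pos hk]
    push_cast; ring
  rw [sum_mul, sum_congr rfl fun i _ => h3 i, sum_comm, sum_congr rfl h4, ← mul_sum, ← Int.cast_sum, (G.orth hφ').2 φ hφ]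
  split_ifs
  · exact div_mul_cancel₀ _ h2
  · rw [Int.cast_zero, mul_zero]

/-- the norm of one member -/
theorem bessel {ι α : Type} [Fintype ι] [DecidableEq α] (s : Finset α) {c : ι → α → ℚ} {ω : α → ℚ} {C : ℚ} (hC : 0 < C)
    (H : ∀ a ∈ s, ∀ b ∈ s, (∑ i, c i a * c i b) * ω a = if a = b then C else 0) (j : ι) :
    ∑ a ∈ s, ω a * c j a ^ 2 ≤ C := by
  have h1 : ∑ i, (∑ a ∈ s, ω a * (c j a * c i a)) ^ 2 = C * ∑ a ∈ s, ω a * c j a ^ 2 := by
    have h2 : ∀ i, (∑ a ∈ s, ω a * (c j a * c i a)) ^ 2 =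
        ∑ b ∈ s, ∑ a ∈ s, c i a * c i b * ω a * (c j a * (ω b * c j b)) := fun i => by
      rw [sq, sum_mul_sum]
      exact sum_congr rfl fun b _ => sum_congr rfl fun a _ => by ring
    rw [sum_congr rfl fun i _ => h2 i, sum_comm, mul_sum]
    refine sum_congr rfl fun b hb => ?_
    rw [sum_comm, sum_congr rfl fun a ha => by rw [← sum_mul, ← sum_mul, H a ha b hb]]
    simp only [ite_mul, zero_mul, sum_ite_eq', if_pos hb]
    ring
  have h2 := single_le_sum (f := fun i => (∑ a ∈ s, ω a * (c j a * c i a)) ^ 2) (fun i _ => sq_nonneg _) (mem_univ j)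
  simp only [← sq] at h2 h1
  rw [h1] at h2
  nlinarith only [hC, h2]

theorem a_neg (L : LV.W.Lat) (z : ℕ → ℤ) (φ : ℕ) : L.a (-z) φ = -L.a z φ := by
  rw [Lat.a, Lat.a, coz, coz, ← neg_div, ← Int.cast_neg]
  congr 2
  generalize (nth (0, []) L.inv φ).2 = l
  induction l with
  | nil => rfl
  | cons p l ih => rw [List.map_cons, List.sum_cons, ih, List.map_cons, List.sum_cons, Pi.neg_apply]; ring

theorem inL_sgn {L : LV.W.Lat} {κ : ℤ} {a : ℕ → ℚ} {s s' : ℤ} (hs : s * s = 1) (hs' : s' * s' = 1)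
    (H : InL L κ fun φ => a φ * s) : InL L κ fun φ => a φ * s' := by
  obtain ⟨z, hz⟩ := H
  rcases (mul_self_eq_mul_self_iff.1 (hs'.trans hs.symm)) with rfl | rfl
  · exact ⟨z, hz⟩
  · refine ⟨-z, fun φ hφ => ?_⟩
    have h1 := hz φ hφ
    beta_reduce at h1 ⊢
    rw [a_neg, Int.cast_neg, mul_neg, h1]
    split_ifs
    exacts [rfl, neg_zero]

variable {I W : Type} [Fintype I] [DecidableEq I] [Group W] [Fintype W] {M : CoxeterMatrix I}
  {cs : CoxeterSystem M W} {A : I → I → ℤ} {h : IsCartan M A} {ψ : MulAut W} {em em' : ℕ → I} {U J J' : Set I} {w : W}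
  {nd nd' : Nd} {d d' : Td}

variable (cs nd nd' em em' w) in
/-- the double coordinates -/
def c2 (m : W → ℤ) (χ φ : ℕ) : ℚ := nd.co (fun k => nd'.co (fun l => (m (el2 cs em em' w nd nd' k l) : ℚ)) χ) φ

namespace Two

variable (S : Two cs h ψ nd nd' em em' U J J' w)
include S

theorem vl_c2 (m : W → ℤ) (χ : ℕ) {k : ℕ} (hk : k < nd.K) :
    vl nd (c2 cs em em' w nd nd' m χ) k = crd cs em' (el cs nd em w k) nd' m χ := by
  simp only [crd, ← S.el_comm]
  exact (S.G.exp (fun k => nd'.co (fun l => (m (el2 cs em em' w nd nd' k l) : ℚ)) χ) hk).symm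

theorem exp (m : W → ℤ) {k l : ℕ} (hk : k < nd.K) (hl : l < nd'.K) : (m (el2 cs em em' w nd nd' k l) : ℚ) =
    ∑ χ ∈ range nd'.K, vl nd (c2 cs em em' w nd nd' m χ) k * nd'.X χ l := by
  simp only [S.vl_c2 m _ hk, S.el_comm]
  exact (vl_crd S.G' m hl).symm

theorem crd_c2 (m : W → ℤ) {l φ : ℕ} (hl : l < nd'.K) (hφ : φ < nd.K) :
    crd cs em (el cs nd' em' w l) nd m φ = ∑ χ ∈ range nd'.K, c2 cs em em' w nd nd' m χ φ * nd'.X χ l := by
  refine S.G.co_eq (a := fun φ => ∑ χ ∈ range nd'.K, c2 cs em em' w nd nd' m χ φ * nd'.X χ l) (fun k hk => ?_) hφ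
  rw [S.exp m hk hl]
  simp only [vl, sum_mul]
  rw [sum_comm]
  exact sum_congr rfl fun _ _ => sum_congr rfl fun _ _ => mul_right_comm _ _ _

/-- the levels add up to the eigenvalue -/
theorem lev (hc : nd.cas.length = 1) (hc' : nd'.cas.length = 1) {m : W → ℤ}
    (inv : ∀ g ∈ WJ cs U, ∀ u, m (g * u) = m (u * ψ g)) {κ : ℂ}
    (cas : ∀ x ∈ WJ cs U, ∑ s ∈ rf cs U, (m (s * (x * w)) : ℂ) = κ * m (x * w)) {χ φ : ℕ} (hχ : χ < nd'.K)
    (hφ : φ < nd.K) (hne : c2 cs em em' w nd nd' m χ φ ≠ 0) : ((nd.lv 0 φ + nd'.lv 0 χ : ℤ) : ℂ) = κ := by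
  have key : ∀ k < nd.K, ∀ l < nd'.K, (0 : ℂ) = ∑ χ ∈ range nd'.K, (∑ φ ∈ range nd.K,
      ((nd.lv 0 φ + nd'.lv 0 χ - κ) * c2 cs em em' w nd nd' m χ φ) * nd.X φ k) * nd'.X χ l := fun k hk l hl => by
    obtain ⟨x, hx, e⟩ := S.el_mem k l
    obtain ⟨h1, h2⟩ := cas_one S.G hc (S.fit l)
    obtain ⟨h1', h2'⟩ := cas_one S.G' hc' (S.symm.fit k)
    have h3 := (rp_crd S.G m).cas (S.fit l) S.G h1 ((inv_cast inv).mono S.B.sub) k hk
    have h3' := (rp_crd S.G' m).cas (S.symm.fit k) S.G' h1' ((inv_cast inv).mono S.B.symm.sub) l hl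
    rw [h2, cas_apply] at h3
    rw [h2', cas_apply] at h3'
    beta_reduce at h3 h3'
    rw [sum_congr (s₁ := range nd.K) rfl fun φ hφ => by rw [S.crd_c2 m hl (mem_range.1 hφ)]] at h3
    have h4 := cas x hx
    have h5 := congrArg (Rat.cast : ℚ → ℂ) (S.exp m hk hl)
    rw [S.B.sum_rf h, ← e, h3, S.el_comm, h3', ← S.el_comm, ← Rat.cast_intCast, h5] at h4
    simp only [← S.vl_c2 m _ hk, vl, Rat.cast_sum, Rat.cast_mul, Rat.cast_intCast, mul_sum, sum_mul] at h4
    rw [sum_comm, ← sub_eq_zero, ← sum_add_distrib, ← sum_sub_distrib] at h4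
    refine h4.symm.trans (sum_congr rfl fun χ _ => ?_)
    rw [sum_mul, ← sum_add_distrib, ← sum_sub_distrib]
    exact sum_congr rfl fun φ _ => by unfold Nd.lv; ring
  have h1 := S.G.co_eq (f := fun _ => (0 : ℂ)) (fun k hk => (show (0 : ℂ) = nd'.co (fun _ => (0 : ℂ)) χ by
    simp [Nd.co]).trans (S.G'.co_eq (key k hk) hχ)) hφ
  rw [show nd.co (fun _ => (0 : ℂ)) φ = 0 by simp [Nd.co]] at h1
  rw [Int.cast_add]
  exact sub_eq_zero.1 ((mul_eq_zero.1 h1.symm).resolve_right (Rat.cast_ne_zero.2 hne))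

/-- Parseval -/
theorem pc (D : Dist nd) (D' : Dist nd') {ι : Type} [Fintype ι] {y : ι → W → ℤ}
    (inv : ∀ i, ∀ g ∈ WJ cs U, ∀ u, y i (g * u) = y i (u * ψ g)) (P : Par cs ψ U w y) {χ χ' φ φ' : ℕ} (hχ : χ < nd'.K)
    (hχ' : χ' < nd'.K) (hφ : φ < nd.K) (hφ' : φ' < nd.K) :
    (∑ i, c2 cs em em' w nd nd' (y i) χ φ * c2 cs em em' w nd nd' (y i) χ' φ') * (nd.ν φ * nd'.ν χ) =
      if φ = φ' then (if χ = χ' then (nd.ν 0 * nd'.ν 0 : ℚ) else 0) else 0 := by
  refine pars S.G (fun k hk k' hk' => ?_) hφ hφ'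
  rw [← ite_and, if_congr and_comm rfl rfl, ite_and]
  refine pars S.G' (fun l hl l' hl' => ?_) hχ hχ'
  rw [← ite_and, if_congr and_comm rfl rfl]
  exact_mod_cast S.par D D' inv P hk hk' hl hl'

/-- the degree in coordinates -/
theorem rho_mul (t : Tor cs A ψ U w) (hd : d.ok nd.K = true) (hd' : d'.ok nd'.K = true) {m : W → ℤ}
    (inv : ∀ g ∈ WJ cs U, ∀ u, m (g * u) = m (u * ψ g)) {a : ℕ → ℚ} {r : ℕ → ℤ}
    (hm : ∀ k < nd.K, ∀ l < nd'.K, (m (el2 cs em em' w nd nd' k l) : ℚ) = vl nd a k * r l) {x X : ℤ}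
    (hX : (d.x0 : ℤ) ≤ X) (hX' : (d'.x0 : ℤ) ≤ X)
    (hT : ∀ k < nd.K, ∀ l < nd'.K, t.T (el2 cs em em' w nd nd' k l) x * (d.tt 0 X * d'.tt 0 X) =
      t.T w x * (d.tt k X * d'.tt l X)) (h0 : t.T w x ≠ 0) :
    t.rho m x * t.T w x * (nd.ν 0 * nd'.ν 0 : ℤ) * (pr d.cy X d.am * pr d'.cy X d'.am : ℤ) =
      Nat.card (WJ cs U) * (d.tt 0 X * d'.tt 0 X : ℤ) * (∑ l ∈ range nd'.K, nd'.n l * r l * d'.co l X : ℤ) *
        dgr nd d a X := by
  classical
  have h1 : t.rho m x * (nd.ν 0 * nd'.ν 0) = Nat.card (WJ cs U) * ∑ k ∈ range nd.K, ∑ l ∈ range nd'.K,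
      nd.n k * nd'.n l * ((m (el2 cs em em' w nd nd' k l) : ℚ) / t.T (el2 cs em em' w nd nd' k l) x) := by
    have h1 := S.mass (y := fun u => (m u : ℂ) / t.T u x) fun g hg u => by
      beta_reduce; rw [inv g hg u, t.T_tw g u]
    apply Rat.cast_injective (α := ℂ)
    rw [Tor.rho]
    push_cast
    exact h1
  have h2 : ∀ k ∈ range nd.K, ∀ l ∈ range nd'.K,
      nd.n k * nd'.n l * ((m (el2 cs em em' w nd nd' k l) : ℚ) / t.T (el2 cs em em' w nd nd' k l) x) *
        (t.T w x * (pr d.cy X d.am * pr d'.cy X d'.am)) =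
      d.tt 0 X * d'.tt 0 X * ((nd.n k * vl nd a k * d.co k X) * (nd'.n l * r l * d'.co l X)) := fun k hk l hl => by
    have hk := mem_range.1 hk
    have hl := mem_range.1 hl
    have h3 := congrArg (Int.cast : ℤ → ℚ) (hT k hk l hl)
    have h5 : (t.T (el2 cs em em' w nd nd' k l) x : ℚ) ≠ 0 := Int.cast_ne_zero.2 (left_ne_zero_of_mul
      (hT k hk l hl ▸ mul_ne_zero h0 (mul_ne_zero (Td.tt_ne hd hk hX) (Td.tt_ne hd' hl hX'))))
    rw [hm k hk l hl, ← Td.tt_co hd hk X, ← Td.tt_co hd' hl X]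
    push_cast at h3 ⊢
    field_simp
    linear_combination (-(nd.n k : ℚ) * nd'.n l * vl nd a k * r l * d.co k X * d'.co l X) * h3
  have h3 := sum_congr rfl fun k hk => sum_congr rfl (h2 k hk)
  simp only [← sum_mul, ← mul_sum] at h3
  rw [dgr]
  push_cast
  linear_combination (t.T w x * (pr d.cy X d.am * pr d'.cy X d'.am) : ℚ) * h1 + (Nat.card (WJ cs U) : ℚ) * h3

/-- the conditions on the degree -/
theorem deg (t : Tor cs A ψ U w) (hd : d.ok nd.K = true) (hd' : d'.ok nd'.K = true) {e : ℕ} (he : d.x0 ≤ t.p ^ e)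
    (he' : d'.x0 ≤ t.p ^ e) (hT : ∀ k < nd.K, ∀ l < nd'.K, ∀ x : ℤ,
      t.T (el2 cs em em' w nd nd' k l) x * (d.tt 0 (x * t.p ^ e) * d'.tt 0 (x * t.p ^ e)) =
        t.T w x * (d.tt k (x * t.p ^ e) * d'.tt l (x * t.p ^ e))) {sl : List ℕ}
    (hs : ∀ x, pr d.cy x d.am * pr d'.cy x d'.am ∣ pr d.cy x sl) {m : W → ℤ} (H : Pt t m) {a : ℕ → ℚ} {r : ℕ → ℤ}
    (hm : ∀ k < nd.K, ∀ l < nd'.K, (m (el2 cs em em' w nd nd' k l) : ℚ) = vl nd a k * r l)
    (hr : ∀ x : ℤ, (d'.x0 : ℤ) ≤ x → 0 < ∑ l ∈ range nd'.K, nd'.n l * r l * d'.co l x) :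
    ∃ p e : ℕ, p.Prime ∧ d.x0 ≤ p ^ e ∧ 0 < dgr nd d a (p ^ e) ∧ ∃ D : ℤ, D ≠ 0 ∧ ∀ n : ℕ,
      ∃ (j f : ℕ) (z : ℤ), n < j ∧ dgr nd d a (p ^ j) * z = D * (p : ℚ) ^ f * pr d.cy (p ^ j) sl := by
  have h3 : ∀ {b : ℕ}, b ≤ t.p ^ e → ∀ j : ℕ, (b : ℤ) ≤ (t.p : ℤ) ^ j * t.p ^ e := fun hb j => by
    exact_mod_cast hb.trans (Nat.le_mul_of_pos_left _ (pow_pos t.hp.pos j))
  have hν := mul_pos (S.G.orth S.G.spec.2.1).1 (S.G'.orth S.G'.spec.2.1).1
  refine ⟨t.p, e, t.hp, he, ?_, ?_⟩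
  · have h4 := h3 he 0
    have h4' := h3 he' 0
    rw [pow_zero] at h4 h4'
    have h5 := S.rho_mul t hd hd' H.inv hm (x := 1) h4 h4' (fun k hk l hl => hT k hk l hl 1)
      (Int.cast_ne_zero.1 (right_ne_zero_of_mul H.pos.ne'))
    rw [one_mul] at h4 h4' h5
    exact (mul_pos_iff_of_pos_left (mul_pos (mul_pos (Nat.cast_pos.2 Nat.card_pos) (Int.cast_pos.2
      (mul_pos (Td.tt_zero hd _ ▸ Td.pr_pos hd h4 _) (Td.tt_zero hd' _ ▸ Td.pr_pos hd' h4' _))))
      (Int.cast_pos.2 (hr _ h4')))).1 (h5 ▸ mul_pos (mul_pos H.pos (Int.cast_pos.2 hν))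
        (Int.cast_pos.2 (mul_pos (Td.pr_pos hd h4 _) (Td.pr_pos hd' h4' _))))
  · obtain ⟨v, hv, D, hD, h4⟩ := H.deg
    obtain ⟨k, hk, l, hl, h5⟩ := S.cover hv
    refine ⟨D * (nd.ν 0 * nd'.ν 0), mul_ne_zero hD hν.ne', fun n => ?_⟩
    obtain ⟨j, f, z, hj, h6⟩ := h4 n
    have h7 : t.T (v * w) (t.p ^ j) = t.T (el2 cs em em' w nd nd' k l) (t.p ^ j) :=
      Int.cast_injective (α := ℂ) (h5 (fun u => (t.T u (t.p ^ j) : ℂ)) fun g _ u => congrArg _ (t.T_tw g u _))
    have h8 : t.T (el2 cs em em' w nd nd' k l) (t.p ^ j) ≠ 0 := fun h8 => by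
      rw [h7, h8, Int.cast_zero, mul_zero, zero_mul] at h6
      exact mul_ne_zero (Int.cast_ne_zero.2 hD) (pow_ne_zero f (Nat.cast_ne_zero.2 t.hp.ne_zero)) h6.symm
    have h9 := hT k hk l hl (t.p ^ j)
    have ha := mul_ne_zero (Td.tt_ne hd S.G.spec.2.1 (h3 he j)) (Td.tt_ne hd' S.G'.spec.2.1 (h3 he' j))
    have hb := S.rho_mul t hd hd' H.inv hm (h3 he j) (h3 he' j) (fun k hk l hl => hT k hk l hl _)
      (left_ne_zero_of_mul (h9 ▸ mul_ne_zero h8 ha))
    obtain ⟨c, hc⟩ := hs ((t.p : ℤ) ^ j * t.p ^ e)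
    rw [h7] at h6
    generalize ∑ l ∈ range nd'.K, nd'.n l * r l * d'.co l _ = δ at hb
    generalize d.tt k _ * d'.tt l _ = τ at h9
    refine ⟨j + e, f, Nat.card (WJ cs U) * τ * δ * z * c, by omega, ?_⟩
    have h9' := congrArg (Int.cast : ℤ → ℚ) h9
    rw [pow_add, hc]
    refine mul_left_cancel₀ (Int.cast_ne_zero.2 ha : (_ : ℚ) ≠ 0) ?_
    generalize d.tt 0 _ * d'.tt 0 _ = τ0 at *
    generalize pr d.cy _ d.am * pr d'.cy _ d'.am = P at *
    generalize nd.ν 0 * nd'.ν 0 = ν at *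
    push_cast at h9' ⊢
    linear_combination (-(τ : ℚ) * z * c) * hb + (ν * P * c * τ0 : ℚ) * h6 - (t.rho m (t.p ^ j) * ν * P * z * c : ℚ) * h9'

end Two

/-- the parts of one member lie in the dual lattice -/
theorem Two.inL {L : LV.W.Lat} (S : Two cs h ψ L.nd nd' em em' U J J' w) (hL : L.Ok) (hc : L.nd.cas.length = 1)
    (hc' : nd'.cas.length = 1) (hne : ∀ χ < nd'.K, ∀ χ' < nd'.K, nd'.lv 0 χ = nd'.lv 0 χ' → χ = χ')
    (hone : ∀ χ < nd'.K, ∃ l < nd'.K, nd'.X χ l * nd'.X χ l = 1) {t : Tor cs A ψ U w} {m : W → ℤ} (H : Pt t m) :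
    ∃ κ : ℤ, ∀ χ < nd'.K, ∀ s : ℤ, s * s = 1 → InL L (κ - nd'.lv 0 χ) fun φ => c2 cs em em' w L.nd nd' m χ φ * s := by
  obtain ⟨κ, hκ⟩ := H.cas
  obtain ⟨κ₀, h0⟩ : ∃ κ₀ : ℤ, ∀ χ < nd'.K, ∀ φ < L.nd.K, c2 cs em em' w L.nd nd' m χ φ ≠ 0 →
      L.nd.lv 0 φ = κ₀ - nd'.lv 0 χ := by
    by_cases h1 : ∃ n : ℤ, (n : ℂ) = κ
    · obtain ⟨n, rfl⟩ := h1
      exact ⟨n, fun χ hχ φ hφ h2 => eq_sub_of_add_eq (Int.cast_injective (S.lev hc hc' H.inv hκ hχ hφ h2))⟩
    · exact ⟨0, fun χ hχ φ hφ h2 => absurd ⟨_, S.lev hc hc' H.inv hκ hχ hφ h2⟩ h1⟩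
  refine ⟨κ₀, fun χ hχ s hs => ?_⟩
  obtain ⟨l, hl, h1⟩ := hone χ hχ
  obtain ⟨z, hz⟩ := crd_lat hL (S.fit l) (H.lv.mono S.B.sub (S.B.symm.le (S.F'.wd_mem _)))
    fun g hg => H.inv g (S.B.le hg)
  refine inL_sgn h1 hs ⟨z, fun φ hφ => ?_⟩
  split_ifs with h2
  · rw [← hz φ hφ, S.crd_c2 m hl hφ, sum_eq_single_of_mem χ (mem_range.2 hχ) fun χ' hχ' e => mul_eq_zero_of_left (by
      by_contra h3
      have h4 := h0 χ' (mem_range.1 hχ') φ hφ h3
      exact e (hne _ (mem_range.1 hχ') _ hχ (by omega))) _]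
  · exact mul_eq_zero_of_left (by_contra fun h3 => h2 (h0 χ hχ φ hφ h3)) _

end Cfsg.Agent.MO.U.C2
end

-- part: MO/HC/Sys
section
/-!
# MO/HC : the abstract Harish-Chandra system of a label, statements (helper85)

* `Pb R P` : split parabolic subgroups of a twisted Weyl group; `casP` : the sum of the reflections in `P`;
* `Sys R` : `E P` the characters of the split Levi subgroup of `P` with the label, `y` their multiplicities in the
  Deligne-Lusztig characters, `m` the multiplicities of the Harish-Chandra restriction, `act` the action of the fixed points;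
* `Stb`, `PL`, `LamOK` : split cocharacters, their stabilisers in the Weyl group of the label, a choice of Levi subgroups;
* the boxes `BoxCox` (Coxeter groups), `BoxLam` (cocharacters), `BoxUni` (the restriction of a uniform function is uniform).
-/

set_option autoImplicit false
set_option linter.unusedSectionVars false

namespace Cfsg.Agent.MO.HC

open Cfsg Cfsg.Agent.DL Cfsg.Agent.DL.Uni Cfsg.Agent.DL.Asm Cfsg.Agent.RL Cfsg.Agent.KZ.Lie Cfsg.Agent.Nodes.Reps
  Cfsg.Agent.Tits.Core Cfsg.Agent.MO.Crd Cfsg.Agent.MO.HL Matrix Finset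

/-- split parabolic subgroups -/
def Pb (R : RC) (P : Subgroup R.W) : Prop := ∃ x, R.ψ x = x ∧ ∃ J, St R.τ J ∧ P = cj x (WJ R.cs J)

theorem pb_WJ {R : RC} {J : Set R.I} (h : St R.τ J) : Pb R (WJ R.cs J) := ⟨1, map_one _, J, h, (cj_one _).symm⟩

theorem Pb.cj {R : RC} {P : Subgroup R.W} (h : Pb R P) {x : R.W} (hx : R.ψ x = x) : Pb R (cj x P) := by
  obtain ⟨z, hz, J, hJ, rfl⟩ := h
  exact ⟨x * z, by rw [map_mul, hx, hz], J, hJ, (cj_mul _ _ _).symm⟩

theorem WJ_univ (R : RC) : WJ R.cs Set.univ = ⊤ := eq_top_iff.2 fun w _ => Tits.Exchange.mem_WJ_univ R.cs w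

theorem pb_top (R : RC) : Pb R ⊤ := WJ_univ R ▸ pb_WJ fun _ => Iff.rfl

open Classical in
/-- the sum of the reflections in `P` -/
noncomputable def casP (R : RC) (P : Subgroup R.W) (y : R.W → ℂ) (w : R.W) : ℂ :=
  ∑ t with R.cs.IsReflection t ∧ t ∈ P, y (t * w)

theorem casP_WJ (R : RC) (J : Set R.I) (y : R.W → ℂ) : casP R (WJ R.cs J) y = LV.T.cas R.cs J y := funext fun w => by
  rw [casP, LV.T.cas_apply]
  exact sum_congr (Finset.ext fun t => by simp [LV.T.mem_rf]) fun _ _ => rfl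

open Classical in
/-- **the Harish-Chandra system of a label** -/
structure Sys (R : RC) : Type 1 where
  X : Type
  E : Subgroup R.W → Finset X
  y : Subgroup R.W → X → R.W → ℂ
  m : Subgroup R.W → Subgroup R.W → X → X → ℕ
  act : R.W → X → X
  /-- degrees -/
  dg : X → ℕ
  /-- the indices of the parabolic subgroups -/
  ix : Subgroup R.W → ℕ
  /-- the degrees of the Deligne-Lusztig characters of the whole group -/
  dl : R.W → ℂ
  int : ∀ {P χ}, Pb R P → χ ∈ E P → ∀ w, ∃ n : ℤ, y P χ w = n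
  supp : ∀ {P} χ {w}, w ∉ P → y P χ w = 0
  inv : ∀ {P} χ {u}, Pb R P → u ∈ P → ∀ w, y P χ (u * w) = y P χ (w * R.ψ u)
  ne : ∀ {P χ}, Pb R P → χ ∈ E P → y P χ ≠ 0
  pars : ∀ {P w w'}, Pb R P → w ∈ P → w' ∈ P →
    ∑ χ ∈ E P, y P χ w * y P χ w' = Nat.card {u : P // u * w * (R.ψ u)⁻¹ = w'}
  cas : ∀ {P χ}, Pb R P → χ ∈ E P → ∃ κ : ℂ, ∀ w, casP R P (y P χ) w = κ * y P χ w
  res : ∀ {P Q χ w}, Pb R P → Pb R Q → Q ≤ P → χ ∈ E P → w ∈ Q → y P χ w = ∑ η ∈ E Q, m P Q χ η * y Q η w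
  ind : ∀ {P Q η w}, Pb R P → Pb R Q → Q ≤ P → η ∈ E Q → w ∈ P →
    (∑ χ ∈ E P, m P Q χ η * y P χ w) * Nat.card Q = ∑ x with x ∈ P, y Q η (x * w * (R.ψ x)⁻¹)
  self : ∀ {P χ η}, Pb R P → χ ∈ E P → η ∈ E P → m P P χ η = if χ = η then 1 else 0
  trans : ∀ {P Q S χ ζ}, Pb R P → Pb R Q → Pb R S → Q ≤ P → S ≤ Q → χ ∈ E P → ζ ∈ E S →
    m P S χ ζ = ∑ η ∈ E Q, m P Q χ η * m Q S η ζ
  act_mem : ∀ {P χ x}, Pb R P → R.ψ x = x → χ ∈ E P → act x χ ∈ E (cj x P)
  act_mul : ∀ {P χ x z}, Pb R P → R.ψ x = x → R.ψ z = z → χ ∈ E P → act (x * z) χ = act x (act z χ)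
  act_in : ∀ {P χ x}, Pb R P → R.ψ x = x → x ∈ P → χ ∈ E P → act x χ = χ
  act_y : ∀ {P χ x}, Pb R P → R.ψ x = x → χ ∈ E P → ∀ w, y (cj x P) (act x χ) (x * w * x⁻¹) = y P χ w
  act_m : ∀ {P Q χ η x}, Pb R P → Pb R Q → Q ≤ P → R.ψ x = x → χ ∈ E P → η ∈ E Q →
    m (cj x P) (cj x Q) (act x χ) (act x η) = m P Q χ η
  mackey : ∀ {P P₁ P₂ e₁ e₂}, Pb R P → Pb R P₁ → Pb R P₂ → P₁ ≤ P → P₂ ≤ P → e₁ ∈ E P₁ → e₂ ∈ E P₂ →
    Nat.card (GF R.ψ P₁) * Nat.card (GF R.ψ P₂) * ∑ χ ∈ E P, m P P₁ χ e₁ * m P P₂ χ e₂ =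
      ∑ x with x ∈ GF R.ψ P, Nat.card (GF R.ψ (P₁ ⊓ cj x P₂)) *
        ∑ ζ ∈ E (P₁ ⊓ cj x P₂), m P₁ (P₁ ⊓ cj x P₂) e₁ ζ * m (cj x P₂) (P₁ ⊓ cj x P₂) (act x e₂) ζ
  dg_pos : ∀ {P χ}, Pb R P → χ ∈ E P → 0 < dg χ
  ix_pos : ∀ {P}, Pb R P → 0 < ix P
  ix_top : ix ⊤ = 1
  act_dg : ∀ {P χ x}, Pb R P → R.ψ x = x → χ ∈ E P → dg (act x χ) = dg χ
  deg : ∀ {P χ}, Pb R P → P ≠ ⊤ → χ ∈ E P → (dg χ * ix P * Nat.card P : ℂ) = ∑ w, y P χ w * dl w
  deg_up : ∀ {P Q η}, Pb R P → Pb R Q → Q ≤ P → η ∈ E Q → (∑ χ ∈ E P, m P Q χ η * dg χ) * ix P = ix Q * dg η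

/-- the degree formula for the whole group (it holds if all labels of a character are conjugate) -/
def Sys.Top {R : RC} (S : Sys R) : Prop := ∀ χ ∈ S.E ⊤, (S.dg χ * Nat.card R.W : ℂ) = ∑ w, S.y ⊤ χ w * S.dl w

/-- split parabolic subgroups : fixed points in cosets and double cosets -/
structure BoxCox : Prop where
  st : ∀ {R : RC} {P}, Pb R P → ∀ x, R.ψ x ∈ P ↔ x ∈ P
  inf : ∀ {R : RC} {P Q}, Pb R P → Pb R Q → Pb R (P ⊓ Q)
  h1 : ∀ {R : RC} {P}, Pb R P → ∀ x, x⁻¹ * R.ψ x ∈ P → ∃ u ∈ P, R.ψ (x * u) = x * u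
  dc : ∀ {R : RC} {P Q}, Pb R P → Pb R Q → ∀ x, Dc P Q x (R.ψ x) → ∃ z, R.ψ z = z ∧ Dc P Q x z
  dc' : ∀ {R : RC} {P Q}, Pb R P → Pb R Q → ∀ x z, R.ψ x = x → R.ψ z = z → Dc P Q x z → Dc (GF R.ψ P) (GF R.ψ Q) x z
  /-- standard representatives of the double cosets -/
  std : ∀ {R : RC} {J K : Set R.I}, St R.τ J → St R.τ K → ∀ x, R.ψ x = x → ∃ z, R.ψ z = z ∧
    Dc (GF R.ψ (WJ R.cs J)) (GF R.ψ (WJ R.cs K)) x z ∧ ∃ A ⊆ J, ∃ B ⊆ K, St R.τ A ∧ St R.τ B ∧
      WJ R.cs J ⊓ cj z (WJ R.cs K) = WJ R.cs A ∧ cj z (WJ R.cs B) = WJ R.cs A ∧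
      ∀ i, i ∈ B ↔ ∃ j ∈ A, z * R.cs.simple i * z⁻¹ = R.cs.simple j

variable {p : ℕ} [Fact p.Prime] {k : Type} [Field k] [CharP k p] [IsAlgClosed k] {Y : Type} [Group Y] {N : Type}
  [Fintype N] [DecidableEq N] {ρ : Y →* GL N k} {F : MulAut Y} {G : Subgroup Y}

/-- split cocharacters : the signs are stable -/
def Stb (D : Datum p ρ F G) (lam : D.R → ℤ) : Prop := ∀ a, D.Rt a → (0 < lf D lam (D.g a) ↔ 0 < lf D lam a)

variable {D : Datum p ρ F G} {c : Lbl D}

/-- the stabiliser of a cocharacter in the Weyl group of the label -/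
def PL (Φ : LF D c) (lam : D.R → ℤ) : Subgroup Φ.W := (Wl D lam).comap Φ.φ

/-- a choice of split Levi subgroups -/
structure LamOK (Φ : LF D c) (Λ : Subgroup Φ.W → D.R → ℤ) : Prop where
  pb : ∀ {lam}, Stb D lam → Pb Φ.toRC (PL Φ lam)
  stb : ∀ {P}, Pb Φ.toRC P → Stb D (Λ P)
  eq : ∀ {P}, Pb Φ.toRC P → PL Φ (Λ P) = P
  mono : ∀ {P Q}, Pb Φ.toRC P → Pb Φ.toRC Q → P ≤ Q → Lv D (Λ P) ≤ Lv D (Λ Q)
  cj : ∀ {P x}, Pb Φ.toRC P → Φ.ψ x = x → Lv D (Λ (cj x P)) = Lv D (D.Wm (Φ.φ x) *ᵥ Λ P)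
  top : Lv D (Λ ⊤) = G
  min : ∀ {P lam}, Pb Φ.toRC P → P ≠ ⊤ → Stb D lam → P ≤ PL Φ lam → Lv D (Λ P) ≤ Lv D lam

/-- the existence of the choice -/
def BoxLam : Prop :=
  ∀ {p : ℕ} [Fact p.Prime] {k : Type} [Field k] [CharP k p] [IsAlgClosed k] {Y : Type} [Group Y] {N : Type}
    [Fintype N] [DecidableEq N] {ρ : Y →* GL N k} {F : MulAut Y} {G : Subgroup Y} {D : Datum p ρ F G} {c : Lbl D}
    (Φ : LF D c), Φ.w1 = 1 → ∃ Λ, LamOK Φ Λ

/-- the Harish-Chandra restriction of a Deligne-Lusztig character is uniform -/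
def BoxUni : Prop :=
  ∀ {p : ℕ} [Fact p.Prime] {k : Type} [Field k] [CharP k p] [IsAlgClosed k] {Y : Type} [Group Y] {N : Type}
    [Fintype N] [DecidableEq N] {ρ : Y →* GL N k} {F : MulAut Y} {G L U : Subgroup Y} (D : Datum p ρ F G)
    (X : Datum p ρ F L), SP D G L U → RL.Ov D X → ∀ T ∈ tori D, ∀ θ, IsLin (T ⊓ GF F G) θ → ∀ η, IsCls (GF F L) η →
      (∀ T' ∈ tori X, ∀ θ', IsLin (T' ⊓ GF F L) θ' → ip (GF F L) η (R X T' θ') = 0) →
      ip (GF F L) η (hc (GF F U) (R D T θ)) = 0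

end Cfsg.Agent.MO.HC
end

-- part: MO/HC/Lam
section
/-!
# MO/HC : the choice of the split Levi subgroups of a label (helper81)

`exists_stb` (averaging over `F`), `exists_gen` (generic cocharacters), `pb_PL`, `exists_PL`, `boxLam`.
-/

set_option autoImplicit false
set_option linter.unusedSectionVars false

namespace Cfsg.Agent.MO.HC

open Cfsg Cfsg.Agent.DL Cfsg.Agent.DL.CF Cfsg.Agent.RL Cfsg.Agent.KZ.Lie Cfsg.Agent.Nodes.Reps
  Cfsg.Agent.ChevalleyStructure.CoxeterGeom Cfsg.Agent.Tits.Roots Cfsg.Agent.Tits.Core Cfsg.Agent.Tits.Exchange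
  Cfsg.Agent.MO.Crd Matrix
open Cfsg.Agent.DL.PP hiding Lv hc

variable {p : ℕ} [Fact p.Prime] {k : Type} [Field k] [CharP k p] [IsAlgClosed k] {Y : Type} [Group Y] {N : Type}
  [Fintype N] [DecidableEq N] {ρ : Y →* GL N k} {F : MulAut Y} {G : Subgroup Y} {D : Datum p ρ F G} {c : Lbl D}
  {lam mu nu : D.R → ℤ} {a : D.I → ℤ}

theorem stb_zero : Stb D 0 := fun a _ => by rw [lf_zero, lf_zero]

theorem Stb.zero_iff (h : Stb D lam) (ha : D.Rt a) : lf D lam (D.g a) = 0 ↔ lf D lam a = 0 := by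
  have h1 := h a ha
  have h2 := h _ ha.neg
  rw [D.g_neg ha, map_neg, map_neg] at h2
  omega

theorem Stb.lex (h : Stb D lam) (h' : Stb D mu) (e : Lex D lam mu nu) : Stb D nu := fun a ha => by
  rw [(e _ (D.g_root a ha)).1, (e a ha).1, h a ha, h' a ha, h.zero_iff ha]

theorem lf_Fw (w : D.W) (lam : D.R → ℤ) (ha : D.Rt a) :
    lf D (D.Wm (D.Fw w) *ᵥ lam) (D.g a) = lf D lam (D.g (D.act w⁻¹ a)) := by
  rw [lf_act', D.g_act _ ha, map_inv]

theorem Stb.act (h : Stb D lam) {w : D.W} (hw : D.Fw w = w) : Stb D (D.Wm w *ᵥ lam) := fun a ha => by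
  conv_lhs => rw [← hw, lf_Fw w lam ha]
  rw [h _ (ha.act _), lf_act']

/-- averaging over `F` -/
theorem exists_stb (lam : D.R → ℤ) : ∃ mu, Stb D mu ∧ ∀ A : Set (D.I → ℤ), (∀ a ∈ A, ∃ b ∈ A, D.Rt b ∧ D.g b = a) →
    ((∀ a ∈ A, lf D lam a = 0) → ∀ a ∈ A, lf D mu a = 0) ∧ ((∀ a ∈ A, 0 < lf D lam a) → ∀ a ∈ A, 0 < lf D mu a) := by
  obtain ⟨d, e, L⟩ := exists_lvl D
  have hp : (0 : ℝ) < (p : ℝ) ^ e := pow_pos (Nat.cast_pos.2 (Fact.out : p.Prime).pos) _
  obtain ⟨q, hq, hq'⟩ : ∃ q : ℝ, 0 < q ∧ q ^ d * (p : ℝ) ^ e = 1 :=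
    ⟨(((p : ℝ) ^ e)⁻¹) ^ (d : ℝ)⁻¹, Real.rpow_pos_of_pos (inv_pos.2 hp) _, by
      rw [Real.rpow_inv_natCast_pow (inv_pos.2 hp).le L.d_pos.ne', inv_mul_cancel₀ hp.ne']⟩
  have h0 := fun B a ha => frm_gw (D := D) 1 B lam (a := a) ha
  simp only [act_one] at h0
  let r : (D.I → ℤ) →+ ℝ := ∑ i ∈ Finset.range d, q ^ i • frm ((D.Wm 1 * D.Mx) ^ i) lam
  have hr : ∀ b, r b = ∑ i ∈ Finset.range d, q ^ i * frm ((D.Wm 1 * D.Mx) ^ i) lam b := fun b =>
    AddMonoidHom.finsetSum_apply _ _ _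
  have h1 : ∀ a, D.Rt a → r (D.g a) = q * (p : ℝ) ^ D.ex a * r a := fun a ha => by
    have h2 := (Finset.sum_range_succ (fun i => q ^ i * frm ((D.Wm 1 * D.Mx) ^ i) lam (D.g a)) d).symm.trans
      (Finset.sum_range_succ' _ d)
    have h3 : q ^ d * frm ((D.Wm 1 * D.Mx) ^ d) lam (D.g a) = frm 1 lam (D.g a) := by
      rw [L.pow, frm_apply, frm_apply, vecMul_smul, smul_dotProduct, smul_eq_mul]
      push_cast
      rw [← mul_assoc, hq', one_mul]
    rw [h3, pow_zero, pow_zero, one_mul, add_left_inj] at h2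
    rw [hr, hr, h2, Finset.mul_sum]
    exact Finset.sum_congr rfl fun i _ => by rw [pow_succ' (D.Wm 1 * D.Mx), h0 _ _ ha]; ring
  obtain ⟨v, l, -, h2⟩ := exists_int r
  obtain ⟨n, mu, hn, h3⟩ := exists_lf D (l.comp (rep D.cs D.h v⁻¹).toAddMonoidHom)
  have h4 : ∀ a, D.Rt a → (0 < lf D mu a ↔ 0 < r a) := fun a ha => by
    rw [h3, mul_pos_iff_of_pos_left hn]
    exact (h2 _ (ha.act v⁻¹)).trans (by rw [act_act_inv])
  have key : ∀ (P : ℝ → Prop) (A : Set (D.I → ℤ)), (∀ a ∈ A, ∃ b ∈ A, D.Rt b ∧ D.g b = a) → (∀ s t, 0 < s → P t → P (s * t)) →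
      (∀ a ∈ A, P (lf D lam a)) → ∀ i, ∀ a ∈ A, P (q ^ i * frm ((D.Wm 1 * D.Mx) ^ i) lam a) := fun P A hA hP h i => by
    induction i with
    | zero => exact fun a ha => by simpa only [frm_apply, lf_apply, _root_.pow_zero, _root_.Matrix.vecMul_one, _root_.one_mul] using h a ha
    | succ i ih =>
      intro a ha
      obtain ⟨b, hb, hb', rfl⟩ := hA a ha
      rw [pow_succ' (D.Wm 1 * D.Mx), h0 _ _ hb', pow_succ', mul_mul_mul_comm]
      exact hP _ _ (mul_pos hq (q_pos' b)) (ih b hb)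
  refine ⟨mu, fun a ha => by rw [h4 a ha, h4 _ (D.g_root a ha), h1 a ha, mul_pos_iff_of_pos_left (mul_pos hq (q_pos' a))],
    fun A hA => ⟨fun h a ha => ?_, fun h a ha => ?_⟩⟩
  · obtain ⟨b, -, hb, e⟩ := hA a ha
    have h5 : D.Rt a := e ▸ D.g_root b hb
    have h6 : r a = 0 := (hr a).trans (Finset.sum_eq_zero fun i _ => key (· = 0) A hA (fun _ _ _ e => by rw [e, mul_zero])
      (fun a ha => by rw [h a ha, Int.cast_zero]) i a ha)
    have h7 := h4 a h5
    have h8 := h4 _ h5.neg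
    rw [map_neg, map_neg, h6, neg_zero] at h8
    rw [h6] at h7
    exact le_antisymm (not_lt.1 fun e => lt_irrefl _ (h7.1 e)) (not_lt.1 fun e => lt_irrefl _ (h8.1 (neg_pos.2 e)))
  · obtain ⟨b, -, hb, e⟩ := hA a ha
    rw [h4 a (e ▸ D.g_root b hb), hr]
    exact Finset.sum_pos (fun i _ => key (0 < ·) A hA (fun _ _ => mul_pos) (fun a ha => Int.cast_pos.2 (h a ha)) i a ha)
      ⟨0, Finset.mem_range.2 L.d_pos⟩

/-- generic cocharacters -/
theorem exists_gen (Λ : Set (D.R → ℤ)) (h0 : Λ.Nonempty) (h : ∀ lam ∈ Λ, ∀ mu ∈ Λ, ∀ nu, Lex D lam mu nu → nu ∈ Λ) :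
    ∃ lam ∈ Λ, ∀ mu ∈ Λ, Lv D lam ≤ Lv D mu := by
  obtain ⟨lam, h1, h2⟩ := (measure fun lam => {a | D.Rt a ∧ lf D lam a = 0}.ncard).wf.has_min Λ h0
  refine ⟨lam, h1, fun mu hmu => Lv_le_Lv.2 fun a ha e => ?_⟩
  obtain ⟨nu, h3⟩ := exists_lex D lam mu
  have h4 := Set.eq_of_subset_of_ncard_le (s := {a | D.Rt a ∧ lf D nu a = 0}) (t := {a | D.Rt a ∧ lf D lam a = 0})
    (fun a ha => ⟨ha.1, ((h3 a ha.1).2.1 ha.2).1⟩) (not_lt.1 (h2 nu (h lam h1 mu hmu nu h3)))
    (D.finite_roots.subset fun _ h => h.1)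
  exact ((h3 a ha).2.1 (h4.ge ⟨ha, e⟩).2).2

variable (Φ : LF D c)

theorem PL_act (x : Φ.W) (lam : D.R → ℤ) : PL Φ (D.Wm (Φ.φ x) *ᵥ lam) = cj x (PL Φ lam) := Subgroup.ext fun v => by
  rw [mem_cj, PL, PL, Wl_act, Subgroup.mem_comap, Subgroup.mem_comap, mem_cj, map_mul, map_mul, map_inv]

theorem PL_zero : PL Φ 0 = ⊤ := eq_top_iff.2 fun _ _ => mulVec_zero _

theorem PL_mono (h : Lv D lam ≤ Lv D mu) : PL Φ lam ≤ PL Φ mu := Subgroup.comap_mono (Wl_le h)

theorem PL_dm (h : Φ.Dm lam) : PL Φ lam = WJ Φ.cs (Φ.Jl lam) := Subgroup.ext fun _ => LF.mem_Wl h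

theorem PL_lex (h : Lex D lam mu nu) : PL Φ lam ⊓ PL Φ mu ≤ PL Φ nu := fun v hv =>
  mem_Wl_of_sign fun a ha => by
    rw [(h _ (ha.act _)).1, (h a ha).1, lf_act_of_mem hv.1, lf_act_of_mem hv.2]

variable {Φ}

/-- a dominant cocharacter has no other dominant conjugate -/
theorem dm_uniq (h : Φ.Dm lam) {v : Φ.W} (h' : Φ.Dm (D.Wm (Φ.φ v) *ᵥ lam)) : v ∈ PL Φ lam := by
  induction hn : Φ.cs.length v using Nat.strong_induction_on generalizing v with
  | _ n ih =>
  by_cases h1 : v = 1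
  · exact h1 ▸ one_mem _
  obtain ⟨i, hi⟩ := Φ.cs.exists_rightDescent_of_ne_one h1
  have h2 : rep Φ.cs Φ.h v (sr i) ≤ 0 := nonpos_of_lt _ _ v i hi
  have h3 := h'.nonneg (neg_nonneg.2 h2)
  rw [LF.io, map_neg, ← LF.io, ← Φ.act_φ, LF.io_sr, map_neg, neg_dotProduct, LF.wt_act] at h3
  have h5 : Φ.cs.simple i ∈ PL Φ lam := (PL_dm Φ h).ge (simple_mem_WJ Φ.cs (le_antisymm (neg_nonneg.1 h3) (h i)))
  have h6 := ih _ (hn ▸ hi) (v := v * Φ.cs.simple i) (by
    rwa [map_mul, D.Wm_mul, ← mulVec_mulVec, show D.Wm _ *ᵥ lam = lam from h5]) rfl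
  simpa using mul_mem h6 h5

section one

variable (h1 : Φ.w1 = 1)
include h1

theorem φ_ψ (v : Φ.W) : Φ.φ (Φ.ψ v) = D.Fw (Φ.φ v) := by simpa [h1] using Φ.tw' v

theorem g_β (i : Φ.I) : D.g (Φ.β i) = Φ.β (Φ.τ i) := by rw [← Φ.node, h1, act_one]

theorem Stb.act' (h : Stb D lam) {x : Φ.W} (hx : Φ.ψ x = x) : Stb D (D.Wm (Φ.φ x) *ᵥ lam) := h.act (by rw [← φ_ψ h1, hx])

theorem pb_PL (hC : BoxCox) (h : Stb D lam) : Pb Φ.toRC (PL Φ lam) := by
  obtain ⟨u, hu⟩ := Φ.exists_dm lam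
  have e1 : ∀ i, lf D (D.Wm (Φ.φ (Φ.ψ u)) *ᵥ lam) (Φ.β (Φ.τ i)) = lf D lam (D.g (D.act (Φ.φ u)⁻¹ (Φ.β i))) := fun i => by
    rw [φ_ψ h1, ← g_β h1, lf_Fw _ _ (Φ.rc_β i).1]
  have e2 : D.Wm (Φ.φ (Φ.ψ u * u⁻¹)) *ᵥ (D.Wm (Φ.φ u) *ᵥ lam) = D.Wm (Φ.φ (Φ.ψ u)) *ᵥ lam := by
    rw [mulVec_mulVec, ← D.Wm_mul, ← map_mul, inv_mul_cancel_right]
  have h2 := dm_uniq hu (v := Φ.ψ u * u⁻¹) (e2 ▸ fun i => by
    obtain ⟨i, rfl⟩ := Φ.τ.surjective i
    have h3 : D.Rt (D.act (Φ.φ u)⁻¹ (Φ.β i)) := (Φ.rc_β i).1.act _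
    have h4 := h _ h3
    have h5 := h.zero_iff h3
    have h6 : 0 ≤ lf D _ (Φ.β i) := hu i
    rw [lf_act'] at h6
    show 0 ≤ lf D _ _
    rw [e1]
    omega)
  have h3 : Crd.St Φ.τ (Φ.Jl (D.Wm (Φ.φ u) *ᵥ lam)) := fun i => by
    show lf D _ _ = 0 ↔ lf D _ _ = 0
    conv_lhs => rw [← show D.Wm _ *ᵥ _ = D.Wm (Φ.φ u) *ᵥ lam from h2, e2, e1]
    rw [h.zero_iff ((Φ.rc_β i).1.act _), lf_act']
  obtain ⟨t, ht, e⟩ := hC.h1 (pb_WJ (R := Φ.toRC) h3) u⁻¹ (by simpa only [_root_.inv_inv, _root_.map_inv, _root_.mul_inv_rev] using inv_mem ((PL_dm Φ hu).le h2))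
  exact ⟨_, e, _, h3, by rw [cj_mul, cj_eq_of_mem ht, ← PL_dm Φ hu, PL_act, cj_inv_cj]⟩

theorem exists_PL {P : Subgroup Φ.W} (h : Pb Φ.toRC P) : ∃ lam, Stb D lam ∧ PL Φ lam = P := by
  classical
  obtain ⟨x, hx, J, hJ, rfl⟩ := h
  obtain ⟨r, hr⟩ := exists_Reg D
  obtain ⟨u, hu⟩ := Φ.exists_dm r
  have h2 : ∀ z, IsRoot Φ.cs Φ.h z → 0 ≤ z → 0 < lf D (D.Wm (Φ.φ u) *ᵥ r) (Φ.io z) := fun z hz h0 =>
    lt_of_le_of_ne (hu.nonneg h0) (by rw [lf_act']; exact (hr _ ((Φ.rc_io hz).1.act _)).symm)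
  generalize D.Wm (Φ.φ u) *ᵥ r = s at h2
  have h3 : ∀ i, lf D (∑ v : WJ Φ.cs J, D.Wm (Φ.φ (v : Φ.W)⁻¹) *ᵥ s) (Φ.β i) =
      ∑ v : WJ Φ.cs J, lf D s (Φ.io (rep Φ.cs Φ.h v (sr i))) := fun i => by
    rw [lf_apply, dotProduct_sum]
    exact Finset.sum_congr rfl fun v _ => by rw [← lf_apply, lf_act', map_inv, inv_inv, ← Φ.act_φ, LF.io_sr]
  obtain ⟨mu, h4, h5⟩ := exists_stb (D := D) (∑ v : WJ Φ.cs J, D.Wm (Φ.φ (v : Φ.W)⁻¹) *ᵥ s)
  have h6 : ∀ K, Crd.St Φ.τ K → ∀ a ∈ Φ.β '' K, ∃ b ∈ Φ.β '' K, D.Rt b ∧ D.g b = a := by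
    rintro K hK _ ⟨i, hi, rfl⟩
    obtain ⟨i, rfl⟩ := Φ.τ.surjective i
    exact ⟨_, ⟨i, (hK i).1 hi, rfl⟩, (Φ.rc_β i).1, g_β h1 i⟩
  have h7 := (h5 _ (h6 J hJ)).1 (Set.forall_mem_image.2 fun i hi => by
    have h7 := Equiv.sum_comp (Equiv.mulRight (⟨_, simple_mem_WJ Φ.cs hi⟩ : WJ Φ.cs J))
      fun v => lf D s (Φ.io (rep Φ.cs Φ.h v (sr i)))
    simp only [Equiv.coe_mulRight, Subgroup.coe_mul, rep_mul_apply, rep_simple_sr, LF.io, map_neg,
      Finset.sum_neg_distrib] at h7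
    rw [h3]
    simp only [LF.io]
    omega)
  have h8 := (h5 _ (h6 Jᶜ fun i => (hJ i).not)).2 (Set.forall_mem_image.2 fun i hi => by
    rw [h3]
    refine Finset.sum_pos (fun v _ => ?_) Finset.univ_nonempty
    have h7 : IsRoot Φ.cs Φ.h (rep Φ.cs Φ.h v (sr i)) := ⟨v, i, rfl⟩
    refine h2 _ h7 (h7.pos_or_neg.resolve_right fun e => ?_)
    have h8 := e i
    rw [Tits.RootComb.rep_apply_of_mem Φ.cs Φ.h v.2 (sr i) hi, sr_self] at h8
    exact absurd h8 (not_le.2 one_pos))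
  refine ⟨_, h4.act' h1 hx, ?_⟩
  rw [PL_act, PL_dm Φ fun i => (em (i ∈ J)).elim (fun e => (h7 _ ⟨i, e, rfl⟩).ge) fun e => (h8 _ ⟨i, e, rfl⟩).le]
  congr 2
  exact Set.ext fun i => ⟨fun e => by_contra fun e' => (h8 _ ⟨i, e', rfl⟩).ne' e, fun e => h7 _ ⟨i, e, rfl⟩⟩

end one

theorem cj_eq_top {W : Type} [Group W] {x : W} {P : Subgroup W} : cj x P = ⊤ ↔ P = ⊤ := by
  simp only [Subgroup.eq_top_iff', mem_cj]
  exact ⟨fun h y => by simpa only [mul_assoc, _root_.inv_mul_cancel_left, _root_.inv_mul_cancel, _root_.mul_one] using h (x * y * x⁻¹), fun h _ => h _⟩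

/-- **the choice of the Levi subgroups** -/
theorem boxLam (hC : BoxCox) : BoxLam := by
  intro p _ k _ _ _ Y _ N _ _ ρ F G D c Φ h1
  classical
  choose Λ h2 h3 using fun P : Subgroup Φ.W => exists_gen {lam | Stb D lam ∧ P ≤ PL Φ lam} ⟨0, stb_zero, (PL_zero Φ).ge.trans' le_top⟩
    fun _ h _ h' _ e => ⟨h.1.lex h'.1 e, (le_inf h.2 h'.2).trans (PL_lex Φ e)⟩
  have h4 : ∀ {P x}, Φ.ψ x = x → Lv D (Λ (cj x P)) ≤ Lv D (D.Wm (Φ.φ x) *ᵥ Λ P) := fun {P x} hx =>
    h3 _ _ ⟨(h2 P).1.act' h1 hx, (cj_mono x (h2 P).2).trans (PL_act Φ x _).ge⟩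
  refine ⟨fun P => if P = ⊤ then 0 else Λ P, pb_PL h1 hC, fun {P} _ => ?_, fun {P} h => ?_, fun {P Q} _ _ h => ?_,
    fun {P x} _ hx => ?_, by rw [if_pos rfl, Lv_zero], fun {P lam} _ e h h' => by rw [if_neg e]; exact h3 P _ ⟨h, h'⟩⟩
  · split_ifs
    exacts [stb_zero, (h2 P).1]
  · split_ifs with e
    · rw [e, PL_zero]
    · obtain ⟨lam, h5, h6⟩ := exists_PL h1 h
      exact le_antisymm ((PL_mono Φ (h3 P lam ⟨h5, h6.ge⟩)).trans h6.le) (h2 P).2
  · by_cases e : Q = ⊤
    · rw [if_pos e, Lv_zero]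
      exact Lv_le D _
    · rw [if_neg e, if_neg fun e' : P = ⊤ => e (top_le_iff.1 (e' ▸ h))]
      exact h3 P _ ⟨(h2 Q).1, h.trans (h2 Q).2⟩
  · by_cases e : P = ⊤
    · rw [if_pos e, if_pos (cj_eq_top.2 e), mulVec_zero]
    · rw [if_neg e, if_neg (mt cj_eq_top.1 e)]
      refine le_antisymm (h4 hx) (Lv_le_Lv.2 fun a ha h0 => ?_)
      have h5 := h4 (P := cj x P) (x := x⁻¹) (by rw [map_inv, hx])
      rw [cj_inv_cj] at h5
      have h6 := Lv_le_Lv.1 h5 _ (ha.act (Φ.φ x)⁻¹) (by rwa [← lf_act'])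
      rwa [lf_act', map_inv, inv_inv, act_act_inv] at h6

end Cfsg.Agent.MO.HC
end

-- part: MO/U/Lev
section
/-!
# MO / U : the enumeration of the short vectors of one level (helper48)

`lev_sound` : if `L.enum (fil L c κ) fs B P = true`, `InL L κ a` and `c.S * nr a ≤ B`, then `P rem vals = true` for
`rem = B - c.S * nr a` and `vals = c.N * (∑ φ, t φ * a φ)`, `t ∈ fs`.
-/

set_option autoImplicit false

namespace Cfsg.Agent.MO.U

open Cfsg.Agent.LV.W Cfsg.Agent.LV.Enum Finset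

/-- the norm -/
def nr (nd : Nd) (a : ℕ → ℚ) : ℚ := (∑ φ ∈ range nd.K, nd.ν φ * a φ ^ 2) / nd.ν 0

/-- the blocks of the level `κ` -/
def fil (L : LV.W.Lat) (c : Ce) (κ : ℤ) : Ce := ⟨c.N, c.S, c.bl.filter fun b => b.ph.all fun φ => decide (L.nd.lv 0 φ = κ)⟩

/-- every block has one level -/
def hom (L : LV.W.Lat) (c : Ce) : Bool := c.bl.all fun b => b.ph.all fun φ => decide (L.nd.lv 0 φ = L.nd.lv 0 (b.ph.headD 0))

variable {L : LV.W.Lat} {c : Ce}

theorem sum_fil (hc : L.ceOK c = true) (hh : hom L c = true) (κ : ℤ) (g : ℕ → ℚ) :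
    ∑ φ ∈ range L.nd.K, (if L.nd.lv 0 φ = κ then g φ else 0) = ((fil L c κ).bl.map fun b => (b.ph.map g).sum).sum := by
  rw [Lat.sum_bl hc, fil]
  simp only [hom, List.all_eq_true, decide_eq_true_eq] at hh
  generalize c.bl = bs at hh
  induction bs with
  | nil => rfl
  | cons b bs ih =>
    rw [List.map_cons, List.sum_cons, ih fun b hb => hh b (List.mem_cons_of_mem _ hb), List.filter_cons]
    split_ifs with h
    · simp only [List.all_eq_true, decide_eq_true_eq] at h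
      rw [List.map_cons, List.sum_cons, List.map_congr_left fun φ hφ => if_pos (h φ hφ)]
    · simp only [List.all_eq_true, decide_eq_true_eq, not_forall] at h
      obtain ⟨φ, h1, h2⟩ := h
      rw [List.map_congr_left (g := fun _ => 0) fun χ hχ => if_neg fun e => h2 (by
        rw [hh b List.mem_cons_self φ h1, ← hh b List.mem_cons_self χ hχ, e])]
      simp

theorem lev_sound (hc : L.ceOK c = true) (hh : hom L c = true) {κ : ℤ} {a : ℕ → ℚ} (ha : InL L κ a) {fs : List (List ℤ)}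
    {B : ℤ} {P : ℤ → List ℤ → Bool} (h : L.enum (fil L c κ) fs B P = true) (hz : c.S * nr L.nd a ≤ B) :
    ∃ (rem : ℤ) (v : List ℤ → ℤ), (rem : ℚ) = B - c.S * nr L.nd a ∧
      (∀ t, (v t : ℚ) = c.N * ∑ φ ∈ range L.nd.K, ((nth 0 t φ : ℤ) : ℚ) * a φ) ∧ P rem (fs.map v) = true := by
  obtain ⟨z, ha⟩ := ha
  have hc' := hc
  simp only [Lat.ceOK, Bool.and_eq_true, decide_eq_true_eq, List.all_eq_true] at hc'
  obtain ⟨⟨⟨hN, hν⟩, -⟩, hb0⟩ := hc'
  have hb : ∀ b ∈ (fil L c κ).bl, L.blkOK c b = true := fun b h => hb0 b (List.mem_filter.1 h).1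
  have hs : ∀ g : ℕ → ℚ → ℚ, (∀ φ, g φ 0 = 0) → ∑ φ ∈ range L.nd.K, g φ (a φ) =
      ((fil L c κ).bl.map fun b => (b.ph.map fun φ => g φ (L.a z φ)).sum).sum := fun g hg => by
    rw [← sum_fil hc hh]
    refine sum_congr rfl fun φ hφ => ?_
    rw [ha φ (mem_range.1 hφ)]
    split_ifs
    exacts [rfl, hg φ]
  rw [Lat.enum, fl_eq (fun b k => by rw [Lat.fR, fl_eq (fun r k => by rw [fi_eq, fi_eq, fl_eq fi_eq]), fm_eq]), fi_eq] at h
  have hQ : ((((fil L c κ).bl.map fun b => Q (dense b.R) (b.js.map z)).sum : ℤ) : ℚ) = c.S * nr L.nd a := by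
    have h1 : (L.nd.ν 0 : ℚ) ≠ 0 := Int.cast_ne_zero.2 hν
    rw [nr, mul_div_assoc', mul_sum, sum_div, hs (fun φ x => c.S * (L.nd.ν φ * x ^ 2) / L.nd.ν 0) (fun _ => by simp),
      Int.cast_list_sum, List.map_map]
    refine congrArg List.sum (List.map_congr_left fun b hb' => ?_)
    have h2 := hb b hb'
    have h3 := h2
    simp only [Lat.blkOK, Bool.and_eq_true, decide_eq_true_eq, List.all_eq_true] at h3
    rw [Function.comp, ← gram_eq, h3.2, gram_eq, Q, List.map_map, Int.cast_list_sum, List.map_map]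
    refine congrArg List.sum (List.map_congr_left fun φ hφ => ?_)
    have h4 := congrArg (Int.cast : ℤ → ℚ) (h3.1.2 φ hφ).2
    simp only [Function.comp, Int.cast_mul, Int.cast_pow, Lat.row_spec h2 hφ] at h4 ⊢
    rw [eq_div_iff h1]
    linear_combination L.a z φ ^ 2 * h4
  have h1 := goB_sound fs Blk.R (L.uu c) (fun b => b.js.map z) (fil L c κ).bl (fun b hb' => by
    have h3 := hb b hb'
    simp only [Lat.blkOK, Bool.and_eq_true, decide_eq_true_eq, List.all_eq_true] at h3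
    exact ⟨h3.1.1.2, by rw [List.length_map, h3.1.1.1.2]⟩) B (fun _ => 0) h (by
      rw [← hQ] at hz; exact_mod_cast hz)
  refine ⟨_, _, by rw [Int.cast_sub, hQ], fun t => ?_, h1⟩
  rw [zero_add, mul_sum, hs (fun φ x => c.N * (((nth 0 t φ : ℤ) : ℚ) * x)) (fun _ => by simp), Int.cast_list_sum, List.map_map]
  refine congrArg List.sum (List.map_congr_left fun b hb' => ?_)
  rw [Function.comp, Lat.uu, dot_comb, List.map_map]
  have h2 := fun φ hφ => Lat.row_spec (hb b hb') (φ := φ) hφ z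
  generalize b.ph = ph at h2
  induction ph with
  | nil => rfl
  | cons φ ph ih =>
    show ((nth 0 t φ * _ + _ : ℤ) : ℚ) = _
    rw [Int.cast_add, ih fun χ hχ => h2 χ (List.mem_cons_of_mem _ hχ), List.map_cons, List.sum_cons, Int.cast_mul,
      Function.comp, h2 φ List.mem_cons_self]
    ring

example := And.intro @nr.eq_1 (And.intro @fil.eq_1 @hom.eq_1)

end Cfsg.Agent.MO.U
end

-- part: MO/U/Hc
section
/-!
# MO / U : from the enumeration of the levels and the multiplicities to `Tb.Core` (helper46)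

* `Lvl tb kl κ` : a short vector of the level `κ` with a degree is a candidate;
* `chk`, `lvl_of` : the enumeration with three functionals (two values of the degree, the packed coordinates);
* `side`, `core_of` : the assembly.
-/

set_option autoImplicit false

namespace Cfsg.Agent.MO.U.Hc

open Cfsg.Agent.LV.W Cfsg.Agent.LV.Enum Finset Polynomial

theorem nth_smul (s : ℤ) (l : List ℤ) (i : ℕ) : nth 0 (l.map (Int.mul s)) i = s * nth 0 l i := nth_map_mul s l i

theorem nth_comb (c : List ℤ) (V : List (List ℤ)) (φ : ℕ) :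
    nth 0 (comb c V) φ = ∑ k ∈ range c.length, nth 0 c k * ga V k φ := by
  induction c generalizing V with
  | nil => cases V <;> rfl
  | cons a c ih =>
    cases V with
    | nil => exact (sum_eq_zero fun k _ => mul_zero _).symm
    | cons v V =>
      rw [comb, nth_addL, nth_smul, ih, List.length_cons, sum_range_succ', add_comm]
      rfl

theorem dot_sum {l : List ℤ} {n : ℕ} (hn : l.length ≤ n) (m : List ℤ) :
    dot l m = ∑ i ∈ range n, nth 0 l i * nth 0 m i := by
  induction l generalizing n m with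
  | nil => rw [sum_eq_zero fun i _ => by rw [nth_nil, zero_mul]]; cases m <;> rfl
  | cons a l ih =>
    cases n with
    | zero => exact absurd hn (Nat.not_succ_le_zero _)
    | succ n =>
      cases m with
      | nil => exact (sum_eq_zero fun k _ => mul_zero _).symm
      | cons b m =>
        rw [sum_range_succ', add_comm]
        exact congrArg (a * b + ·) (ih (Nat.le_of_succ_le_succ hn) m)

/-- the degree as a functional -/
def fd (nd : Nd) (d : Td) (x : ℤ) : List ℤ :=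
  fl fi ((List.range nd.K).map fun k => Int.mul (nd.n k) (d.co k x)) fun c => fm nd.XC fun V => comb c V

theorem fd_spec (nd : Nd) (d : Td) (x : ℤ) (a : ℕ → ℚ) :
    ∑ φ ∈ range nd.K, ((nth 0 (fd nd d x) φ : ℤ) : ℚ) * a φ = dgr nd d a x := by
  simp only [fd, fl_eq fi_eq, fm_eq, nth_comb, List.length_map, List.length_range, dgr, vl, Int.cast_sum, sum_mul, mul_sum]
  rw [sum_comm]
  refine sum_congr rfl fun k hk => sum_congr rfl fun φ _ => ?_
  rw [nth_range_map _ _ (mem_range.1 hk), show (nd.n k).mul (d.co k x) = nd.n k * d.co k x from rfl, Nd.X]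
  push_cast; ring

/-- the powers of `B` -/
def pw (B : ℤ) (n : ℕ) : List ℤ := (List.range n).map fun i => B ^ i

/-- the test at a leaf -/
def leaf (T C : ℤ) (cs : List ℤ) (_ : ℤ) (v : List ℤ) : Bool :=
  fi (nth 0 v 0) fun e => decide (e ≤ 0) || (decide (e < T) && !decide (Int.emod (Int.mul (nth 0 v 1) C) e = 0)) ||
    fi (nth 0 v 2) fun h => cs.any fun x => decide (x = h)

variable (tb : Tb) (kl : List (List ℤ))

/-- a short vector of the level with a degree is a candidate -/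
def Lvl (κ : ℤ) : Prop := ∀ a : ℕ → ℚ, InL tb.L κ a → Cd tb.L tb.d tb.sl a → nr tb.L.nd a ≤ 1 →
  ∃ u < tb.nu + kl.length, ∀ φ < tb.L.nd.K, tb.N * a φ = tb.cv kl u φ

/-- the small conditions -/
def side (c : Ce) (b : ℤ) (ks : List ℤ) : Bool :=
  hom tb.L c && decide (c.N = tb.N) && decide (0 < c.S) && Nat.blt 0 tb.N && Nat.ble tb.mu.length tb.nu && decide (0 < b) &&
  ((tb.V ++ kl).all fun v => Nat.ble v.length tb.L.nd.K && v.all fun x => decide (|x| < b)) &&
  allLt tb.L.nd.K fun φ => decide (c.N ^ 2 * tb.L.nd.ν 0 < b ^ 2 * tb.L.nd.ν φ) && decide (tb.L.nd.lv 0 φ ∈ ks)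

/-- the enumeration of the levels `ks` -/
def chk (c : Ce) (b t : ℤ) (e : ℕ) (ks : List ℤ) : Bool :=
  decide ((tb.d.x0 : ℤ) ≤ t) && decide (1 < t) &&
  fm [fd tb.L.nd tb.d t, fd tb.L.nd tb.d 3, pw (2 * b + 1) tb.L.nd.K] fun fs => fi (t ^ e) fun T =>
    fi (T * pr tb.d.cy t tb.sl) fun C => fl fi ((tb.V ++ kl).map (pkz (2 * b + 1))) fun cs =>
      ks.all fun κ => tb.L.enum (fil tb.L c κ) fs c.S (leaf T C cs)

variable {tb kl} {c : Ce} {b : ℤ} {ks : List ℤ}

theorem side_iff : side tb kl c b ks = true ↔ hom tb.L c = true ∧ c.N = tb.N ∧ 0 < c.S ∧ 0 < tb.N ∧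
    tb.mu.length ≤ tb.nu ∧ 0 < b ∧ (∀ v ∈ tb.V ++ kl, v.length ≤ tb.L.nd.K ∧ ∀ x ∈ v, |x| < b) ∧
    ∀ φ < tb.L.nd.K, c.N ^ 2 * tb.L.nd.ν 0 < b ^ 2 * tb.L.nd.ν φ ∧ tb.L.nd.lv 0 φ ∈ ks := by
  simp only [side, Bool.and_eq_true, decide_eq_true_eq, List.all_eq_true, allLt_iff, Nat.blt_eq, Nat.ble_eq, and_assoc]

theorem abs_nth_lt {v : List ℤ} (hb : 0 < b) (h : ∀ x ∈ v, |x| < b) (i : ℕ) : |nth 0 v i| < b := by
  induction v generalizing i with
  | nil => exact hb
  | cons a v ih =>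
    cases i with
    | zero => exact h a List.mem_cons_self
    | succ i => exact ih (fun x hx => h x (List.mem_cons_of_mem _ hx)) i

theorem exists_nth {α : Type} (d : α) {l : List α} {x : α} (h : x ∈ l) : ∃ u < l.length, nth d l u = x := by
  obtain ⟨u, hu, rfl⟩ := List.mem_iff_getElem.1 h
  exact ⟨u, hu, by rw [nth_eq, List.getD_eq_getElem _ _ hu]⟩

theorem nth_mem {α : Type} (d : α) {l : List α} {u : ℕ} (h : u < l.length) : nth d l u ∈ l := by
  rw [nth_eq, List.getD_eq_getElem _ _ h]; exact List.getElem_mem h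

/-- the degree polynomial of an integral vector -/
theorem exists_poly (nd : Nd) (d : Td) {N : ℚ} {a : ℕ → ℚ} {w : ℕ → ℤ} (hw : ∀ φ < nd.K, (w φ : ℚ) = N * a φ) :
    ∃ e : ℤ[X], ∀ x : ℤ, ((e.eval x : ℤ) : ℚ) = N * dgr nd d a x := by
  refine ⟨∑ k ∈ range nd.K, C (nd.n k * (∑ φ ∈ range nd.K, w φ * nd.X φ k) * nth 0 d.sg k) *
    prv d.cy X (List.zipWith (· - ·) d.am (nth [] d.ex k)), fun x => ?_⟩
  rw [← coe_evalRingHom, map_sum, Int.cast_sum, dgr, mul_sum]
  refine sum_congr rfl fun k _ => ?_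
  rw [map_mul, map_prv, coe_evalRingHom, eval_C, eval_X, Td.co, pr_eq, vl]
  push_cast
  rw [sum_congr rfl fun φ hφ => by rw [hw φ (mem_range.1 hφ), mul_assoc], ← mul_sum]
  ring

theorem lvl_of (G : tb.L.nd.Good) (hc : tb.L.ceOK c = true) (hd : tb.d.ok tb.L.nd.K = true)
    (hs : side tb kl c b ks = true) {t : ℤ} {e : ℕ} {ks' : List ℤ} (h : chk tb kl c b t e ks' = true) :
    ∀ κ ∈ ks', Lvl tb kl κ := fun κ hκ a ha hcd hn => by
  obtain ⟨hh, hN, hS, hN0, -, hb, hV, hν⟩ := side_iff.1 hs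
  simp only [chk, fm_eq, fi_eq, fl_eq fi_eq, List.all_eq_true, Bool.and_eq_true, decide_eq_true_eq] at h
  obtain ⟨⟨hx, ht⟩, h⟩ := h
  obtain ⟨rem, v, -, hv, hP⟩ := lev_sound hc hh ha (h κ hκ) (by
    have : (0 : ℚ) < c.S := Int.cast_pos.2 hS
    nlinarith only [hn, this])
  rw [hN, Int.cast_natCast] at hv
  have hw : ∀ φ < tb.L.nd.K, (v (Nd.unit φ 1) : ℚ) = tb.N * a φ := fun φ hφ => by
    rw [hv, sum_eq_single φ (fun χ _ h => by rw [Nd.nth_unit, if_neg h, Int.cast_zero, zero_mul])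
      (fun h => absurd (mem_range.2 hφ) h), Nd.nth_unit, if_pos rfl, Int.cast_one, one_mul]
  obtain ⟨P, hP'⟩ := exists_poly tb.L.nd tb.d hw
  have hf : ∀ x, v (fd tb.L.nd tb.d x) = P.eval x := fun x => Int.cast_injective (α := ℚ) (by rw [hv, fd_spec, hP'])
  obtain ⟨p, j, hp, hq, hpos, D, hD, hdv⟩ := hcd.deg
  have hN1 : (0 : ℚ) < tb.N := Nat.cast_pos.2 hN0
  have hev : ∀ x : ℤ, (prv tb.d.cy X tb.sl : ℤ[X]).eval x = pr tb.d.cy x tb.sl := fun x => by
    rw [← coe_evalRingHom, map_prv, coe_evalRingHom, eval_X, pr_eq]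
  obtain ⟨h1, h2⟩ := weak (e := P) (Q := prv tb.d.cy X tb.sl) hp (a := tb.d.x0) (Nat.cast_pos.2 (Td.ok_iff.1 hd).2.1)
    (fun x hx => by
      have h1 := map_prv (aeval x : ℤ[X] →ₐ[ℤ] ℝ).toRingHom tb.d.cy X tb.sl
      simp only [AlgHom.toRingHom_eq_coe, RingHom.coe_coe, aeval_X] at h1
      rw [h1]
      exact (prv_pos (Td.ok_iff.1 hd).1 hx _).ne')
    (q := (p : ℤ) ^ j) (by exact_mod_cast hq) (by
      have h1 := mul_pos hN1 hpos
      rw [← hP'] at h1
      exact_mod_cast h1) (D := tb.N * D) (mul_ne_zero (Nat.cast_ne_zero.2 hN0.ne') hD) (fun n => by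
      obtain ⟨i, f, z, hi, h1⟩ := hdv n
      refine ⟨i, f, z, hi, Int.cast_injective (α := ℚ) ?_⟩
      rw [hev, Int.cast_mul, hP', mul_assoc, h1]
      push_cast; ring) hx ht
  simp only [leaf, fi_eq, List.map_cons, List.map_nil, Bool.or_eq_true, Bool.and_eq_true, decide_eq_true_eq,
    Bool.not_eq_true', decide_eq_false_iff_not, List.any_eq_true] at hP
  have e0 : ∀ x y z : ℤ, nth 0 [x, y, z] 0 = x ∧ nth 0 [x, y, z] 1 = y ∧ nth 0 [x, y, z] 2 = z := fun _ _ _ => ⟨rfl, rfl, rfl⟩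
  rw [(e0 _ _ _).1, (e0 _ _ _).2.1, (e0 _ _ _).2.2, hf, hf] at hP
  rcases hP with (hP | hP) | ⟨x, hx, hP⟩
  · exact absurd h1 (not_lt.2 hP)
  · refine absurd (Int.emod_eq_zero_of_dvd ?_) hP.2
    have h3 := h2 e 3 hP.1
    rwa [hev] at h3
  obtain ⟨y, hy, rfl⟩ := List.mem_map.1 hx
  obtain ⟨u, hu, rfl⟩ := exists_nth [] hy
  refine ⟨u, by rwa [List.length_append] at hu, fun φ hφ => ?_⟩
  have hy' := hV _ hy
  have h3 : v (pw (2 * b + 1) tb.L.nd.K) = ∑ φ ∈ range tb.L.nd.K, v (Nd.unit φ 1) * (2 * b + 1) ^ φ :=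
    Int.cast_injective (α := ℚ) (by
      rw [hv, mul_sum, Int.cast_sum]
      refine sum_congr rfl fun χ hχ => ?_
      rw [pw, nth_range_map _ _ (mem_range.1 hχ), Int.cast_mul, hw χ (mem_range.1 hχ)]
      ring)
  have h4 : ∀ χ < tb.L.nd.K, |v (Nd.unit χ 1)| < b := fun χ hχ => by
    have h5 : (0 : ℚ) < tb.L.nd.ν 0 := Int.cast_pos.2 (G.orth G.spec.2.1).1
    have h6 : (0 : ℚ) < tb.L.nd.ν χ := Int.cast_pos.2 (G.orth hχ).1
    have h7 : (tb.L.nd.ν χ : ℚ) * a χ ^ 2 ≤ tb.L.nd.ν 0 := by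
      rw [nr, div_le_one h5] at hn
      exact (single_le_sum (f := fun φ => (tb.L.nd.ν φ : ℚ) * a φ ^ 2) (fun φ hφ =>
        mul_nonneg (Int.cast_nonneg (G.orth (mem_range.1 hφ)).1.le) (sq_nonneg _)) (mem_range.2 hχ)).trans hn
    have h8 : (tb.N : ℚ) ^ 2 * tb.L.nd.ν 0 < (b : ℚ) ^ 2 * tb.L.nd.ν χ := by
      have := (hν χ hχ).1
      rw [hN] at this
      exact_mod_cast this
    refine abs_lt_of_sq_lt_sq (Int.cast_lt (R := ℚ) |>.1 ?_) hb.le
    rw [Int.cast_pow, Int.cast_pow, hw χ hχ]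
    refine lt_of_mul_lt_mul_right ?_ h6.le
    linarith only [h8, mul_le_mul_of_nonneg_left h7 (sq_nonneg (tb.N : ℚ))]
  have h5 := pack_inj (B := 2 * b + 1) (n := tb.L.nd.K) (d := fun φ => v (Nd.unit φ 1) - tb.cv kl u φ) (fun χ hχ => by
    have h5 := abs_lt.1 (h4 χ hχ)
    have h6 := abs_lt.1 (abs_nth_lt hb hy'.2 χ)
    rw [Tb.cv, abs_lt]
    omega) (by
    simp only [sub_mul, sum_sub_distrib]
    rw [← h3, ← hP, pkz_eq _ hy'.1]
    exact sub_self _) φ hφ
  rw [← hw φ hφ, sub_eq_zero.1 h5]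

theorem sum_lab {ι : Type} [Fintype ι] {lab : ι → ℕ} {n : ℕ} (h : ∀ i, lab i < n) (g : ℕ → ℤ) :
    ∑ u ∈ range n, ((Nat.card {i // lab i = u} : ℕ) : ℤ) * g u = ∑ i, g (lab i) := by
  classical
  rw [← sum_fiberwise_of_maps_to (s := univ) (t := range n) (g := lab) fun i _ => mem_range.2 (h i)]
  refine sum_congr rfl fun u _ => ?_
  rw [sum_congr rfl fun i hi => by rw [(mem_filter.1 hi).2], sum_const, nsmul_eq_mul, Nat.card_eq_fintype_card,
    Fintype.card_subtype]

/-- **assembly** -/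
theorem core_of (G : tb.L.nd.Good) (hs : side tb kl c b ks = true) (hl : ∀ κ ∈ ks, Lvl tb kl κ) (hm : tb.Mu kl) :
    tb.Core := fun {ι} _ {a} H hb => by
  obtain ⟨-, -, -, hN0, hmu, -, hV, hν⟩ := side_iff.1 hs
  have h0 : (0 : ℚ) < tb.L.nd.ν 0 := Int.cast_pos.2 (G.orth G.spec.2.1).1
  have hN1 : (tb.N : ℚ) ≠ 0 := Nat.cast_ne_zero.2 hN0.ne'
  have ex : ∀ i, ∃ u < tb.nu + kl.length, ∀ φ < tb.L.nd.K, tb.N * a i φ = tb.cv kl u φ := fun i => by
    obtain ⟨κ, hκ⟩ := (H.cd i).lat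
    refine hl κ ?_ _ hκ (H.cd i) ?_
    · by_contra h
      obtain ⟨z, hz⟩ := hκ
      obtain ⟨p, j, -, -, hpos, -⟩ := (H.cd i).deg
      refine hpos.ne' (sum_eq_zero fun k _ => ?_)
      rw [vl, sum_eq_zero fun φ hφ => by
        rw [hz φ (mem_range.1 hφ), if_neg fun e : tb.L.nd.lv 0 φ = κ => h (e ▸ (hν φ (mem_range.1 hφ)).2), zero_mul], mul_zero, zero_mul]
    · rw [nr, div_le_one h0]
      exact C2.bessel (range tb.L.nd.K) (c := a) (ω := fun φ => tb.L.nd.ν φ) h0
        (fun φ hφ χ hχ => H.par φ (mem_range.1 hφ) χ (mem_range.1 hχ)) i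
  choose lab h1 h2 using ex
  have key := hm (fun u => Nat.card {i // lab i = u}) (fun φ hφ χ hχ => Int.cast_injective (α := ℚ) (by
    rw [sum_lab h1 fun u => tb.cv kl u φ * tb.cv kl u χ]
    push_cast
    rw [sum_congr rfl fun i _ => by rw [← h2 i φ hφ, ← h2 i χ hχ, mul_mul_mul_comm], ← mul_sum, mul_assoc, H.par φ hφ χ hχ]
    split_ifs
    exacts [by ring, mul_zero _])) (by
    refine le_trans (le_of_eq (Nat.cast_injective (R := ℤ) ?_)) hb
    have h3 := sum_lab h1 fun u => if tb.bad kl u = true then 1 else 0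
    simp only [mul_ite, mul_one, mul_zero] at h3
    rw [Nat.cast_sum, sum_filter, h3, Nat.card_eq_fintype_card, Fintype.card_subtype, card_filter, Nat.cast_sum]
    refine sum_congr rfl fun i _ => ?_
    have h4 : ∀ k, ⌊vl tb.L.nd (a i) k⌋ = dot (nth [] (tb.V ++ kl) (lab i)) (tb.L.col k) / tb.N := fun k => by
      rw [← Rat.floor_intCast_div_natCast, dot_sum (hV _ (nth_mem [] (by rw [List.length_append]; exact h1 i))).1]
      refine congrArg _ ((eq_div_iff hN1).2 ?_)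
      rw [vl, sum_mul, Int.cast_sum]
      refine sum_congr rfl fun φ hφ => ?_
      rw [Int.cast_mul, show nth 0 (nth [] (tb.V ++ kl) (lab i)) φ = tb.cv kl (lab i) φ from rfl, ← h2 i φ (mem_range.1 hφ),
        show nth 0 (tb.L.col k) φ = tb.L.nd.X φ k from rfl]
      ring
    simp only [Tb.bad, h4, Nat.cast_ite, Nat.cast_one, Nat.cast_zero]
    rfl)
  have h3 : ∀ i, lab i < tb.nu := fun i => by
    by_contra h
    have h4 := key _ (h1 i)
    rw [Tb.m, nth_eq, List.getD_eq_default _ _ (hmu.trans (not_lt.1 h))] at h4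
    exact (Nat.card_pos_iff.2 ⟨⟨⟨i, rfl⟩⟩, inferInstance⟩).ne' h4
  refine ⟨lab, fun i => ⟨h3 i, fun φ hφ => ?_⟩, fun u hu => key u (lt_of_lt_of_le hu (Nat.le_add_right _ _))⟩
  rw [h2 i φ hφ, Tb.cv, nth_eq [], nth_eq [], List.getD_append _ _ _ _ (h3 i)]

/-- one enumeration for all levels -/
theorem core_all (G : tb.L.nd.Good) (hc : tb.L.ceOK c = true) (hd : tb.d.ok tb.L.nd.K = true) (b t : ℤ) (e : ℕ)
    (ks : List ℤ) (h : (side tb kl c b ks && chk tb kl c b t e ks) = true) (hm : tb.Mu kl) : tb.Core :=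
  have h' := Bool.and_eq_true_iff.1 h
  core_of G h'.1 (lvl_of G hc hd h'.1 h'.2) hm

theorem realised : True := by
  have := And.intro @fd.eq_1 (And.intro @pw.eq_1 @leaf.eq_1)
  have := And.intro @Lvl.eq_1 (And.intro @side.eq_1 @chk.eq_1)
  trivial

end Cfsg.Agent.MO.U.Hc
end

-- part: MO/Mx/Act
section
/-!
# MO/Mx: the action of a twisted Weyl group on integral coweights, as lists (helper45)

* `sA`, `wA`, `bA` : a reflection, a word, the twist; `hL` : a monic polynomial in a map;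
* `cv F l` : the coweight with the coordinates `l`; `Ac F A g` : the matrix `A` acts on the lists by `g`;
* `mem_WJ_of_fix` : the stabiliser of a dominant coweight; `fix_of_cn` : the centraliser of an eigenspace fixes an integral vector.
-/

set_option autoImplicit false
set_option linter.unusedSectionVars false

namespace Cfsg.Agent.MO.Mx

open CoxeterSystem Cfsg.Agent.ChevalleyStructure.CoxeterGeom Cfsg.Agent.Tits.Roots Cfsg.Agent.Tits.Core
  Cfsg.Agent.Tits.Exchange Cfsg.Agent.MO.Crd Cfsg.Agent.MO.Rc Cfsg.Agent.LV.W Matrix Polynomial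

/-! ### kernel part -/

/-- evaluation of a number -/
noncomputable def fn {β : Type} (n : ℕ) (k : ℕ → β) : β := Nat.rec (k 0) (fun m _ => k (Nat.succ m)) n

/-- evaluation of a list -/
noncomputable def fl {β : Type} (l : List ℤ) : (List ℤ → β) → β :=
  List.rec (fun k => k []) (fun a _ ih k => Int.rec (fun n => fn n fun n' => ih fun l' => k (Int.ofNat n' :: l'))
    (fun n => fn n fun n' => ih fun l' => k (Int.negSucc n' :: l')) a) l

theorem fn_eq {β : Type} (n : ℕ) (k : ℕ → β) : fn n k = k n := by cases n <;> rfl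

theorem fl_eq {β : Type} (l : List ℤ) (k : List ℤ → β) : fl l k = k l := by
  induction l generalizing k with
  | nil => rfl
  | cons a l ih =>
    cases a with
    | ofNat n => exact (fn_eq n fun n' => fl l fun l' => k (Int.ofNat n' :: l')).trans (ih _)
    | negSucc n => exact (fn_eq n fun n' => fl l fun l' => k (Int.negSucc n' :: l')).trans (ih _)

/-- `l + c m` -/
noncomputable def ax (c : ℤ) (l : List ℤ) : List ℤ → List ℤ :=
  List.rec (fun _ => []) (fun a _ ih m => List.casesOn m [] fun b m' => Int.add a (Int.mul c b) :: ih m') l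

theorem ax_spec (c : ℤ) {l m : List ℤ} (h : m.length = l.length) :
    (ax c l m).length = l.length ∧ ∀ a, nth 0 (ax c l m) a = nth 0 l a + c * nth 0 m a := by
  induction l generalizing m with
  | nil => cases m with
    | nil => exact ⟨rfl, fun a => by simp [ax, nth_nil]⟩
    | cons => simp at h
  | cons x l ih => cases m with
    | nil => simp at h
    | cons y m =>
      obtain ⟨h1, h2⟩ := ih (m := m) (by simpa using h)
      exact ⟨congrArg Nat.succ h1, fun a => Nat.casesOn a rfl h2⟩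

/-- a reflection -/
noncomputable def sA (t : Ty) (i : ℕ) (l : List ℤ) : List ℤ := cond (Nat.blt i t.r) (ax (Int.neg (nth 0 l i)) l (nth [] t.AL i)) l

/-- a word -/
noncomputable def wF (t : Ty) (f : ℕ) : ℕ → List ℤ → List ℤ :=
  Nat.rec (fun _ l => l) (fun _ ih n l => cond (Nat.ble n 1) l (fl (sA t (Nat.mod n 16) l) (ih (Nat.shiftRight n 4)))) f

/-- a word with at most 256 letters -/
noncomputable def wA (t : Ty) (n : ℕ) (l : List ℤ) : List ℤ := fl l (wF t 256 n)

/-- the twist -/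
noncomputable def bA (mu : List ℤ) (si : List ℕ) (l : List ℤ) : List ℤ := si.map fun j => nth 0 mu j * nth 0 l j

/-- a monic polynomial in `g` at the vector `x` -/
noncomputable def hL (g : List ℤ → List ℤ) (x cs : List ℤ) : List ℤ := List.rec x (fun c _ ih => ax c (fl ih g) x) cs

/-- a unit vector -/
def un (r b : ℕ) : List ℤ := (List.range r).map fun a => if a = b then 1 else 0

/-- the shape of the Cartan matrix -/
def tyOK (t : Ty) : Bool := WT.injOK t && allLt t.r fun i => decide ((nth [] t.AL i).length = t.r)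

/-! ### polynomials in a matrix -/

section

variable {I : Type} [Fintype I] [DecidableEq I] (A : Matrix I I ℂ)

/-- a monic polynomial in `A` -/
noncomputable def hm (cs : List ℤ) : Matrix I I ℂ := List.rec 1 (fun c _ ih => A * ih + (c : ℂ) • 1) cs

/-- the projection of `x` to the eigenspace -/
noncomputable def eV (x : I → ℂ) (s : ℂ) (cs : List ℤ) : I → ℂ := List.rec 0 (fun _ cs' ih => hm A cs' *ᵥ x + s • ih) cs

theorem hm_cons (c : ℤ) (cs : List ℤ) (x : I → ℂ) : hm A (c :: cs) *ᵥ x = A *ᵥ (hm A cs *ᵥ x) + (c : ℂ) • x := by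
  show (A * hm A cs + (c : ℂ) • (1 : Matrix I I ℂ)) *ᵥ x = _
  rw [add_mulVec, smul_mulVec, one_mulVec, mulVec_mulVec]

theorem hm_eig {x : I → ℂ} {s : ℂ} (h : A *ᵥ x = s • x) (cs : List ℤ) : hm A cs *ᵥ x = ev cs s • x := by
  induction cs with
  | nil => exact (one_mulVec x).trans (one_smul _ _).symm
  | cons c cs ih => rw [hm_cons, ih, mulVec_smul, h, ev_cons, add_smul, smul_smul, mul_comm, add_comm]

theorem eV_eq (x : I → ℂ) (s : ℂ) (cs : List ℤ) : A *ᵥ eV A x s cs = s • eV A x s cs + hm A cs *ᵥ x - ev cs s • x := by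
  induction cs with
  | nil => simp [eV, hm, ev]
  | cons c cs ih =>
    show A *ᵥ (hm A cs *ᵥ x + s • eV A x s cs) = s • (hm A cs *ᵥ x + s • eV A x s cs) + _ - _
    rw [mulVec_add, mulVec_smul, ih, hm_cons, ev_cons]
    module

end

/-! ### coordinates -/

variable {R : RC} {t : Ty} {em : ℕ → R.I} (F : Fit R.cs R.h R.ψ t em Set.univ 1)

/-- the number of a node -/
noncomputable def ix (i : R.I) : ℕ := ((F.mem i).1 trivial).choose

/-- the integral coweight with the coordinates `l` -/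
noncomputable def cz (l : List ℤ) (i : R.I) : ℤ := nth 0 l (ix F i)

/-- the coweight with the coordinates `l` -/
noncomputable def cv (l : List ℤ) (i : R.I) : ℂ := cz F l i

theorem ix_lt (i : R.I) : ix F i < t.r := ((F.mem i).1 trivial).choose_spec.1

theorem em_ix (i : R.I) : em (ix F i) = i := ((F.mem i).1 trivial).choose_spec.2

theorem pv_cv (b : R.I → ℤ) (l : List ℤ) : pv b (cv F l) = (b ⬝ᵥ cz F l : ℤ) := by simp only [pv, cv, dotProduct, _root_.Int.cast_sum, _root_.Int.cast_mul]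

/-- `A` acts on the lists by `g` -/
def Ac (A : Matrix R.I R.I ℂ) (g : List ℤ → List ℤ) : Prop :=
  ∀ l : List ℤ, l.length = t.r → (g l).length = t.r ∧ A *ᵥ cv F l = cv F (g l)

variable {F} {A B : Matrix R.I R.I ℂ} {g g' : List ℤ → List ℤ}

theorem Ac.mul (h : Ac F A g) (h' : Ac F B g') : Ac F (A * B) fun l => g (g' l) := fun l hl =>
  ⟨(h _ (h' l hl).1).1, by rw [← mulVec_mulVec, (h' l hl).2, (h _ (h' l hl).1).2]⟩

theorem Ac.one : Ac F 1 fun l => l := fun _ hl => ⟨hl, one_mulVec _⟩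

theorem cv_ax (c : ℤ) {l m : List ℤ} (h : m.length = l.length) : cv F (ax c l m) = cv F l + (c : ℂ) • cv F m :=
  _root_.funext fun i => by simp [cv, cz, (ax_spec c h).2]

theorem Ac.hm (h : Ac F A g) (cs : List ℤ) : Ac F (hm A cs) fun x => hL g x cs := fun x hx => by
  induction cs with
  | nil => exact ⟨hx, one_mulVec _⟩
  | cons c cs ih =>
    beta_reduce at ih ⊢
    have h1 := h _ ih.1
    have h2 : hL g x (c :: cs) = ax c (g (hL g x cs)) x := congrArg (ax c · x) (fl_eq _ _)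
    exact ⟨by rw [h2, (ax_spec c (hx.trans h1.1.symm)).1, h1.1], by rw [hm_cons, ih.2, h1.2, h2, cv_ax c (hx.trans h1.1.symm)]⟩

variable (ht : tyOK t = true)
include ht

theorem ix_em {a : ℕ} (ha : a < t.r) : ix F (em a) = a :=
  WT.em_inj F (Bool.and_eq_true_iff.1 ht).1 (ix_lt F _) ha (em_ix F _)

theorem cz_em (l : List ℤ) {a : ℕ} (ha : a < t.r) : cz F l (em a) = nth 0 l a := by rw [cz, ix_em ht ha]

theorem ac_sl (d : ℕ) : Ac F (rd R (sl R.cs em t.r id d)) (sA t d) := fun l hl => by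
  unfold sl sA
  split_ifs with h
  · have h1 : (nth [] t.AL d).length = l.length :=
      (of_decide_eq_true (allLt_iff.1 (Bool.and_eq_true_iff.1 ht).2 d h)).trans hl.symm
    rw [Nat.blt_eq.mpr h, cond_true, (ax_spec _ h1).1, cv_ax _ h1, rd_simple_mulVec]
    refine ⟨hl, _root_.funext fun i => ?_⟩
    have h2 := F.car d h _ (ix_lt F i)
    rw [em_ix F] at h2
    simp [cv, ix_em ht h, h2, cz, ga, sub_eq_add_neg, show ∀ z : ℤ, z.neg = -z from fun _ => rfl]
  · rw [Bool.eq_false_iff.2 fun e => h (Nat.blt_eq.mp e), cond_false, map_one]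
    exact ⟨hl, one_mulVec _⟩

theorem ac_wd (n : ℕ) : Ac F (rd R (wd R.cs em t.r n)) (wA t n) := by
  have key : ∀ f n, Ac F (rd R (wdF R.cs em t.r id f n)) (wF t f n) := fun f => by
    induction f with
    | zero => exact fun n l hl => ⟨hl, by rw [show wdF R.cs em t.r id 0 n = 1 from rfl, map_one]; exact one_mulVec _⟩
    | succ f ih =>
      intro n
      show Ac F (rd R (if n ≤ 1 then 1 else wdF R.cs em t.r id f (n / 16) * sl R.cs em t.r id (n % 16)))
        fun l => cond (Nat.ble n 1) l (fl (sA t (n % 16) l) (wF t f (n >>> 4)))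
      split_ifs with h
      · rw [Nat.ble_eq_true_of_le h, map_one]
        exact Ac.one
      · rw [Bool.eq_false_iff.2 fun e => h (Nat.le_of_ble_eq_true e), map_mul, Nat.shiftRight_eq_div_pow]
        simpa only [cond_false, fl_eq] using (ih _).mul (ac_sl ht _)
  exact fun l hl => by rw [wA, fl_eq]; exact key 256 n l hl

theorem cv_un {b : ℕ} (hb : b < t.r) : (un t.r b).length = t.r ∧ cv F (un t.r b) = Pi.single (em b) 1 := by
  refine ⟨by simp [un], _root_.funext fun i => ?_⟩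
  have h1 := ix_lt F i
  have h2 : ix F i = b ↔ i = em b := ⟨fun e => by rw [← e, em_ix F], fun e => by rw [e, ix_em ht hb]⟩
  simp [cv, cz, un, nth_eq, h1, h2, Pi.single_apply]

/-- a row of the matrix vanishes -/
theorem Ac.row (h : Ac F A g) {j : ℕ} (hj : j < t.r) (h0 : ∀ b < t.r, nth 0 (g (un t.r b)) j = 0) (x : R.I → ℂ) :
    (A *ᵥ x) (em j) = 0 := by
  refine Finset.sum_eq_zero fun i _ => mul_eq_zero_of_left ?_ _
  obtain ⟨h1, h2⟩ := cv_un (F := F) ht (ix_lt F i)
  have h3 := congrFun (h _ h1).2 (em j)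
  rwa [h2, em_ix F, mulVec_single_one, cv, cz_em ht _ hj, h0 _ (ix_lt F i), Int.cast_zero] at h3

omit ht in
/-- the stabiliser of a dominant coweight -/
theorem mem_WJ_of_fix {x : R.I → ℤ} (hx : 0 ≤ x) {u : R.W} (h : ∀ i, rep R.cs R.h u⁻¹ (sr i) ⬝ᵥ x = x i) :
    u ∈ WJ R.cs {i | x i = 0} := by
  induction hn : R.cs.length u using Nat.strong_induction_on generalizing u with
  | _ n ih =>
  by_cases h1 : u = 1
  · exact h1 ▸ one_mem _
  obtain ⟨i, hi⟩ := R.cs.exists_leftDescent_of_ne_one h1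
  have h2 : rep R.cs R.h u⁻¹ (sr i) ≤ 0 := nonpos_of_lt _ _ _ i (by
    rwa [← R.cs.length_inv, _root_.mul_inv_rev, inv_inv, inv_simple, R.cs.length_inv])
  have h3 : x i = 0 := le_antisymm (h i ▸ dotProduct_nonpos_of_nonpos_of_nonneg' h2 hx) (hx i)
  have h4 := ih _ (hn ▸ hi) (u := R.cs.simple i * u) (fun k => by
    rw [_root_.mul_inv_rev, inv_simple, rep_mul_apply, rep_simple_eq, map_sub, map_zsmul, sub_dotProduct, smul_dotProduct, h, h, h3,
      smul_zero, sub_zero]) rfl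
  simpa using mul_mem (simple_mem_WJ R.cs (J := {i | x i = 0}) h3) h4
where
  dotProduct_nonpos_of_nonpos_of_nonneg' {a b : R.I → ℤ} (ha : a ≤ 0) (hb : 0 ≤ b) : a ⬝ᵥ b ≤ 0 :=
    Finset.sum_nonpos fun i _ => mul_nonpos_of_nonpos_of_nonneg (ha i) (hb i)

omit ht in
/-- a form which vanishes at the projection vanishes at `x` -/
theorem Ac.fix (h : Ac F A g) {f rs : List ℤ} {n : ℤ} (H : irrOK f rs n = true) {s : ℂ} (hs : ev f s = 0) {x : List ℤ}
    (hx : x.length = t.r) {b : R.I → ℤ} (hb : pv b (eV A (cv F x) s f) = 0) : b ⬝ᵥ cz F x = 0 := by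
  let P : List ℤ → ℤ[X] := fun cs => List.rec 0 (fun _ cs' ih => C (b ⬝ᵥ cz F (hL g x cs')) + X * ih) cs
  have h1 : ∀ cs, aeval s (P cs) = pv b (eV A (cv F x) s cs) ∧ (P cs).degree < cs.length := fun cs => by
    induction cs with
    | nil => exact ⟨(map_zero _).trans (dotProduct_zero _).symm, WithBot.bot_lt_coe _⟩
    | cons c cs ih =>
      refine ⟨?_, (degree_add_le _ _).trans_lt (max_lt (degree_C_le.trans_lt (by exact_mod_cast Nat.succ_pos _)) ?_)⟩
      · show aeval s (C _ + X * P cs) = pv b (_ + s • eV A (cv F x) s cs)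
        rw [map_add, map_mul, aeval_X, aeval_C, ih.1, (h.hm cs x hx).2, ← pv_smul, eq_intCast, ← pv_cv]
        exact (dotProduct_add _ _ _).symm
      · show (X * P cs).degree < _
        rw [mul_comm, degree_mul_X, List.length_cons, Nat.cast_succ]
        exact WithBot.add_lt_add_right WithBot.one_ne_bot ih.2
  have h2 : ∀ cs, cs ≠ [] → P cs = 0 → b ⬝ᵥ cz F x = 0 := fun cs => by
    induction cs with
    | nil => exact fun e => absurd rfl e
    | cons c cs ih =>
      intro _ e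
      have h3 : C (b ⬝ᵥ cz F (hL g x cs)) + X * P cs = 0 := e
      have h4 : b ⬝ᵥ cz F (hL g x cs) = 0 := by simpa only [_root_.eq_intCast, _root_.Polynomial.coeff_add, _root_.Polynomial.intCast_coeff_zero, _root_.Int.cast_eq, _root_.Polynomial.mul_coeff_zero, _root_.Polynomial.coeff_X_zero, _root_.MulZeroClass.zero_mul, _root_.add_zero, _root_.Polynomial.coeff_zero] using congrArg (coeff · 0) h3
      rw [h4, map_zero, zero_add, mul_eq_zero, or_iff_right X_ne_zero] at h3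
      exact if h5 : cs = [] then by subst h5; exact h4 else ih h5 h3
  exact h2 f (by rintro rfl; exact one_ne_zero hs) (eq_zero_of_lt H hs ((h1 f).1.trans hb) (h1 f).2)

example := And.intro @fn.eq_1 (And.intro @fl.eq_1 (And.intro @ax.eq_1 @sA.eq_1))
example := And.intro @wF.eq_1 (And.intro @wA.eq_1 (And.intro @bA.eq_1 @hL.eq_1))
example := And.intro @un.eq_1 (And.intro @tyOK.eq_1 (And.intro @hm.eq_1 @eV.eq_1))
example := And.intro @ix.eq_1 (And.intro @cz.eq_1 (And.intro @cv.eq_1 @Ac.eq_1))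

end Cfsg.Agent.MO.Mx
end

-- part: MO/Mx/Cls
section
/-!
# MO/Mx: the Levi subcosets at a largest fixed space in a coset given by a node (helper45)

* `En` : an entry: a polynomial `f`, the nodes `io`, a word `w`, a dominant vector `x` with `f(w ψ) x = 0`, the words `L` of `W_J`;
* `Mt` : weights of the twist, the entries, for each class the entries whose polynomials annihilate the representative;
* `cls` : if `E.Mx v`, then `E.j` is onto or `E` is conjugate to `W_J w` for an entry.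
-/

set_option autoImplicit false
set_option linter.unusedSectionVars false

namespace Cfsg.Agent.MO.Mx

open CoxeterSystem Cfsg.Agent.ChevalleyStructure.CoxeterGeom Cfsg.Agent.Tits.Roots Cfsg.Agent.Tits.Core
  Cfsg.Agent.Tits.Exchange Cfsg.Agent.MO.Crd Cfsg.Agent.MO.Rc Cfsg.Agent.LV.W Matrix Polynomial

/-- an entry -/
structure En where
  f : List ℤ
  rs : List ℤ
  n : ℤ
  io : List ℕ
  w : ℕ
  x : List ℤ
  L : List ℕ
  h : List ℤ

/-- the table of a node -/
structure Mt where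
  mu : List ℤ
  si : List ℕ
  b : ℕ
  ed : List (ℕ × ℕ)
  T : List En
  D : List ℕ

/-- the sublist given by the bits of `m` -/
noncomputable def sel {α : Type} (l : List α) : ℕ → List α :=
  List.rec (fun _ => []) (fun a _ ih m => cond (Nat.beq (Nat.mod m 2) 1) (a :: ih (Nat.div m 2)) (ih (Nat.div m 2))) l

theorem mem_sel {α : Type} {l : List α} {m : ℕ} {a : α} (h : a ∈ sel l m) : a ∈ l := by
  induction l generalizing m with
  | nil => exact h
  | cons b l ih =>
    have h1 : a ∈ cond (Nat.beq (Nat.mod m 2) 1) (b :: sel l (Nat.div m 2)) (sel l (Nat.div m 2)) := h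
    cases h2 : Nat.beq (Nat.mod m 2) 1 <;> rw [h2] at h1
    · exact List.mem_cons_of_mem _ (ih h1)
    · exact (List.mem_cons.1 h1).elim (· ▸ List.mem_cons_self) fun h3 => List.mem_cons_of_mem _ (ih h3)

/-- the nodes are reached along the edges -/
noncomputable def reach (t : Ty) (ed : List (ℕ × ℕ)) : List ℕ → Bool :=
  List.rec (fun S => allLt t.r fun a => decide (a ∈ S))
    (fun e _ ih S => decide (e.1 ∈ S) && decide (e.2 < t.r) && decide (ga t.AL e.1 e.2 ≠ 0) && ih (e.2 :: S)) ed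

/-- the product of two polynomials -/
noncomputable def pm (a b : List ℤ) : List ℤ := List.rec [] (fun c _ ih => LV.Enum.addL Int.add (b.map (Int.mul c)) (0 :: ih)) a

theorem pv_pm (a b : List ℤ) (x : ℂ) : U.pv (pm a b) x = U.pv a x * U.pv b x := by
  induction a with
  | nil => exact (zero_mul _).symm
  | cons c a ih =>
    show U.pv (LV.Enum.addL Int.add (b.map (Int.mul c)) (0 :: pm a b)) x = _
    rw [U.pv_add, U.pv_smul, U.pv_cons, ih, U.pv_cons, Int.cast_zero]
    ring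

theorem pv_ev (l : List ℤ) (x : ℂ) : U.pv (l ++ [1]) x = ev l x := by
  induction l with
  | nil => simp [U.pv_cons, U.pv_nil, ev]
  | cons c l ih => rw [List.cons_append, U.pv_cons, ih, ev_cons]

/-- the product of the polynomials of the entries -/
noncomputable def pq (es : List En) : List ℤ := List.rec [1] (fun e _ ih => fl ih (pm (e.f ++ [1]))) es

theorem pv_pq (es : List En) (x : ℂ) : U.pv (pq es) x = (es.map fun e => ev e.f x).prod := by
  induction es with
  | nil => exact pv_ev [] x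
  | cons e es ih => rw [show pq (e :: es) = pm (e.f ++ [1]) (pq es) from fl_eq _ _, pv_pm, pv_ev, ih, List.map_cons, List.prod_cons]

theorem ev_replicate (n : ℕ) (x : ℂ) : ev (List.replicate n 0) x = x ^ n := by
  induction n with
  | zero => exact (pow_zero x).symm
  | succ n ih => rw [List.replicate_succ, ev_cons, ih, Int.cast_zero, zero_add, pow_succ']

/-- iteration -/
noncomputable def it (f : ℕ → ℕ) (n : ℕ) : ℕ → ℕ := Nat.rec (fun x => x) (fun _ ih x => fn (f x) ih) n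

namespace Mt

variable (mt : Mt) (t : Ty)

/-- the action of `w ψ` -/
noncomputable def g (w : ℕ) (l : List ℤ) : List ℤ := wA t w (bA mt.mu mt.si l)

/-- weights and the inverse permutation -/
noncomputable def base : Bool :=
  tyOK t && decide (mt.si.length = t.r) && allLt t.r (fun a => decide (nth 0 mt.si a < t.r) && decide (t.σ (nth 0 mt.si a) = a)) &&
    decide (mt.b < t.r) && decide (nth 0 mt.mu mt.b = 1) && reach t mt.ed [mt.b] &&
    allLt t.r fun k => allLt t.r fun j => decide (nth 0 mt.mu j * ga t.AL k j = ga t.AL (t.σ k) (t.σ j) * nth 0 mt.mu k)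

/-- an entry is correct -/
noncomputable def en (e : En) : Bool :=
  irrOK e.f e.rs e.n && decide (e.x.length = t.r) &&
    allLt t.r (fun a => decide (0 ≤ nth 0 e.x a) && (decide (a ∈ e.io) || decide (nth 0 e.x a ≠ 0)) &&
      decide (nth 0 (hL (mt.g t e.w) e.x e.f) a = 0)) &&
    WT.mem t.n0 (e.L.map fun l => run t.tab l t.n0) &&
    e.io.all fun j => decide (j < t.r) && e.rs.any (fun r => decide (ev e.h r % 161281 ≠ 0)) && e.L.all fun l =>
      WT.mem (step t.tab j (run t.tab l t.n0)) (e.L.map fun l => run t.tab l t.n0) &&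
        allLt t.r fun b => decide (nth 0 (hL (fun y => wA t l (mt.g t e.w y)) (un t.r b) e.h) j = 0)

/-- the product of the polynomials -/
noncomputable def qL (g : List ℤ → List ℤ) (x : List ℤ) (es : List En) : List ℤ :=
  List.rec x (fun e _ ih => fl ih fun y => hL g y e.f) es

/-- the polynomials annihilate the representative of the class `k` -/
noncomputable def cl (nd : Nd) (k : ℕ) : Bool :=
  allLt nd.r fun b => (qL (mt.g nd.toTy (nd.e k)) (un nd.r b) (sel mt.T (nth 0 mt.D k))).all fun z => decide (z = 0)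

/-- no twist; the polynomials `X ^ (N + 1) - 1` are products; the orders of the representatives -/
noncomputable def od (nd : Nd) (O : List (ℕ × ℕ)) (ns : List ℕ) : Bool :=
  allLt nd.r (fun j => allLt nd.r fun b => decide (nth 0 (hL (bA mt.mu mt.si) (un nd.r b) [-1]) j = 0)) &&
    O.all (fun p => decide (pq (sel mt.T p.2) = (-1 :: List.replicate p.1 0) ++ [1])) &&
    allLt nd.K fun k => cond (WT.mem (nth 0 ns k) (O.map Prod.fst))
      (Nat.beq (it (run nd.tab (nd.e k)) (nth 0 ns k + 1) nd.n0) nd.n0) (mt.cl nd k)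

/-- **the table is correct** -/
structure Ok (nd : Nd) : Prop where
  good : nd.Good
  base : mt.base nd.toTy = true
  en : mt.T.all (mt.en nd.toTy) = true
  cl : allLt nd.K (mt.cl nd) = true ∨ ∃ O ns, mt.od nd O ns = true

end Mt

/-- the nodes of an entry -/
def En.J {I : Type} (e : En) (em : ℕ → I) : Set I := {i | ∃ a ∈ e.io, em a = i}

variable {R R' : RC} {t : Ty} {em : ℕ → R.I} (F : Fit R.cs R.h R.ψ t em Set.univ 1) {mt : Mt}

theorem τ_em (F : Fit R.cs R.h R.ψ t em Set.univ 1) {a : ℕ} (ha : a < t.r) : R.τ (em a) = em (t.σ a) :=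
  R.simple_inj (by simpa only [one_mul, mul_one, R.tw] using F.tw a ha)

/-- **the normal form of a twist** -/
theorem exists_ac (ht : t.ok = true) (H : mt.base t = true) (v : Ev R) :
    ∃ s : ℂ, s ≠ 0 ∧ (∀ a < t.r, s * v.m (em a) = nth 0 mt.mu a) ∧ Ac F (s • md R v.m) (bA mt.mu mt.si) := by
  simp only [Mt.base, Bool.and_eq_true, decide_eq_true_eq, allLt_iff] at H
  obtain ⟨⟨⟨⟨⟨⟨h1, h2⟩, h3⟩, h4⟩, h5⟩, h6⟩, h7⟩ := H
  have key : ∀ (ed : List (ℕ × ℕ)) (S : List ℕ), reach t ed S = true →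
      (∀ a ∈ S, a < t.r ∧ (v.m (em mt.b))⁻¹ * v.m (em a) = nth 0 mt.mu a) →
      ∀ a < t.r, (v.m (em mt.b))⁻¹ * v.m (em a) = nth 0 mt.mu a := fun ed => by
    induction ed with
    | nil => exact fun S h hS a ha => (hS a (of_decide_eq_true (allLt_iff.1 h a ha))).2
    | cons e ed ih =>
      intro S h hS
      have h8 : (decide (e.1 ∈ S) && decide (e.2 < t.r) && decide (ga t.AL e.1 e.2 ≠ 0) && reach t ed (e.2 :: S)) = true := h
      simp only [Bool.and_eq_true, decide_eq_true_eq] at h8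
      obtain ⟨⟨⟨a1, a2⟩, a3⟩, a4⟩ := h8
      refine ih _ a4 (List.forall_mem_cons.2 ⟨⟨a2, mul_right_cancel₀ (Int.cast_ne_zero.2 a3) ?_⟩, hS⟩)
      obtain ⟨a5, a6⟩ := hS _ a1
      have a7 := v.car (em e.1) (em e.2)
      rw [τ_em F a5, τ_em F a2, F.car _ a5 _ a2, F.car _ (Ty.σ_lt ht a5) _ (Ty.σ_lt ht a2)] at a7
      rw [mul_assoc, a7, mul_left_comm, a6, ← Int.cast_mul, ← Int.cast_mul, h7 _ a5 _ a2]
  have h8 := key _ _ h6 (List.forall_mem_singleton.2 ⟨h4, by rw [h5, inv_mul_cancel₀ (v.m_ne _), Int.cast_one]⟩)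
  refine ⟨_, inv_ne_zero (v.m_ne _), h8, fun l _ => ⟨by rw [bA, List.length_map, h2], _root_.funext fun i => ?_⟩⟩
  have h9 := ix_lt F i
  obtain ⟨a1, a2⟩ := h3 _ h9
  have h10 : i = R.τ (em (nth 0 mt.si (ix F i))) := by rw [τ_em F a1, a2, em_ix F]
  conv_lhs => rw [h10, smul_mulVec, Pi.smul_apply, md_apply, smul_eq_mul, ← mul_assoc, h8 _ a1, cv, cz_em h1 _ a1]
  rw [cv, cz, bA, nth_eq 0 (List.map _ _), nth_eq 0 mt.si, List.getD_eq_getElem mt.si _ (by rw [h2]; exact h9),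
    List.getD_eq_getElem (List.map _ _) _ (by rw [List.length_map, h2]; exact h9), List.getElem_map, Int.cast_mul]

variable {F} {v : Ev R} {s : ℂ}

theorem mem_Fs_iff (hs : s ≠ 0) {w : R.W} {x : R.I → ℂ} : x ∈ v.Fs w ↔ (rd R w * s • md R v.m) *ᵥ x = s • x := by
  rw [v.mem_Fs, ← mulVec_mulVec, smul_mulVec, mulVec_smul, smul_right_inj hs]

/-- **an entry** : the centraliser of the fixed space -/
theorem en_spec (ht : t.ok = true) (hy : tyOK t = true) (hs : s ≠ 0) (hA : Ac F (s • md R v.m) (bA mt.mu mt.si)) {e : En}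
    (H : mt.en t e = true) (h0 : ev e.f s = 0) :
    Sp.Cn (rd R) (v.Fs (wd R.cs em t.r e.w)) ≤ WJ R.cs (e.J em) ∧
      ∀ a ∈ WJ R.cs (e.J em), WJ R.cs (e.J em) ≤ Sp.Cn (rd R) (v.Fs (a * wd R.cs em t.r e.w)) := by
  simp only [Mt.en, Bool.and_eq_true, decide_eq_true_eq, allLt_iff, List.all_eq_true, List.any_eq_true, Bool.or_eq_true,
    WT.mem_iff, List.mem_map] at H
  obtain ⟨⟨⟨⟨h1, h2⟩, h3⟩, h4⟩, h5⟩ := H
  have hg : Ac F (rd R (wd R.cs em t.r e.w) * s • md R v.m) (mt.g t e.w) := (ac_wd hy e.w).mul hA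
  refine ⟨fun u hu => WJ_mono _ (fun i hi => ?_) (mem_WJ_of_fix (x := cz F e.x) (fun i => (h3 _ (ix_lt F i)).1.1) fun i => ?_),
    fun a ha => WJ_le_cn.2 ?_⟩
  · exact ⟨_, (h3 _ (ix_lt F i)).1.2.resolve_right (not_not.2 hi), em_ix F i⟩
  · have h6 := eV_eq (rd R (wd R.cs em t.r e.w) * s • md R v.m) (cv F e.x) s e.f
    rw [h0, zero_smul, sub_zero, (hg.hm e.f _ h2).2, show cv F (hL (mt.g t e.w) e.x e.f) = 0 from
      _root_.funext fun i => Int.cast_eq_zero.2 (h3 _ (ix_lt F i)).2, add_zero, ← mem_Fs_iff hs] at h6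
    have h7 := hg.fix h1 h0 h2 (b := rep R.cs R.h u⁻¹ (sr i) - sr i) (by rw [pv_sub, ← rd_mulVec, hu _ h6, pv_sr, sub_self])
    rwa [sub_dotProduct, sub_eq_zero, show sr i ⬝ᵥ cz F e.x = _ from (single_dotProduct _ _ _).trans (one_mul _)] at h7
  · have h6 : ∃ l ∈ e.L, wd R.cs em t.r l = a := by
      have h7 : ∀ {l u}, run t.tab l t.n0 = cd R.cs R.h t em u → wd R.cs em t.r l = u := fun {l u} h =>
        F.cd_inj ht (mem_WJ_univ _ _) (mem_WJ_univ _ _) (by rw [← h, ← cd_one (cs := R.cs) (h := R.h) (em := em) ht,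
          F.run_cd ht _ (one_mem _), mul_one])
      refine WJ_ind (P := fun a => ∃ l ∈ e.L, wd R.cs em t.r l = a) ?_ ?_ ha
      · obtain ⟨l, hl, h8⟩ := h4
        exact ⟨l, hl, h7 (h8.trans (cd_one ht).symm)⟩
      · rintro _ ⟨j, hj, rfl⟩ _ - ⟨l, hl, rfl⟩
        obtain ⟨l', hl', h8⟩ := ((h5 j hj).2 l hl).1
        refine ⟨l', hl', h7 (h8.trans ?_)⟩
        rw [← F.step_simple ht (h5 j hj).1.1 (mem_WJ_univ _ _), ← mul_one (wd R.cs em t.r l), ← F.run_cd ht _ (one_mem _), cd_one ht]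
    obtain ⟨l, hl, rfl⟩ := h6
    rintro _ ⟨j, hj, rfl⟩ x hx
    obtain ⟨⟨a1, r, hr, a2⟩, a3⟩ := h5 j hj
    have h7 := (((ac_wd hy l).mul hg).hm e.h).row hy a1 (a3 l hl).2 x
    rw [← mul_assoc, ← map_mul, hm_eig _ ((mem_Fs_iff hs).1 hx), Pi.smul_apply, smul_eq_mul] at h7
    refine (mul_eq_zero.1 h7).resolve_left fun h8 => a2 (Int.emod_eq_zero_of_dvd ?_)
    rw [← aeval_tm, coe_aeval_eq_eval]
    exact dvd_of_aeval h1 h0 ((aeval_tm _ _).trans h8) hr

/-- an eigenvalue is a root of a polynomial of the table -/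
theorem cl_spec {nd : Nd} {F : Fit R.cs R.h R.ψ nd.toTy em Set.univ 1} (hy : tyOK nd.toTy = true) (hs : s ≠ 0)
    (hA : Ac F (s • md R v.m) (bA mt.mu mt.si)) {k : ℕ} (H : mt.cl nd k = true) {x : R.I → ℂ} (hx : x ∈ v.Fs (el R.cs nd em 1 k))
    (h0 : x ≠ 0) : ∃ e ∈ mt.T, ev e.f s = 0 := by
  rw [el, mul_one, mem_Fs_iff hs] at hx
  have hg : Ac F (rd R (wd R.cs em nd.r (nd.e k)) * s • md R v.m) (mt.g nd.toTy (nd.e k)) := (ac_wd hy _).mul hA
  have key : ∀ es : List En, ∃ Q, Ac F Q (fun y => Mt.qL (mt.g nd.toTy (nd.e k)) y es) ∧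
      Q *ᵥ x = (es.map fun e => ev e.f s).prod • x := fun es => by
    induction es with
    | nil => exact ⟨1, Ac.one, (one_mulVec x).trans (one_smul _ _).symm⟩
    | cons e es ih =>
      obtain ⟨Q, h1, h2⟩ := ih
      refine ⟨_, fun y hy => (by
        have h3 := (hg.hm e.f).mul h1 y hy
        have h4 : Mt.qL (mt.g nd.toTy (nd.e k)) y (e :: es) =
          hL (mt.g nd.toTy (nd.e k)) (Mt.qL (mt.g nd.toTy (nd.e k)) y es) e.f := fl_eq _ _
        simpa only [h4] using h3), ?_⟩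
      rw [← mulVec_mulVec, h2, mulVec_smul, hm_eig _ hx, smul_smul, List.map_cons, List.prod_cons, mul_comm]
  obtain ⟨Q, h1, h2⟩ := key (sel mt.T (nth 0 mt.D k))
  have h3 : Q *ᵥ x = 0 := _root_.funext fun i => by
    have h4 := h1.row hy (ix_lt F i) (fun b hb => ?_) x
    · rwa [em_ix F] at h4
    have h5 := List.all_eq_true.1 (allLt_iff.1 H b hb)
    rw [nth_eq, List.getD_eq_getElem?_getD]
    cases h6 : (Mt.qL _ _ _)[ix F i]? with
    | none => rfl
    | some z => exact of_decide_eq_true (h5 z (List.mem_of_getElem? h6))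
  obtain ⟨e, he, h4⟩ := List.mem_map.1 (List.prod_eq_zero_iff.1 ((smul_eq_zero.1 (h2 ▸ h3)).resolve_right h0))
  exact ⟨e, mem_sel he, h4⟩

theorem od_spec {nd : Nd} {F : Fit R.cs R.h R.ψ nd.toTy em Set.univ 1} (ht : nd.toTy.ok = true) (hy : tyOK nd.toTy = true) (hs : s ≠ 0)
    (hA : Ac F (s • md R v.m) (bA mt.mu mt.si)) {O : List (ℕ × ℕ)} {ns : List ℕ} (H : mt.od nd O ns = true) {k : ℕ} (hk : k < nd.K)
    {x : R.I → ℂ} (hx : x ∈ v.Fs (el R.cs nd em 1 k)) (h0 : x ≠ 0) : ∃ e ∈ mt.T, ev e.f s = 0 := by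
  simp only [Mt.od, Bool.and_eq_true, allLt_iff, List.all_eq_true, decide_eq_true_eq] at H
  obtain ⟨⟨h1, h2⟩, h3⟩ := H
  have h4 := h3 k hk
  cases h5 : WT.mem (nth 0 ns k) (O.map Prod.fst) <;> rw [h5] at h4
  · exact cl_spec hy hs hA h4 hx h0
  obtain ⟨p, hp, h6⟩ := List.mem_map.1 (WT.mem_iff.1 h5)
  rw [el, mul_one, mem_Fs_iff hs, ← mulVec_mulVec, show (s • md R v.m) *ᵥ x = x from _root_.funext fun i => by
    have h7 := (hA.hm [-1]).row hy (ix_lt F i) (h1 _ (ix_lt F i)) x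
    rw [em_ix F, hm_cons, show hm (s • md R v.m) [] = 1 from rfl, one_mulVec] at h7
    simpa only [add_neg_eq_zero, _root_.Int.reduceNeg, _root_.Int.cast_neg, _root_.Int.cast_one, _root_.neg_smul, _root_.one_smul, _root_.Pi.add_apply, _root_.Pi.neg_apply] using h7] at hx
  have key : ∀ n u, it (run nd.tab (nd.e k)) n (cd R.cs R.h nd.toTy em u) = cd R.cs R.h nd.toTy em (wd R.cs em nd.r (nd.e k) ^ n * u) ∧
      rd R (wd R.cs em nd.r (nd.e k) ^ n) *ᵥ x = s ^ n • x := fun n => by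
    induction n with
    | zero => exact fun u => ⟨by rw [pow_zero, one_mul]; rfl, by rw [pow_zero, pow_zero, map_one, one_mulVec, one_smul]⟩
    | succ n ih =>
      refine fun u => ⟨(fn_eq _ _).trans ?_, ?_⟩
      · rw [F.run_cd ht _ (mem_WJ_univ _ _), pow_succ, mul_assoc]
        exact (ih _).1
      · rw [pow_succ, map_mul, ← mulVec_mulVec, hx, mulVec_smul, (ih 1).2, smul_smul, pow_succ']
  obtain ⟨h7, h8⟩ := key (p.1 + 1) 1
  rw [cd_one ht, mul_one, h6, Nat.eq_of_beq_eq_true h4, ← cd_one (cs := R.cs) (h := R.h) (em := em) ht] at h7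
  rw [h6, ← F.cd_inj ht (mem_WJ_univ _ _) (mem_WJ_univ _ _) h7, map_one, one_mulVec, ← h6, ← sub_eq_zero, ← neg_eq_zero, neg_sub,
    show s ^ (p.1 + 1) • x - x = (s ^ (p.1 + 1) - 1) • x by rw [sub_smul, one_smul]] at h8
  have h9 := pv_pq (sel mt.T p.2) s
  rw [h2 p hp, pv_ev, ev_cons, ev_replicate, ← pow_succ', Int.cast_neg, Int.cast_one, neg_add_eq_sub,
    (smul_eq_zero.1 h8).resolve_right h0] at h9
  obtain ⟨e, he, h10⟩ := List.mem_map.1 (List.prod_eq_zero_iff.1 h9.symm)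
  exact ⟨e, mem_sel he, h10⟩

/-- **the classification** -/
theorem cls {nd : Nd} (F : Fit R.cs R.h R.ψ nd.toTy em Set.univ 1) (H : mt.Ok nd) {E : Emb R' R} (hx : E.Mx v) :
    E.j.range = ⊤ ∨ ∃ e ∈ mt.T, ∃ u : R.W, (∀ z, z ∈ E.j.range ↔ u * z * u⁻¹ ∈ WJ R.cs (e.J em)) ∧
      u * E.w * (R.ψ u)⁻¹ * (wd R.cs em nd.r e.w)⁻¹ ∈ WJ R.cs (e.J em) := by
  refine or_iff_not_imp_left.2 fun hn => ?_
  have hy : tyOK nd.toTy = true := by
    have h1 := H.base
    simp only [Mt.base, Bool.and_eq_true] at h1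
    exact h1.1.1.1.1.1.1
  obtain ⟨s, hs, -, hA⟩ := exists_ac F H.good.ok H.base v
  obtain ⟨x, hx1, hx0⟩ : ∃ x ∈ v.Fs E.w, x ≠ 0 := by
    by_contra h
    push Not at h
    exact hn (hx.cen.trans (top_unique fun u _ x h1 => by rw [h x h1, mulVec_zero]))
  obtain ⟨k, hk, g, -, h1⟩ := F.cover' H.good (mem_WJ_univ _ E.w)
  rw [mul_one] at h1
  obtain ⟨e, he, h2⟩ := (H.cl.elim (fun h x => cl_spec (x := x) hy hs hA (allLt_iff.1 h k hk))
    fun ⟨_, _, h⟩ x => od_spec (x := x) H.good.ok hy hs hA h hk) (rd R g⁻¹ *ᵥ x) (by rwa [eq_inv_mul_of_mul_eq h1.symm, ← mul_assoc, ← inv_inv (R.ψ g), ← map_inv R.ψ, v.Fs_conj])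
    fun h => hx0 (by rw [← Sp.rho_mul_inv (ρ := rd R) g x, h, mulVec_zero])
  obtain ⟨h3, h4⟩ := en_spec H.good.ok hy hs hA (List.all_eq_true.1 H.en e he) h2
  obtain ⟨u, hu⟩ := v.co.springer one_ne_zero hx.top (wd R.cs em nd.r e.w)
  have h5 : v.Fs (wd R.cs em nd.r e.w) ≤ v.Fs (u⁻¹ * E.w * (R.ψ u⁻¹)⁻¹) := fun y hy => by
    rw [← Sp.rho_inv_mul (ρ := rd R) u y, v.Fs_conj]
    exact hu y hy
  have h6 := h3 (v.le_Fs_iff.1 h5)
  have h7 := h4 _ h6
  rw [inv_mul_cancel_right] at h7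
  refine ⟨e, he, u⁻¹, fun z => ?_, h6⟩
  rw [hx.cen]
  refine ⟨fun h => h3 fun y hy => ?_, fun h y hy => ?_⟩
  · rw [map_mul, map_mul, inv_inv, ← mulVec_mulVec, ← mulVec_mulVec, h _ (hu y hy), Sp.rho_inv_mul]
  · have h8 := h7 h _ ((v.Fs_conj u⁻¹ E.w).2 hy)
    rw [map_mul, map_mul, ← mulVec_mulVec, ← mulVec_mulVec, Sp.rho_inv_mul] at h8
    rw [← Sp.rho_mul_inv (ρ := rd R) u (rd R z *ᵥ y), h8, Sp.rho_mul_inv]

example := And.intro @sel.eq_1 (And.intro @reach.eq_1 (And.intro @Mt.g.eq_1 @Mt.base.eq_1))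
example := And.intro @pm.eq_1 (And.intro @pq.eq_1 (And.intro @it.eq_1 @Mt.od.eq_1))
example := And.intro @Mt.en.eq_1 (And.intro @Mt.qL.eq_1 (And.intro @Mt.cl.eq_1 @En.J.eq_1))

end Cfsg.Agent.MO.Mx
end

-- part: MO/Nr/Defs
section
/-!
# MO/Nr: generalised Harish-Chandra theory without symmetries (helper47)

* `Core0 E y' y` : `Core` for the empty set of symmetries;
* `Fus E` : the fusion of the subcoset is controlled by its stabiliser;
* `Ent T io x` : the statement for one entry of the table of the non-regular numbers.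
-/

set_option autoImplicit false
set_option linter.unusedSectionVars false

namespace Cfsg.Agent.MO.Rc

open CoxeterSystem Cfsg.Agent.Tits.Core Cfsg.Agent.Tits.Exchange Cfsg.Agent.MO.Crd
open Cfsg.Agent.LV.W (Fit wd)

variable {R R' : RC} {ι ι' : Type} [Fintype ι] [Fintype ι']

/-- **generalised Harish-Chandra theory** without symmetries -/
structure Core0 (E : Emb R' R) (y' : ι' → R'.W → ℂ) (y : ι → R.W → ℂ) : Prop where
  ne : ∀ i', E.os y' i' ≠ 0
  ind : ∀ i' k' (a b : ℂ), a ≠ 0 → a • E.os y' i' = b • E.os y' k' → E.Ob (y' i') (y' k')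
  ex : ∀ i, (∀ u, y i (E.el u) = 0) ∨ ∃ i' n, 0 < n ∧ E.Ov (y i) n (E.os y' i')
  cnt : ∀ i' n, 0 < n →
    Nat.card {i // E.Ov (y i) n (E.os y' i')} = Nat.card {η // η ∈ E.Et (y' i') ∧ η 1 = n}

/-- members of the subcoset which are conjugate are conjugate only by the stabiliser -/
def Fus (E : Emb R' R) : Prop :=
  ∀ (g : R.W) (u u' : R'.W), E.el u' * R.ψ g = g * E.el u → SemidirectProduct.inl g ∈ E.Nh

/-- the letters `io` -/
def Lt {I : Type} (em : ℕ → I) (io : List ℕ) : Set I := {i | ∃ a ∈ io, em a = i}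

/-- **one entry**: the table `T`, the letters `io` of the Levi subgroup, the word `x` -/
def Ent (tabs : List XT) (T : XT) (io : List ℕ) (x : ℕ) : Prop :=
  ∀ (R' R : RC) (E : Emb R' R) (v : Ev R) (Γ : Subgroup (Au R)) (ι' ι : Type) [Fintype ι'] [Fintype ι]
    (y' : ι' → R'.W → ℂ) (y : ι → R.W → ℂ) (em : ℕ → R.I), Fit R.cs R.h R.ψ T.L.nd.toTy em Set.univ 1 →
    E.j.range = WJ R.cs (Lt em io) → (∃ a ∈ WJ R.cs (Lt em io), E.w = a * wd R.cs em T.L.nd.r x) →
    E.Mx v → TyA R' → LusP tabs mE R' y' → LusP tabs mE R y → Fam R' y' → Fam R y → Hy E Γ y' y → Core0 E y' y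

example := And.intro @Fus.eq_def @Fus.eq_1
example := And.intro @Lt.eq_def @Lt.eq_1
example := And.intro @Ent.eq_def @Ent.eq_1

end Cfsg.Agent.MO.Rc
end

-- part: MO/Mx/Tab
section
/-!
# MO/Mx: the tables of the exceptional cosets (helper45; data by `tools/P3/h45/gentab.py`)

* `Mt.Fn` : every entry is a regular class of the list `ks` or a member of the list `es`; `cls'` : the classification;
* `X_mt`, `X_rg` (regular classes), `X_nr` (the other entries), `X_mk`, `X_fin`.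
-/

set_option autoImplicit false
set_option linter.unusedSectionVars false
set_option maxRecDepth 100000

namespace Cfsg.Agent.MO.Mx

open CoxeterSystem Cfsg.Agent.Tits.Core Cfsg.Agent.Tits.Exchange Cfsg.Agent.MO.Crd Cfsg.Agent.MO.Rc Cfsg.Agent.LV.W

/-- the entry is regular, of a class in `ks`, or in the list `es` -/
def En.fn (nd : Nd) (ks : List ℕ) (es : List (List ℕ × ℕ)) (e : En) (c : ℕ) : Bool :=
  decide (e.io = []) && nd.cj (run nd.tab e.w) c && decide (c % 256 < nd.K) && decide (c % 256 ∈ ks) || decide ((e.io, e.w) ∈ es)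

/-- all entries are regular, of a class in `ks`, or in the list `es` -/
def Mt.Fn (mt : Mt) (nd : Nd) (ks : List ℕ) (es : List (List ℕ × ℕ)) : Prop := ∃ cs, all2 (En.fn nd ks es) mt.T cs = true

theorem all2_mem {α β : Type} {p : α → β → Bool} {l : List α} {m : List β} (h : all2 p l m = true) {a : α} (ha : a ∈ l) :
    ∃ b, p a b = true := by
  obtain ⟨i, hi, rfl⟩ := List.getElem_of_mem ha
  exact ⟨_, (all2_iff.1 h).get hi ((all2_iff.1 h).length_eq ▸ hi)⟩

theorem cj_spec {R : RC} {em : ℕ → R.I} {nd : Nd} (G : nd.Good) (F : Fit R.cs R.h R.ψ nd.toTy em Set.univ 1) {w c : ℕ}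
    (h : nd.cj (run nd.tab w) c = true) (hk : c % 256 < nd.K) : ∃ g, wd R.cs em nd.r w * R.ψ g = g * el R.cs nd em 1 (c % 256) :=
  ⟨_, by rw [el, mul_one, ← F.cj G (F.wd_mem w) (fun _ hu => F.run_cd G.ok w hu) h hk, ← mul_one (ws _ _ _ _), ← F.tw_wd, one_mul]⟩

theorem En.fn_spec {nd : Nd} {ks : List ℕ} {es : List (List ℕ × ℕ)} {e : En} {c : ℕ} (h : e.fn nd ks es c = true) :
    (e.io = [] ∧ nd.cj (run nd.tab e.w) c = true ∧ c % 256 < nd.K ∧ c % 256 ∈ ks) ∨ (e.io, e.w) ∈ es := by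
  simpa only [En.fn, Bool.or_eq_true, Bool.and_eq_true, decide_eq_true_eq, and_assoc] using h

/-- **the classification** -/
theorem cls' {R R' : RC} {em : ℕ → R.I} {mt : Mt} {nd : Nd} {ks : List ℕ} {es : List (List ℕ × ℕ)} (H : mt.Ok nd) (H' : mt.Fn nd ks es)
    (F : Fit R.cs R.h R.ψ nd.toTy em Set.univ 1) {E : Emb R' R} {v : Ev R} (hx : E.Mx v) :
    E.j.range = ⊤ ∨ (E.j.range = ⊥ ∧ ∃ k ∈ ks, ∃ g, E.w * R.ψ g = g * el R.cs nd em 1 k) ∨
      ∃ e ∈ es, ∃ u : R.W, (∀ z, z ∈ E.j.range ↔ u * z * u⁻¹ ∈ WJ R.cs (Lt em e.1)) ∧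
        u * E.w * (R.ψ u)⁻¹ * (wd R.cs em nd.r e.2)⁻¹ ∈ WJ R.cs (Lt em e.1) := by
  refine (cls F H hx).imp_right fun ⟨e, he, u, h1, h2⟩ => ?_
  obtain ⟨cs, hc⟩ := H'
  obtain ⟨c, h3⟩ := all2_mem hc he
  rcases En.fn_spec h3 with ⟨a1, a2, a3, a4⟩ | h
  · have h4 : ∀ z ∈ WJ R.cs (e.J em), z = 1 := fun z hz =>
      LV.W.WJ_ind (P := fun z : R.W => z = 1) rfl (J := e.J em) (fun i ⟨_, ha, _⟩ => nomatch a1 ▸ ha) hz
    obtain ⟨g, h5⟩ := cj_spec H.good F a2 a3
    rw [← mul_inv_eq_one.1 (h4 _ h2)] at h5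
    refine .inl ⟨eq_bot_iff.2 fun z hz => conj_eq_one_iff.1 (h4 _ ((h1 z).1 hz)), _, a4, u⁻¹ * g, ?_⟩
    rw [mul_assoc, ← h5, map_mul, map_inv]
    simp only [mul_assoc, inv_mul_cancel_left]
  · exact .inr ⟨(e.io, e.w), h, u, h1, h2⟩

private noncomputable def fz {β : Type} (a : ℤ) (k : ℤ → β) : β :=
  Int.rec (fun n => fn n fun n' => k (Int.ofNat n')) (fun n => fn n fun n' => k (Int.negSucc n')) a

private theorem fz_eq {β : Type} (a : ℤ) (k : ℤ → β) : fz a k = k a := by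
  cases a with
  | ofNat n => exact fn_eq n fun n' => k (Int.ofNat n')
  | negSucc n => exact fn_eq n fun n' => k (Int.negSucc n')

private noncomputable def fx (c : ℤ) (l : List ℤ) : List ℤ → (List ℤ → List ℤ) → List ℤ :=
  List.rec (fun _ k => k []) (fun a _ ih m k => List.rec (k []) (fun b m' _ =>
    Int.rec (fun n => Nat.rec (ih m' fun l' => k (a :: l')) (fun _ _ => fz (Int.add a (Int.mul c b)) fun x => ih m' fun l' => k (x :: l')) n)
      (fun n => Nat.rec (fz (Int.sub a c) fun x => ih m' fun l' => k (x :: l'))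
        (fun _ _ => fz (Int.add a (Int.mul c b)) fun x => ih m' fun l' => k (x :: l')) n) b) m) l

private theorem fx_eq (c : ℤ) (l : List ℤ) : ∀ m k, fx c l m k = k (ax c l m) := by
  induction l with
  | nil => exact fun _ _ => rfl
  | cons a l ih =>
    intro m k
    rcases m with _ | ⟨(_ | n) | (_ | n), m⟩
    · rfl
    · exact (ih m fun l' => k (a :: l')).trans (congrArg (fun x => k (x :: ax c l m))
        ((Int.add_zero a).symm.trans (congrArg (a + ·) (Int.mul_zero c).symm)))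
    · exact (fz_eq _ fun x => fx c l m fun l' => k (x :: l')).trans (ih m fun l' => k (_ :: l'))
    · exact (fz_eq _ fun x => fx c l m fun l' => k (x :: l')).trans ((ih m fun l' => k (_ :: l')).trans
        (congrArg (fun x => k (x :: ax c l m)) (congrArg (a + ·) (Int.mul_neg_one c).symm)))
    · exact (fz_eq _ fun x => fx c l m fun l' => k (x :: l')).trans (ih m fun l' => k (_ :: l'))

private noncomputable def wG (r : ℕ) (AL : List (List ℤ)) (f : ℕ) : ℕ → List ℤ → List ℤ :=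
  Nat.rec (fun _ l => l) (fun _ ih n l => cond (Nat.ble n 1) l (fn (Nat.shiftRight n 4) fun n' => fn (Nat.mod n 16) fun i =>
    cond (Nat.blt i r) (fz (Int.neg (nth 0 l i)) fun c => fx c l (nth [] AL i) (ih n')) (ih n' l))) f

private theorem wG_eq (t : Ty) (f : ℕ) : ∀ n l, wF t f n l = wG t.r t.AL f n l := by
  induction f with
  | zero => exact fun _ _ => rfl
  | succ f ih =>
    intro n l
    show cond _ l (fl (cond _ _ _) (wF t f _)) = cond _ l (fn _ _)
    rw [fn_eq, fn_eq, fl_eq, ih, fz_eq, fx_eq]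
    cases Nat.blt (Nat.mod n 16) t.r <;> rfl

private noncomputable def wQ (t : Ty) (n : ℕ) (l : List ℤ) : List ℤ := fn n fun n => fn t.r fun r => fl l (wG r t.AL 256 n)

private theorem wA_eq : wA = wQ := by
  funext t n l
  show fl l (wF t 256 n) = fn _ _
  rw [fn_eq, fn_eq, fl_eq, fl_eq, wG_eq]

/-- the table of `G2` -/
def G2_mt : Mt where
  mu := [1, 1]
  si := [0, 1]
  b := 0
  ed := [(0, 1)]
  T := [⟨[-1], [1], 0, [], 0x1, [1, 1], [0x1], []⟩,
    ⟨[1], [161280], 0, [], 0x1010101, [1, 1], [0x1], []⟩,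
    ⟨[1, 1], [71798, 89482], 0, [], 0x10101, [1, 1], [0x1], []⟩,
    ⟨[1, -1], [71799, 89483], 0, [], 0x101, [1, 1], [0x1], []⟩]
  D := [1, 3, 3, 8, 4, 2]

/-- the regular classes -/
def G2_rg : List ℕ := [0, 5, 4, 3]

/-- the entries which are not regular -/
def G2_nr : List (List ℕ × ℕ) := []

theorem G2_mk : G2_mt.Ok G2 :=
  ⟨G2_ok.good, by decide +kernel, by delta Mt.en Mt.g; rw [wA_eq]; decide +kernel, .inr ⟨[(0, 1), (1, 3), (2, 5), (5, 15)],
    [0, 1, 1, 5, 2, 1],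
    by decide +kernel⟩⟩

theorem G2_fin : G2_mt.Fn G2 G2_rg G2_nr :=
  ⟨[0x101010100, 0x105, 0x1104, 0x1103],
    by decide +kernel⟩

/-- the table of `G2_10` -/
def G2_10_mt : Mt where
  mu := [3, 1]
  si := [1, 0]
  b := 1
  ed := [(1, 0)]
  T := [⟨[-3, 0], [74694, 86587], 0, [], 0x1, [1, 1], [0x1], []⟩,
    ⟨[3, 0], [17684, 143597], 0, [], 0x1010, [1, 1], [0x1], []⟩,
    ⟨[3, -3], [71800, 89484], 0, [], 0x10, [1, 1], [0x1], []⟩,
    ⟨[3, 3], [71797, 89481], 0, [], 0x101010, [1, 1], [0x1], []⟩]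
  D := [1, 4, 2, 8]

/-- the regular classes -/
def G2_10_rg : List ℕ := [0, 2, 1, 3]

/-- the entries which are not regular -/
def G2_10_nr : List (List ℕ × ℕ) := []

theorem G2_10_mk : G2_10_mt.Ok G2_10 :=
  ⟨G2_10_ok.good, by decide +kernel, by delta Mt.en Mt.g; rw [wA_eq]; decide +kernel, .inl (by delta Mt.cl Mt.g; rw [wA_eq]; decide +kernel)⟩

theorem G2_10_fin : G2_10_mt.Fn G2_10 G2_10_rg G2_10_nr :=
  ⟨[0x101010100, 0x10101002, 0x1101, 0x1103],
    by decide +kernel⟩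

/-- the table of `B2_10` -/
def B2_10_mt : Mt where
  mu := [1, 2]
  si := [1, 0]
  b := 0
  ed := [(0, 1)]
  T := [⟨[-2, 0], [25696, 135585], 0, [], 0x1, [1, 1], [0x1], []⟩,
    ⟨[2, -2], [899, 160384], 0, [], 0x10, [1, 1], [0x1], []⟩,
    ⟨[2, 2], [897, 160382], 0, [], 0x1010, [1, 1], [0x1], []⟩]
  D := [1, 2, 4]

/-- the regular classes -/
def B2_10_rg : List ℕ := [0, 1, 2]

/-- the entries which are not regular -/
def B2_10_nr : List (List ℕ × ℕ) := []

theorem B2_10_mk : B2_10_mt.Ok B2_10 :=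
  ⟨B2_10_ok.good, by decide +kernel, by delta Mt.en Mt.g; rw [wA_eq]; decide +kernel, .inl (by delta Mt.cl Mt.g; rw [wA_eq]; decide +kernel)⟩

theorem B2_10_fin : B2_10_mt.Fn B2_10 B2_10_rg B2_10_nr :=
  ⟨[0x1010100, 0x110101, 0x1002],
    by decide +kernel⟩

/-- the table of `F4` -/
def F4_mt : Mt where
  mu := [1, 1, 1, 1]
  si := [0, 1, 2, 3]
  b := 0
  ed := [(0, 1), (1, 2), (2, 3)]
  T := [⟨[-1], [1], 0, [], 0x1, [1, 1, 1, 1], [0x1], []⟩,
    ⟨[1], [161280], 0, [], 0x1010210212321021232102123, [1, 1, 1, 1], [0x1], []⟩,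
    ⟨[1, 1], [71798, 89482], 0, [], 0x10121023210212321, [1, 1, 1, 1], [0x1], []⟩,
    ⟨[1, 0], [898, 160383], 0, [], 0x1021023210213, [1, 1, 1, 1], [0x1], []⟩,
    ⟨[1, -1], [71799, 89483], 0, [], 0x102102321, [1, 1, 1, 1], [0x1], []⟩,
    ⟨[1, 0, 0, 0], [61880, 73705, 87576, 99401], 1, [], 0x1102132, [1, 1, 1, 1], [0x1], []⟩,
    ⟨[1, 0, -1, 0], [36898, 37796, 123485, 124383], 1, [], 0x10132, [1, 1, 1, 1], [0x1], []⟩]
  D := [1, 3, 3, 5, 9, 3, 3, 5, 19, 11, 7, 19, 11, 3, 3, 7, 64, 16, 32, 18, 8, 10, 4, 18, 2]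

/-- the regular classes -/
def F4_rg : List ℕ := [0, 24, 22, 20, 17, 18, 16]

/-- the entries which are not regular -/
def F4_nr : List (List ℕ × ℕ) := []

theorem F4_mk : F4_mt.Ok F4 :=
  ⟨F4_ok.good, by decide +kernel, by delta Mt.en Mt.g; rw [wA_eq]; decide +kernel, .inr ⟨[(0, 1), (1, 3), (2, 5), (3, 11), (5, 23), (7, 43), (11, 95)],
    [0, 1, 1, 2, 3, 1, 1, 2, 5, 3, 5, 5, 3, 1, 1, 5, 11, 5, 7, 5, 3, 3, 2, 5, 1],
    by decide +kernel⟩⟩

theorem F4_fin : F4_mt.Fn F4 F4_rg F4_nr :=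
  ⟨[0x1102102132102123210212300, 0x118, 0x110210213210212321021216, 0x11023214, 0x112311, 0x1010210213210212321021212, 0x12123210],
    by decide +kernel⟩

/-- the table of `F4_3210` -/
def F4_3210_mt : Mt where
  mu := [2, 2, 1, 1]
  si := [3, 2, 1, 0]
  b := 2
  ed := [(2, 1), (2, 3), (1, 0)]
  T := [⟨[-2, 0], [25696, 135585], 0, [], 0x1, [2, 1, 1, 1], [0x1], []⟩,
    ⟨[2, 0], [11825, 149456], 0, [], 0x1010210213210, [1, 1, 1, 1], [0x1], []⟩,
    ⟨[2, -2], [899, 160384], 0, [], 0x1010321, [1, 1, 1, 1], [0x1], []⟩,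
    ⟨[2, 2], [897, 160382], 0, [], 0x1012102123210213210, [1, 1, 1, 1], [0x1], []⟩,
    ⟨[4, 0, -2, 0], [28166, 39991, 121290, 133115], 1, [], 0x10212, [1, 1, 1, 1], [0x1], []⟩,
    ⟨[4, -4, 2, -2], [34901, 51687, 108697, 127279], 3, [], 0x101, [1, 1, 1, 1], [0x1], []⟩,
    ⟨[4, 4, 2, 2], [34002, 52584, 109594, 126380], 1, [], 0x10123210212, [1, 1, 1, 1], [0x1], []⟩]
  D := [1, 3, 5, 9, 32, 16, 12, 64, 2, 4, 8]

/-- the regular classes -/
def F4_3210_rg : List ℕ := [0, 8, 9, 10, 5, 4, 7]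

/-- the entries which are not regular -/
def F4_3210_nr : List (List ℕ × ℕ) := []

theorem F4_3210_mk : F4_3210_mt.Ok F4_3210 :=
  ⟨F4_3210_ok.good, by decide +kernel, by delta Mt.en Mt.g; rw [wA_eq]; decide +kernel, .inl (by delta Mt.cl Mt.g; rw [wA_eq]; decide +kernel)⟩

theorem F4_3210_fin : F4_3210_mt.Fn F4_3210 F4_3210_rg F4_3210_nr :=
  ⟨[0x101021021232102123210212300, 0x110210212321021232102108, 0x110210213210212321021209, 0x1102320a, 0x112305, 0x1010210213210212321021204,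
    0x112132107],
    by decide +kernel⟩

/-- the table of `D4_2130` -/
def D4_2130_mt : Mt where
  mu := [1, 1, 1, 1]
  si := [3, 1, 0, 2]
  b := 0
  ed := [(0, 1), (1, 2), (1, 3)]
  T := [⟨[-1], [1], 0, [], 0x1, [1, 1, 1, 1], [0x1], []⟩,
    ⟨[1], [161280], 0, [], 0x1010210310213, [1, 1, 1, 1], [0x1], []⟩,
    ⟨[1, 1], [71798, 89482], 0, [], 0x102131021, [1, 1, 1, 1], [0x1], []⟩,
    ⟨[1, -1], [71799, 89483], 0, [], 0x10131, [1, 1, 1, 1], [0x1], []⟩,
    ⟨[1, 0, -1, 0], [36898, 37796, 123485, 124383], 1, [], 0x112, [1, 1, 1, 1], [0x1], []⟩]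
  D := [5, 11, 7, 16, 8, 10, 4]

/-- the regular classes -/
def D4_2130_rg : List ℕ := [0, 5, 6, 4, 3]

/-- the entries which are not regular -/
def D4_2130_nr : List (List ℕ × ℕ) := []

theorem D4_2130_mk : D4_2130_mt.Ok D4_2130 :=
  ⟨D4_2130_ok.good, by decide +kernel, by delta Mt.en Mt.g; rw [wA_eq]; decide +kernel, .inl (by delta Mt.cl Mt.g; rw [wA_eq]; decide +kernel)⟩

theorem D4_2130_fin : D4_2130_mt.Fn D4_2130 D4_2130_rg D4_2130_nr :=
  ⟨[0x101021031021300, 0x11231205, 0x106, 0x1102131021304, 0x101303],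
    by decide +kernel⟩

/-- the table of `E6` -/
def E6_mt : Mt where
  mu := [1, 1, 1, 1, 1, 1]
  si := [0, 1, 2, 3, 4, 5]
  b := 0
  ed := [(0, 2), (2, 3), (3, 1), (3, 4), (4, 5)]
  T := [⟨[-1], [1], 0, [], 0x1, [1, 1, 1, 1, 1, 1], [0x1], []⟩,
    ⟨[1], [161280], 0, [], 0x1012031203243120324315431203243154320, [1, 1, 1, 1, 1, 1], [0x1], []⟩,
    ⟨[1, 1], [71798, 89482], 0, [], 0x1203204312345431203243154, [1, 1, 1, 1, 1, 1], [0x1], []⟩,
    ⟨[1, 0], [898, 160383], 0, [], 0x1012034325431203243, [1, 1, 1, 1, 1, 1], [0x1], []⟩,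
    ⟨[1, 1, 1, 1], [28254, 57030, 108847, 128430], 1, [0], 0x1312043123543120324, [0, 1, 1, 1, 2, 1], [0x1, 0x10], [-1, 0]⟩,
    ⟨[1, -1], [71799, 89483], 0, [], 0x1012315431234, [1, 1, 1, 1, 1, 1], [0x1], []⟩,
    ⟨[1, 0, 0, 0], [61880, 73705, 87576, 99401], 1, [], 0x1232431205, [2, 1, 1, 2, 1, 2], [0x1], []⟩,
    ⟨[1, 0, 0, 1, 0, 0], [8306, 10302, 28330, 54644, 98331, 122649], 1, [], 0x102314315, [1, 1, 1, 1, 1, 1], [0x1], []⟩,
    ⟨[1, 0, -1, 0], [36898, 37796, 123485, 124383], 1, [], 0x1012543, [1, 1, 1, 1, 1, 1], [0x1], []⟩]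
  D := [1, 3, 5, 3, 11, 7, 3, 17, 35, 9, 11, 7, 5, 3, 39, 67, 43, 19, 11, 7, 260, 128, 36, 38, 4]

/-- the regular classes -/
def E6_rg : List ℕ := [0, 13, 24, 9, 22, 15, 21, 20]

/-- the entries which are not regular -/
def E6_nr : List (List ℕ × ℕ) := [([0], 0x1312043123543120324)]

theorem E6_mk : E6_mt.Ok E6 :=
  ⟨E6_ok.good, by decide +kernel, by delta Mt.en Mt.g; rw [wA_eq]; decide +kernel, .inr ⟨[(0, 1), (1, 3), (2, 5), (3, 11), (4, 17), (5, 39), (7, 75), (8, 133), (11, 303)],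
    [0, 1, 2, 1, 3, 5, 1, 4, 5, 3, 3, 5, 2, 1, 5, 7, 11, 9, 3, 5, 11, 8, 5, 5, 2],
    by decide +kernel⟩⟩

theorem E6_fin : E6_mt.Fn E6 E6_rg E6_nr :=
  ⟨[0x11203120343123454312300, 0x103431203243543200d, 0x120418, 0x13143154312032435409, 0x0, 0x11203204312032431543120324315432016,
    0x1203123431540f, 0x115, 0x13120432014],
    by decide +kernel⟩

/-- the table of `E6_514320` -/
def E6_514320_mt : Mt where
  mu := [1, 1, 1, 1, 1, 1]
  si := [5, 1, 4, 3, 2, 0]
  b := 0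
  ed := [(0, 2), (2, 3), (3, 1), (3, 4), (4, 5)]
  T := [⟨[-1], [1], 0, [], 0x1, [1, 1, 1, 1, 1, 1], [0x1], []⟩,
    ⟨[1], [161280], 0, [], 0x1012031203243120324315431203243154320, [1, 1, 1, 1, 1, 1], [0x1], []⟩,
    ⟨[1, 1], [71798, 89482], 0, [], 0x1012034312354312032431543, [1, 1, 1, 1, 1, 1], [0x1], []⟩,
    ⟨[1, 0], [898, 160383], 0, [], 0x1013120343543120324, [1, 1, 1, 1, 1, 1], [0x1], []⟩,
    ⟨[1, -1], [71799, 89483], 0, [], 0x1120314543123, [1, 1, 2, 1, 1, 1], [0x1], []⟩,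
    ⟨[1, 0, 0, 0], [61880, 73705, 87576, 99401], 1, [], 0x1123204312035432, [1, 1, 1, 1, 1, 1], [0x1], []⟩,
    ⟨[1, -1, 1, -1], [32851, 52434, 104251, 133027], 1, [0], 0x120324312543, [0, 1, 1, 1, 2, 1], [0x1, 0x10], [-1, 0]⟩,
    ⟨[1, 0, -1, 0], [36898, 37796, 123485, 124383], 1, [], 0x1132045, [1, 1, 1, 3, 1, 1], [0x1], []⟩,
    ⟨[1, 0, 0, -1, 0, 0], [38632, 62950, 106637, 132951, 150979, 152975], 1, [], 0x15431, [1, 2, 1, 1, 3, 1], [0x1], []⟩]
  D := [3, 11, 3, 21, 19, 11, 3, 7, 67, 19, 23, 19, 35, 15, 11, 3, 256, 144, 66, 16, 18, 20, 18, 10, 2]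

/-- the regular classes -/
def E6_514320_rg : List ℕ := [0, 24, 21, 23, 19, 12, 17, 16]

/-- the entries which are not regular -/
def E6_514320_nr : List (List ℕ × ℕ) := [([0], 0x120324312543)]

theorem E6_514320_mk : E6_514320_mt.Ok E6_514320 :=
  ⟨E6_514320_ok.good, by decide +kernel, by delta Mt.en Mt.g; rw [wA_eq]; decide +kernel, .inl (by delta Mt.cl Mt.g; rw [wA_eq]; decide +kernel)⟩

theorem E6_514320_fin : E6_514320_mt.Fn E6_514320 E6_514320_rg E6_514320_nr :=
  ⟨[0x1300, 0x10120312034312032431543120324315432018, 0x11231431235431234515, 0x101312034312032431543120324315432017,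
    0x1312032431203243543120324315432013, 0x123123435431203243154320c, 0x0, 0x1020343154312011, 0x101203120324312032431543120324315432010],
    by decide +kernel⟩

/-- the table of `E7` -/
def E7_mt : Mt where
  mu := [1, 1, 1, 1, 1, 1, 1]
  si := [0, 1, 2, 3, 4, 5, 6]
  b := 0
  ed := [(0, 2), (2, 3), (3, 1), (3, 4), (4, 5), (5, 6)]
  T := [⟨[-1], [1], 0, [], 0x1, [1, 1, 1, 1, 1, 1, 1], [0x1], []⟩,
    ⟨[1], [161280], 0, [], 0x1012031203243120324315431203243154320654312032431543206543123456, [2, 1, 1, 1, 1, 1, 1], [0x1], []⟩,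
    ⟨[1, 1], [71798, 89482], 0, [], 0x1131203431254312032431565431203243154320654, [2, 1, 2, 1, 1, 1, 2], [0x1], []⟩,
    ⟨[1, 0], [898, 160383], 0, [1, 4, 6], 0x1023143543123456543120324315432, [1, 0, 1, 1, 0, 1, 0], [0x1, 0x11, 0x14, 0x16, 0x141, 0x161, 0x164,
      0x1641], [-1, 0]⟩,
    ⟨[1, 1, 1, 1], [28254, 57030, 108847, 128430], 1, [3, 4], 0x1013243156543120324315432, [5, 1, 2, 0, 0, 3, 1], [0x1, 0x13, 0x14, 0x143,
      0x134, 0x1343], [-1, 0, 0, 0, 0, 0]⟩,
    ⟨[1, -1], [71799, 89483], 0, [], 0x1012343120345431265432, [2, 2, 1, 1, 1, 1, 1], [0x1], []⟩,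
    ⟨[1, 1, 1, 1, 1, 1], [4751, 77772, 123922, 130388, 153942, 154348], 1, [], 0x1024326543120324315, [1, 6, 6, 3, 1, 1, 5], [0x1], []⟩,
    ⟨[1, 0, 0, 0], [61880, 73705, 87576, 99401], 1, [1, 4, 6], 0x1543123654312032, [1, 0, 1, 1, 0, 1, 0], [0x1, 0x11, 0x14, 0x16, 0x141, 0x161,
      0x164, 0x1641], [-1, 0, 0, 0]⟩,
    ⟨[1, 0, 0, 1, 0, 0], [8306, 10302, 28330, 54644, 98331, 122649], 1, [], 0x1324325431265431203, [1, 3, 1, 1, 1, 1, 6], [0x1], []⟩,
    ⟨[1, -1, 1, -1], [32851, 52434, 104251, 133027], 1, [1, 3], 0x1231543120346, [1, 0, 1, 0, 1, 1, 1], [0x1, 0x11, 0x13, 0x131, 0x113, 0x1131],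
      [-1, 0, 0, 0, 0, 0]⟩,
    ⟨[1, 0, -1, 0], [36898, 37796, 123485, 124383], 1, [1, 6, 4], 0x12054316543, [1, 0, 1, 1, 0, 1, 0], [0x1, 0x11, 0x16, 0x14, 0x161, 0x141,
      0x146, 0x1461], [-1, 0, 0, 0, 0, 0]⟩,
    ⟨[1, -1, 1, -1, 1, -1], [6933, 7339, 30893, 37359, 83509, 156530], 2, [], 0x1231203654, [2, 2, 1, 1, 1, 4, 1], [0x1], []⟩,
    ⟨[1, 0, 0, -1, 0, 0], [38632, 62950, 106637, 132951, 150979, 152975], 1, [], 0x10143265, [1, 1, 3, 1, 3, 1, 2], [0x1], []⟩]
  D := [1, 3, 5, 3, 11, 7, 3, 3, 17, 35, 9, 11, 11, 7, 5, 3, 3, 39, 39, 131, 43, 19, 35, 11, 11, 15, 11, 7, 7, 3, 515, 137, 35, 65, 1029, 257, 37,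
    39, 39, 131, 43, 21, 35, 11, 15, 11, 5, 3, 4098, 2050, 1058, 546, 514, 138, 34, 34, 38, 34, 10, 2]

/-- the regular classes -/
def E7_rg : List ℕ := [0, 59, 46, 54, 33, 35, 49, 48]

/-- the entries which are not regular -/
def E7_nr : List (List ℕ × ℕ) := [([1, 4, 6], 0x1023143543123456543120324315432), ([3, 4], 0x1013243156543120324315432), ([1, 4, 6], 0x1543123654312032), ([1, 3],
    0x1231543120346), ([1, 6, 4], 0x12054316543)]

private noncomputable def _root_.Cfsg.Agent.LsF.f5d459a_20 : {f // @Cfsg.Agent.MO.Mx.irrOK = f} := ⟨_, by first | (delta Cfsg.Agent.MO.Mx.irrOK List.sublists; rewrite [Cfsg.Agent.LsF.iadd_pat, Cfsg.Agent.LsF.isub_pat, Cfsg.Agent.LsF.imod_pat, Cfsg.Agent.LsF.and_eq, Cfsg.Agent.LsF.or_eq, Cfsg.Agent.LsF.instDecEq_eq, Cfsg.Agent.LsF.all_eq, Cfsg.Agent.LsF.map_eq, Cfsg.Agent.LsF.foldr_eq, Cfsg.Agent.LsF.flatMap_eq, Cfsg.Agent.LsF.prod_eq, Cfsg.Agent.LsF.instIMul_eq, Cfsg.Agent.LsF.instIDecEq_eq, Cfsg.Agent.LsF.idecLt_eq,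 Cfsg.Agent.LsF.dNodup_eq, Cfsg.Agent.LsF.length_eq, Cfsg.Agent.LsF.decide_eq]; exact rfl) | exact rfl⟩
private noncomputable def _root_.Cfsg.Agent.LsF.f5d459a_7 : {f // @Cfsg.Agent.LV.W.dz = f} := ⟨_, by first | (delta Cfsg.Agent.LV.W.dz; rewrite [Cfsg.Agent.LsF.cond_eq]; exact rfl) | exact rfl⟩
private noncomputable def _root_.Cfsg.Agent.LsF.f5d459a_9 : {f // @Cfsg.Agent.LV.W.unz = f} := ⟨_, by first | (delta Cfsg.Agent.LV.W.unz; rewrite [Cfsg.Agent.LsF.f5d459a_7.2, Cfsg.Agent.LsF.map_eq]; exact rfl) | exact rfl⟩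
private noncomputable def _root_.Cfsg.Agent.LsF.f5d459a_26 : {f // @Cfsg.Agent.LV.W.E7 = f} := ⟨_, by first | (delta Cfsg.Agent.LV.W.E7; rewrite [Cfsg.Agent.LsF.f5d459a_9.2, Cfsg.Agent.LsF.ineg_pat, Cfsg.Agent.LsF.map_eq]; exact rfl) | exact rfl⟩
private noncomputable def _root_.Cfsg.Agent.LsF.f5d459a_3 : {f // @Cfsg.Agent.LV.W.allLt = f} := ⟨_, by first | (delta Cfsg.Agent.LV.W.allLt; rewrite [Cfsg.Agent.LsF.and_eq]; exact rfl) | exact rfl⟩
private noncomputable def _root_.Cfsg.Agent.LsF.f5d459a_11 : {f // @Cfsg.Agent.MO.Mx.ax = f} := ⟨_, by first | (delta Cfsg.Agent.MO.Mx.ax; rewrite [Cfsg.Agent.LsF.iadd_eq, Cfsg.Agent.LsF.imul_eq]; (try delta List.casesOn); exact rfl) | exact rfl⟩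
private noncomputable def _root_.Cfsg.Agent.LsF.f5d459a_12 : {f // @Cfsg.Agent.MO.Mx.hL = f} := ⟨_, by first | (delta Cfsg.Agent.MO.Mx.hL; rewrite [Cfsg.Agent.LsF.f5d459a_11.2]; exact rfl) | exact rfl⟩
private noncomputable def _root_.Cfsg.Agent.LsF.f5d459a_14 : {f // @Cfsg.Agent.MO.Mx.fx = f} := ⟨_, by first | (delta Cfsg.Agent.MO.Mx.fx; rewrite [Cfsg.Agent.LsF.iadd_eq, Cfsg.Agent.LsF.imul_eq, Cfsg.Agent.LsF.isub_eq]; exact rfl) | exact rfl⟩
private noncomputable def _root_.Cfsg.Agent.LsF.f5d459a_15 : {f // @Cfsg.Agent.MO.Mx.wG = f} := ⟨_, by first | (delta Cfsg.Agent.MO.Mx.wG; rewrite [Cfsg.Agent.LsF.f5d459a_14.2, Cfsg.Agent.LsF.cond_eq, Cfsg.Agent.LsF.ineg_eq]; exact rfl) | exact rfl⟩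
private noncomputable def _root_.Cfsg.Agent.LsF.f5d459a_16 : {f // @Cfsg.Agent.MO.Mx.wQ = f} := ⟨_, by first | (delta Cfsg.Agent.MO.Mx.wQ; rewrite [Cfsg.Agent.LsF.f5d459a_15.2]; exact rfl) | exact rfl⟩
private noncomputable def _root_.Cfsg.Agent.LsF.f5d459a_17 : {f // @Cfsg.Agent.MO.Mx.bA = f} := ⟨_, by first | (delta Cfsg.Agent.MO.Mx.bA; rewrite [Cfsg.Agent.LsF.imul_pat, Cfsg.Agent.LsF.map_eq]; exact rfl) | exact rfl⟩
private noncomputable def _root_.Cfsg.Agent.LsF.f5d459a_22 : {f // @Cfsg.Agent.MO.WT.mem = f} := ⟨_, by first | (delta Cfsg.Agent.MO.WT.mem; rewrite [Cfsg.Agent.LsF.cond_eq]; exact rfl) | exact rfl⟩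
private noncomputable def _root_.Cfsg.Agent.LsF.f5d459a_23 : {f // @Cfsg.Agent.LV.W.runF = f} := ⟨_, by first | (delta Cfsg.Agent.LV.W.runF; rewrite [Cfsg.Agent.LsF.cond_eq]; exact rfl) | exact rfl⟩
private noncomputable def _root_.Cfsg.Agent.LsF.f5d459a_24 : {f // @Cfsg.Agent.LV.W.run = f} := ⟨_, by first | (delta Cfsg.Agent.LV.W.run; rewrite [Cfsg.Agent.LsF.f5d459a_23.2]; exact rfl) | exact rfl⟩
private noncomputable def _root_.Cfsg.Agent.LsF.f5d459a_18 : {f // @Cfsg.Agent.MO.Mx.un = f} := ⟨_, by first | (delta Cfsg.Agent.MO.Mx.un; rewrite [Cfsg.Agent.LsF.instDecEq_eq, Cfsg.Agent.LsF.map_eq, Cfsg.Agent.LsF.range_eq, Cfsg.Agent.LsF.ite_eq]; exact rfl) | exact rfl⟩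
private noncomputable def _root_.Cfsg.Agent.LsF.f5d459a_0 : {f // @Cfsg.Agent.LV.Enum.addL = f} := ⟨_, by first | (delta Cfsg.Agent.LV.Enum.addL List.brecOn List.brecOn.go Cfsg.Agent.LV.Enum.addL._f; (try delta Cfsg.Agent.LV.Enum.addL.match_1); (try delta List.casesOn); first | dsimp -zeta only | exact rfl) | exact rfl⟩
private noncomputable def _root_.Cfsg.Agent.LsF.f5d459a_27 : {f // @Cfsg.Agent.MO.Mx.pm = f} := ⟨_, by first | (delta Cfsg.Agent.MO.Mx.pm; rewrite [Cfsg.Agent.LsF.f5d459a_0.2, Cfsg.Agent.LsF.map_eq, Cfsg.Agent.LsF.iadd_eq, Cfsg.Agent.LsF.imul_eq]; exact rfl) | exact rfl⟩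
private noncomputable def _root_.Cfsg.Agent.LsF.f5d459a_28 : {f // @Cfsg.Agent.MO.Mx.pq = f} := ⟨_, by first | (delta Cfsg.Agent.MO.Mx.pq; rewrite [Cfsg.Agent.LsF.f5d459a_27.2, Cfsg.Agent.LsF.lappend_pat]; exact rfl) | exact rfl⟩
private noncomputable def _root_.Cfsg.Agent.LsF.f5d459a_19 : {f // @Cfsg.Agent.MO.Mx.sel = f} := ⟨_, by first | (delta Cfsg.Agent.MO.Mx.sel; rewrite [Cfsg.Agent.LsF.cond_eq]; exact rfl) | exact rfl⟩
private noncomputable def _root_.Cfsg.Agent.LsF.f5d459a_13 : {f // @Cfsg.Agent.MO.Mx.Mt.qL = f} := ⟨_, by first | (delta Cfsg.Agent.MO.Mx.Mt.qL; rewrite [Cfsg.Agent.LsF.f5d459a_12.2]; exact rfl) | exact rfl⟩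
private noncomputable def _root_.Cfsg.Agent.LsF.f5d459a_29 : {f // @Cfsg.Agent.MO.Mx.sA = f} := ⟨_, by first | (delta Cfsg.Agent.MO.Mx.sA; rewrite [Cfsg.Agent.LsF.f5d459a_11.2, Cfsg.Agent.LsF.cond_eq, Cfsg.Agent.LsF.ineg_eq]; exact rfl) | exact rfl⟩
private noncomputable def _root_.Cfsg.Agent.LsF.f5d459a_30 : {f // @Cfsg.Agent.MO.Mx.wF = f} := ⟨_, by first | (delta Cfsg.Agent.MO.Mx.wF; rewrite [Cfsg.Agent.LsF.f5d459a_29.2, Cfsg.Agent.LsF.cond_eq]; exact rfl) | exact rfl⟩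
private noncomputable def _root_.Cfsg.Agent.LsF.f5d459a_31 : {f // @Cfsg.Agent.MO.Mx.wA = f} := ⟨_, by first | (delta Cfsg.Agent.MO.Mx.wA; rewrite [Cfsg.Agent.LsF.f5d459a_30.2]; exact rfl) | exact rfl⟩
private noncomputable def _root_.Cfsg.Agent.LsF.f5d459a_32 : {f // @Cfsg.Agent.MO.Mx.Mt.g = f} := ⟨_, by first | (delta Cfsg.Agent.MO.Mx.Mt.g; rewrite [Cfsg.Agent.LsF.f5d459a_31.2, Cfsg.Agent.LsF.f5d459a_17.2]; exact rfl) | exact rfl⟩
private noncomputable def _root_.Cfsg.Agent.LsF.f5d459a_33 : {f // @Cfsg.Agent.MO.Mx.Mt.cl = f} := ⟨_, by first | (delta Cfsg.Agent.MO.Mx.Mt.cl; rewrite [Cfsg.Agent.LsF.f5d459a_3.2, Cfsg.Agent.LsF.f5d459a_13.2, Cfsg.Agent.LsF.f5d459a_32.2, Cfsg.Agent.LsF.f5d459a_18.2, Cfsg.Agent.LsF.f5d459a_19.2, Cfsg.Agent.LsF.all_eq, Cfsg.Agent.LsF.instIDecEq_eq, Cfsg.Agent.LsF.decide_eq]; exact rfl) | exact rfl⟩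
private noncomputable def _root_.Cfsg.Agent.LsF.f5d459a_34 : {f // @Cfsg.Agent.MO.Mx.Mt.od = f} := ⟨_, by first | (delta Cfsg.Agent.MO.Mx.Mt.od; rewrite [Cfsg.Agent.LsF.f5d459a_3.2, Cfsg.Agent.LsF.f5d459a_12.2, Cfsg.Agent.LsF.f5d459a_17.2, Cfsg.Agent.LsF.f5d459a_18.2, Cfsg.Agent.LsF.f5d459a_28.2, Cfsg.Agent.LsF.f5d459a_19.2, Cfsg.Agent.LsF.f5d459a_22.2, Cfsg.Agent.LsF.f5d459a_24.2, Cfsg.Agent.LsF.f5d459a_33.2, Cfsg.Agent.LsF.nadd_pat, Cfsg.Agent.LsF.ineg_pat, Cfsg.Agent.LsF.lappend_pat, Cfsg.Agent.LsF.and_eq, Cfsg.Agent.LsF.cond_eq, Cfsg.Agent.LsF.all_eq, Cfsg.Agent.LsF.map_eq, Cfsg.Agent.LsF.replicate_eq, Cfsg.Agent.LsF.instIDecEq_eq, Cfsg.Agent.LsF.dListEq_eq, Cfsg.Agent.LsF.decide_eq]; exact rfl) | exact rfl⟩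
theorem E7_mk : E7_mt.Ok E7 :=
  ⟨E7_ok.good, by decide +kernel, by delta Mt.en Mt.g; rw [wA_eq]; ((try (rewrite [Cfsg.Agent.LsF.dMemE_pat, Cfsg.Agent.LsF.f5d459a_20.2, Cfsg.Agent.LsF.f5d459a_26.2, Cfsg.Agent.LsF.f5d459a_3.2, Cfsg.Agent.LsF.f5d459a_12.2, Cfsg.Agent.LsF.f5d459a_16.2, Cfsg.Agent.LsF.f5d459a_17.2, Cfsg.Agent.LsF.f5d459a_22.2, Cfsg.Agent.LsF.f5d459a_24.2, Cfsg.Agent.LsF.f5d459a_18.2, Cfsg.Agent.LsF.imod_pat, Cfsg.Agent.LsF.and_eq, Cfsg.Agent.LsF.or_eq, Cfsg.Agent.LsF.instDecEq_eq, Cfsg.Agent.LsF.decLt_eq, Cfsg.Agent.LsF.all_eq, Cfsg.Agent.LsF.any_eq, Cfsg.Agent.LsF.map_eq, Cfsg.Agent.LsF.instIDecEq_eq, Cfsg.Agent.LsF.idecLe_eq, Cfsg.Agent.LsF.dNot_eq, Cfsg.Agent.LsF.length_eq, Cfsg.Agent.LsF.decide_eq])); decide +kernel), .inr ⟨[(0, 1), (1, 3), (2, 5), (3, 11), (4, 17), (5, 39), (6, 65), (7, 139), (8, 261), (9, 531), (11, 1071), (13, 2115), (17, 4391)],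
    [0, 1, 2, 1, 3, 5, 1, 1, 4, 5, 3, 3, 3, 5, 2, 1, 1, 5, 5, 7, 11, 9, 5, 3, 3, 11, 3, 5, 5, 1, 9, 7, 5, 6, 11, 8, 5, 5, 5, 7, 11, 14, 5, 3,
    11, 3, 2, 1, 17, 13, 11, 29, 9, 7, 5, 5, 5, 5, 3, 1],
    by ((try (rewrite [Cfsg.Agent.LsF.f5d459a_34.2, Cfsg.Agent.LsF.f5d459a_26.2])); decide +kernel)⟩⟩

theorem E7_fin : E7_mt.Fn E7 E7_rg E7_nr :=
  ⟨[0x1120314320543120324315432065431203245600, 0x1020314312032543120324354654312032431543206543123453b, 0x1124312035431203245652e, 0x0, 0x0,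
    0x11232431235436543120324315636, 0x1012312034312034543120345654312345621, 0x0, 0x1020312343543654312345623, 0x0, 0x0,
    0x10123120324312032435431203243154326543120324315432065431234531, 0x12031203243120324315431203243154326543120324315432065431234530],
    by decide +kernel⟩

/-- the table of `E8` -/
def E8_mt : Mt where
  mu := [1, 1, 1, 1, 1, 1, 1, 1]
  si := [0, 1, 2, 3, 4, 5, 6, 7]
  b := 0
  ed := [(0, 2), (2, 3), (3, 1), (3, 4), (4, 5), (5, 6), (6, 7)]
  T := [⟨[-1], [1], 0, [], 0x1, [1, 1, 2, 1, 1, 1, 1, 1], [0x1], []⟩,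
    ⟨[1], [161280], 0, [],
      0x1012031203243120324315431203243154320654312032431543206543123456765431203243154320654312345676543120324315432065431234567, [1, 1, 1, 1, 1,
      1, 1, 1], [0x1], []⟩,
    ⟨[1, 1], [71798, 89482], 0, [], 0x112032431203243154326543120324315437654312032431543206543123456765431203243154365, [2, 1, 1, 1, 2, 1, 1,
      1], [0x1], []⟩,
    ⟨[1, 0], [898, 160383], 0, [], 0x1312354312034565431203243156765431203243154320654312376543120, [3, 1, 1, 1, 2, 1, 2, 1], [0x1], []⟩,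
    ⟨[1, 1, 1, 1], [28254, 57030, 108847, 128430], 1, [], 0x1203243154312036543123456765431203243154326543176, [1, 1, 2, 2, 2, 2, 2, 1], [0x1],
      []⟩,
    ⟨[1, -1], [71799, 89483], 0, [], 0x12031234312034543120324565431203456765431, [3, 1, 1, 1, 2, 1, 1, 3], [0x1], []⟩,
    ⟨[1, 1, 1, 1, 1, 1], [4751, 77772, 123922, 130388, 153942, 154348], 1, [4], 0x10314325465431234576543120324315432, [7, 1, 1, 2, 0, 3, 1, 1],
      [0x1, 0x14], [-1, 0]⟩,
    ⟨[1, 0, 0, 0], [61880, 73705, 87576, 99401], 1, [], 0x1312343154654312032431543207654, [2, 2, 2, 1, 3, 2, 2, 1], [0x1], []⟩,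
    ⟨[1, 0, 0, 1, 0, 0], [8306, 10302, 28330, 54644, 98331, 122649], 1, [5, 6], 0x112314312054312034565431203243154320676543123, [1, 1, 1, 1, 1,
      0, 0, 2], [0x1, 0x15, 0x16, 0x165, 0x156, 0x1565], [-1, 0, 0, 0, 0, 0]⟩,
    ⟨[1, -1, 1, -1], [32851, 52434, 104251, 133027], 1, [], 0x1131265431203476543120345, [1, 1, 1, 3, 2, 2, 3, 1], [0x1], []⟩,
    ⟨[1, 0, -1, 0], [36898, 37796, 123485, 124383], 1, [], 0x101203123431254365476, [1, 2, 1, 2, 2, 1, 3, 1], [0x1], []⟩,
    ⟨[1, -1, 1, -1, 1, -1], [6933, 7339, 30893, 37359, 83509, 156530], 2, [3], 0x101325431654312347, [1, 2, 1, 0, 2, 1, 1, 2], [0x1, 0x13], [-1,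
      0]⟩,
    ⟨[1, -1, 0, 1, -1, 1, 0, -1], [37912, 66339, 87664, 95605, 98527, 126051, 144753, 149555], 2, [], 0x11231465431203457, [1, 3, 1, 1, 1, 5, 4,
      2], [0x1], []⟩,
    ⟨[1, 0, 0, -1, 0, 0], [38632, 62950, 106637, 132951, 150979, 152975], 1, [3, 4], 0x1054312345654312032431543206765431, [2, 1, 1, 0, 0, 1, 1,
      1], [0x1, 0x13, 0x14, 0x143, 0x134, 0x1343], [-1, 0, 0, 0, 0, 0]⟩,
    ⟨[1, 0, -1, 0, 1, 0, -1, 0], [8320, 14225, 50975, 74418, 86863, 110306, 147056, 152961], 2, [], 0x1376543120324, [3, 1, 1, 2, 1, 3, 4, 3],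
      [0x1], []⟩,
    ⟨[1, 0, 0, 0, -1, 0, 0, 0], [6877, 46868, 52533, 80582, 80699, 108748, 114413, 154404], 2, [], 0x11203143657, [2, 4, 1, 1, 1, 3, 4, 1],
      [0x1], []⟩,
    ⟨[1, 1, 0, -1, -1, -1, 0, 1], [11726, 16528, 35230, 62754, 65676, 73617, 94942, 123369], 2, [], 0x114320765, [3, 3, 1, 1, 1, 1, 2, 1],
      [0x1], []⟩]
  D := [1, 3, 5, 3, 11, 7, 3, 17, 35, 9, 11, 7, 5, 3, 3, 39, 131, 43, 19, 35, 11, 11, 15, 11, 7, 7, 3, 65, 515, 137, 35, 1029, 257, 37, 39, 39,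
    131, 43, 19, 21, 39, 35, 13, 11, 15, 11, 11, 5, 7, 7, 3, 1035, 523, 163, 139, 8195, 2051, 1059, 547, 139, 67, 515, 35, 35, 1031, 259, 39,
    39, 39, 135, 131, 47, 43, 27, 23, 35, 11, 11, 15, 11, 7, 3, 65536, 32768, 16384, 4096, 1024, 2050, 1032, 8224, 512, 546, 1056, 128, 260,
    8194, 1058, 138, 514, 32, 34, 34, 1028, 36, 38, 42, 16, 34, 8, 10, 4, 2]

/-- the regular classes -/
def E8_rg : List ℕ := [0, 111, 110, 108, 106, 99, 93, 90, 86, 85, 84, 83, 82]

/-- the entries which are not regular -/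
def E8_nr : List (List ℕ × ℕ) := [([4], 0x10314325465431234576543120324315432), ([5, 6], 0x112314312054312034565431203243154320676543123), ([3], 0x101325431654312347), ([3,
    4], 0x1054312345654312032431543206765431)]

private noncomputable def _root_.Cfsg.Agent.LsF.f5d459a_35 : {f // @Cfsg.Agent.LV.W.E8 = f} := ⟨_, by first | (delta Cfsg.Agent.LV.W.E8; rewrite [Cfsg.Agent.LsF.f5d459a_9.2, Cfsg.Agent.LsF.ineg_pat, Cfsg.Agent.LsF.map_eq]; exact rfl) | exact rfl⟩
theorem E8_mk : E8_mt.Ok E8 :=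
  ⟨E8_ok.good, by decide +kernel, by delta Mt.en Mt.g; rw [wA_eq]; ((try (rewrite [Cfsg.Agent.LsF.dMemE_pat, Cfsg.Agent.LsF.f5d459a_20.2, Cfsg.Agent.LsF.f5d459a_35.2, Cfsg.Agent.LsF.f5d459a_3.2, Cfsg.Agent.LsF.f5d459a_12.2, Cfsg.Agent.LsF.f5d459a_16.2, Cfsg.Agent.LsF.f5d459a_17.2, Cfsg.Agent.LsF.f5d459a_22.2, Cfsg.Agent.LsF.f5d459a_24.2, Cfsg.Agent.LsF.f5d459a_18.2, Cfsg.Agent.LsF.imod_pat, Cfsg.Agent.LsF.and_eq, Cfsg.Agent.LsF.or_eq, Cfsg.Agent.LsF.instDecEq_eq, Cfsg.Agent.LsF.decLt_eq, Cfsg.Agent.LsF.all_eq, Cfsg.Agent.LsF.any_eq, Cfsg.Agent.LsF.map_eq, Cfsg.Agent.LsF.instIDecEq_eq, Cfsg.Agent.LsF.idecLe_eq, Cfsg.Agent.LsF.dNot_eq, Cfsg.Agent.LsF.length_eq, Cfsg.Agent.LsF.decide_eq])); decide +kernel), .inr ⟨[(0, 1), (1, 3), (2, 5), (3, 11), (4, 17), (5, 39), (6, 65), (7, 139), (8, 261), (9, 531), (11, 1071), (13, 2115), (14, 4117), (17, 8487),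
    (19, 16923), (23, 33967), (29, 70199)],
    [0, 1, 2, 1, 3, 5, 1, 4, 5, 3, 3, 5, 2, 1, 1, 5, 7, 11, 9, 5, 3, 3, 11, 3, 5, 5, 1, 6, 9, 7, 5, 11, 8, 5, 5, 5, 7, 11, 9, 14, 5, 5, 11, 3,
    11, 3, 3, 2, 5, 5, 1, 11, 19, 23, 7, 17, 13, 11, 29, 7, 13, 9, 5, 5, 11, 17, 5, 5, 5, 23, 7, 11, 11, 19, 29, 5, 3, 3, 11, 3, 5, 1, 29, 23,
    19, 14, 11, 13, 11, 17, 9, 29, 11, 7, 8, 17, 11, 7, 9, 5, 5, 5, 11, 5, 5, 11, 4, 5, 3, 3, 2, 1],
    by ((try (rewrite [Cfsg.Agent.LsF.f5d459a_34.2, Cfsg.Agent.LsF.f5d459a_35.2])); decide +kernel)⟩⟩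

theorem E8_fin : E8_mt.Fn E8 E8_rg E8_nr :=
  ⟨[0x10120431203254312032431543265431203243154376543120324315432065431234765431203243100,
    0x101231203243120324315431203243154320654312032431543206543123456765431203243154320654312345676543120324315432065431234566f,
    0x112324325431234565766e, 0x131203265431203276543120326c, 0x156a,
    0x12031203431203254312032431543206543120324315432065431234576543120324315432065431234567654312032431543206543123463, 0x0,
    0x11203123431203243154312032431543206543120324315432065431234567654312032431543206543123456765431203243154320654312345675d, 0x0,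
    0x112032431203243154312032431543265431203243154320654312345676543120324315432065431234567654312032431543206543123455a, 0x10345657656, 0x0,
    0x1132755, 0x0,
    0x101203120324312032431543120324315432065431203243154320654312345676543120324315432065431234567654312032431543206543123456754,
    0x10120312043120324354312032431543654312032431543206543123476543120324315432065431234567654312032431543206543123453, 0x1156752],
    by decide +kernel⟩

example := And.intro @En.fn.eq_1 @Mt.Fn.eq_1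

end Cfsg.Agent.MO.Mx
end

private theorem dce_d9a543df4148 : _root_.True := by
  try have : _root_.True := by simp only [_root_.Cfsg.Agent.MO.U.C2.el2.eq_1]
  try have : _root_.True := by simp only [_root_.Cfsg.Agent.MO.Mx.ix.congr_simp]
  try have : _root_.True := by simp only [_root_.Cfsg.Agent.MO.U.Hc.Lvl.eq_1]
  try have : _root_.True := by simp only [_root_.Cfsg.Agent.MO.Mx.Mt.od.eq_1]
  try have : _root_.True := by simp only [_root_.Cfsg.Agent.MO.U.Tb.m.eq_1]
  try have : _root_.True := by simp only [_root_.Cfsg.Agent.MO.Mx.wA.eq_1]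
  try have : _root_.True := by simp only [_root_.Cfsg.Agent.MO.U.Tb.bad.eq_1]
  try have : _root_.True := by simp only [_root_.Cfsg.Agent.MO.Mx.Ac.congr_simp]
  try have : _root_.True := by simp only [_root_.Cfsg.Agent.MO.Mx.ax.eq_1]
  try have : _root_.True := by simp only [_root_.Cfsg.Agent.MO.U.fil.eq_1]
  try have : _root_.True := by simp only [_root_.Cfsg.Agent.MO.Mx.En.fn.eq_1]
  try have : _root_.True := by simp only [_root_.Cfsg.Agent.MO.U.Hc.pw.eq_1]
  try have : _root_.True := by simp only [_root_.Cfsg.Agent.MO.Mx.Mt.en.eq_1]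
  try have : _root_.True := by simp only [_root_.Cfsg.Agent.MO.U.Hc.leaf.eq_1]
  try have : _root_.True := by simp only [_root_.Cfsg.Agent.MO.Mx.cz.congr_simp]
  try have : _root_.True := by simp only [_root_.Cfsg.Agent.MO.HC.casP.eq_1]
  try have : _root_.True := by simp only [_root_.Cfsg.Agent.MO.U.Tb.cv.eq_1]
  try have : _root_.True := by simp only [_root_.Cfsg.Agent.MO.Mx.cv.congr_simp]
  try have : _root_.True := by simp only [_root_.Cfsg.Agent.MO.Mx.ev.eq_1]
  try have : _root_.True := by simp only [_root_.Cfsg.Agent.MO.Mx.Mt.base.eq_1]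
  try have : _root_.True := by simp only [_root_.Cfsg.Agent.MO.U.Hc.fd.eq_1]
  try have : _root_.True := by simp only [_root_.Cfsg.Agent.MO.Mx.hm.congr_simp]
  try have : _root_.True := by simp only [_root_.Cfsg.Agent.MO.HC.PL.eq_1]
  try have : _root_.True := by simp only [_root_.Cfsg.Agent.MO.Mx.eV.eq_1]
  try have : _root_.True := by simp only [_root_.Cfsg.Agent.MO.Mx.bA.eq_1]
  try have : _root_.True := by simp only [_root_.Cfsg.Agent.MO.Mx.cz.eq_1]
  try have : _root_.True := by simp only [_root_.Cfsg.Agent.MO.U.Hc.side.eq_1]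
  try have : _root_.True := by simp only [_root_.Cfsg.Agent.MO.Mx.un.eq_1]
  try have : _root_.True := by simp only [_root_.Cfsg.Agent.MO.Mx.hm.eq_1]
  try have : _root_.True := by simp only [_root_.Cfsg.Agent.MO.U.hom.eq_1]
  try have : _root_.True := by simp only [_root_.Cfsg.Agent.MO.HC.PL.congr_simp]
  try have : _root_.True := by simp only [_root_.Cfsg.Agent.MO.Mx.cv.eq_1]
  try have : _root_.True := by simp only [_root_.Cfsg.Agent.MO.U.nr.eq_1]
  try have : _root_.True := by simp only [_root_.Cfsg.Agent.MO.U.Hc.chk.eq_1]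
  exact _root_.True.intro
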